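import Cfsg.Agent.Lib.Fus.HeUniq.Gen

/-!
# A central extension of `L₃(2)` in which involutions lift to involutions splits
-/

set_option autoImplicit false
set_option linter.style.haveILetI false
set_option linter.unusedSectionVars false
set_option maxRecDepth 100000

namespace Cfsg.Agent.Fus.HeUniq

/-- An involution of the linear group. -/
def u3 : SL3 := ⟨!![1, 1, 0; 0, 1, 0; 0, 0, 1], by decide⟩

/-- A second involution. -/
def v3 : SL3 := ⟨!![1, 0, 0; 0, 1, 1; 0, 0, 1], by decide⟩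

theorem uv3 : u3 * u3 = 1 ∧ v3 * v3 = 1 ∧ u3 ≠ 1 ∧ v3 ≠ 1 ∧ u3 * v3 * (u3 * v3) ≠ 1 ∧
    u3 * v3 * (u3 * v3) * (u3 * v3 * (u3 * v3)) = 1 ∧
    ((List.range 8).map fun i => (u3 * v3) ^ (i % 4) * u3 ^ (i / 4)).Nodup := by decide +kernel

theorem card_sl3 : Nat.card SL3 = 168 := by rw [Nat.card_eq_fintype_card]; decide +kernel

variable {P : Type*} [Group P] [Finite P]

/-- A character that is nontrivial on the central involution. -/
theorem exists_char {zb : P} (hz : ∀ g, zb * g = g * zb) (hz2 : zb * zb = 1) (hz1 : zb ≠ 1)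
    (π : P →* SL3) (hπ : Function.Surjective π) (hker : ∀ g, π g = 1 ↔ g = 1 ∨ g = zb)
    (hsq : ∀ g, π g * π g = 1 → π g ≠ 1 → g * g = 1) :
    ∃ ψ : P →* Multiplicative (ZMod 2), ψ zb ≠ 1 := by
  classical
  obtain ⟨hu2, hv2, hu1, hv1, hw1, hw4, hnd⟩ := uv3
  obtain ⟨A, hA⟩ := hπ u3
  obtain ⟨B, hB⟩ := hπ v3
  have hA2 : A * A = 1 := hsq A (by rw [hA, hu2]) (by rw [hA]; exact hu1)
  have hB2 : B * B = 1 := hsq B (by rw [hB, hv2]) (by rw [hB]; exact hv1)
  set r := A * B with hr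
  have hr4 : r ^ 4 = 1 := by
    have h := hsq (r * r) (by simp only [hr, map_mul, hA, hB, hw4]) (by simp only [hr, map_mul, hA, hB]; exact hw1)
    rw [show r ^ 4 = r * r * (r * r) by simp [pow_succ, mul_assoc]]
    exact h
  have hconj : A * r = r⁻¹ * A := by
    have : r⁻¹ = B * A := by
      rw [hr, mul_inv_rev, inv_eq_of_mul_eq_one_right hB2, inv_eq_of_mul_eq_one_right hA2]
    rw [this, hr, ← mul_assoc, hA2, one_mul, mul_assoc, hA2, mul_one]
  have hr3 : r⁻¹ = r ^ 3 := inv_eq_of_mul_eq_one_right (by rw [← pow_succ', hr4])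
  have hAn : ∀ n : ℕ, A * r ^ n = r ^ (3 * n) * A := by
    intro n
    induction n with
    | zero => simp
    | succ n ih =>
      rw [pow_succ, ← mul_assoc, ih, mul_assoc, hconj, hr3, ← mul_assoc, ← pow_add]
      ring_nf
  have hmod : ∀ n : ℕ, r ^ n = r ^ (n % 4) := fun n => by
    conv_lhs => rw [← Nat.mod_add_div n 4, pow_add, pow_mul, hr4, one_pow, mul_one]
  let el : Fin 8 → P := fun i => r ^ ((i : ℕ) % 4) * A ^ ((i : ℕ) / 4)
  let mk : Fin 4 → Fin 2 → Fin 8 := fun i j => ⟨i + 4 * j, by omega⟩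
  have hel : ∀ i j, el (mk i j) = r ^ (i : ℕ) * A ^ (j : ℕ) := fun i j => by
    simp only [el, mk]
    congr 2 <;> omega
  have hm : ∀ n : ℕ, ∀ j : Fin 2, ∃ k, el k = r ^ n * A ^ (j : ℕ) := fun n j =>
    ⟨mk ⟨n % 4, Nat.mod_lt _ (by norm_num)⟩ j, by rw [hel, hmod n]⟩
  let U : Subgroup P :=
    { carrier := Set.range el
      one_mem' := ⟨0, by simp [el]⟩
      mul_mem' := by
        rintro _ _ ⟨i, rfl⟩ ⟨k, rfl⟩
        rcases (by omega : (i : ℕ) / 4 = 0 ∨ (i : ℕ) / 4 = 1) with e | e <;>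
          rcases (by omega : (k : ℕ) / 4 = 0 ∨ (k : ℕ) / 4 = 1) with e' | e' <;>
          simp only [el, e, e', pow_zero, pow_one, mul_one]
        · obtain ⟨j, hj⟩ := hm ((i : ℕ) % 4 + (k : ℕ) % 4) 0
          exact ⟨j, by rw [← pow_add]; simpa [el] using hj⟩
        · obtain ⟨j, hj⟩ := hm ((i : ℕ) % 4 + (k : ℕ) % 4) 1
          exact ⟨j, by rw [← mul_assoc, ← pow_add]; simpa [el] using hj⟩
        · obtain ⟨j, hj⟩ := hm ((i : ℕ) % 4 + 3 * ((k : ℕ) % 4)) 1
          exact ⟨j, by rw [mul_assoc, hAn, ← mul_assoc, ← pow_add]; simpa [el] using hj⟩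
        · obtain ⟨j, hj⟩ := hm ((i : ℕ) % 4 + 3 * ((k : ℕ) % 4)) 0
          exact ⟨j, by rw [← mul_assoc, mul_assoc _ A, hAn, ← mul_assoc, ← pow_add, mul_assoc, hA2, mul_one]; simpa [el] using hj⟩
      inv_mem' := by
        rintro _ ⟨i, rfl⟩
        rcases (by omega : (i : ℕ) / 4 = 0 ∨ (i : ℕ) / 4 = 1) with e | e <;>
          simp only [el, e, pow_zero, pow_one, mul_one]
        · obtain ⟨j, hj⟩ := hm (3 * ((i : ℕ) % 4)) 0
          refine ⟨j, ?_⟩
          rw [show (r ^ ((i : ℕ) % 4))⁻¹ = r ^ (3 * ((i : ℕ) % 4)) by rw [pow_mul, ← hr3, inv_pow]]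
          simpa [el] using hj
        · refine ⟨i, ?_⟩
          simp only [el, e, pow_one]
          refine eq_inv_of_mul_eq_one_left ?_
          rw [mul_assoc, ← mul_assoc A, hAn, ← mul_assoc, ← mul_assoc, ← pow_add, mul_assoc, hA2, mul_one,
            show (i : ℕ) % 4 + 3 * ((i : ℕ) % 4) = 4 * ((i : ℕ) % 4) by omega, pow_mul, hr4, one_pow] }
  have hπel : ∀ i : Fin 8, π (el i) = ((List.range 8).map fun j => (u3 * v3) ^ (j % 4) * u3 ^ (j / 4))[(i : ℕ)]'(by simp) :=
    fun i => by simp [el, hr, map_mul, map_pow, hA, hB]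
  have hπinj : ∀ i j : Fin 8, π (el i) = π (el j) → i = j := fun i j h => by
    rw [hπel, hπel] at h
    exact Fin.ext (hnd.getElem_inj_iff.1 h)
  have hzU : ∀ u ∈ U, π u = 1 → u = 1 := by
    rintro _ ⟨i, rfl⟩ h
    rw [hπinj i 0 (h.trans (by simp [el]))]
    simp [el]
  have hU : Nat.card U = 8 := by
    show Nat.card (Set.range el) = 8
    rw [Nat.card_range_of_injective fun i j h => hπinj i j (congrArg π h), Nat.card_eq_fintype_card,
      Fintype.card_fin]
  have hzbU : zb ∉ U := fun h => hz1 (hzU zb h ((hker zb).2 (Or.inr rfl)))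
  let T : Subgroup P :=
    { carrier := {g | g ∈ U ∨ zb * g ∈ U}
      one_mem' := Or.inl U.one_mem
      mul_mem' := by
        rintro g h (hg | hg) (hh | hh)
        · exact Or.inl (U.mul_mem hg hh)
        · exact Or.inr (by rw [← mul_assoc, hz g, mul_assoc]; exact U.mul_mem hg hh)
        · exact Or.inr (by rw [← mul_assoc]; exact U.mul_mem hg hh)
        · refine Or.inl ?_
          have : zb * g * (zb * h) = g * h := by
            rw [hz g, mul_assoc, ← mul_assoc zb zb, hz2, one_mul]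
          exact this ▸ U.mul_mem hg hh
      inv_mem' := by
        rintro g (hg | hg)
        · exact Or.inl (U.inv_mem hg)
        · refine Or.inr ?_
          have : (zb * g)⁻¹ = zb * g⁻¹ := by
            rw [mul_inv_rev, inv_eq_of_mul_eq_one_right hz2, hz]
          exact this ▸ U.inv_mem hg }
  have hzT : zb ∈ T := Or.inr (by rw [hz2]; exact U.one_mem)
  have hUT : U ≤ T := fun u hu => Or.inl hu
  have hidx : (U.subgroupOf T).index = 2 := by
    rw [Subgroup.index_eq_two_iff]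
    refine ⟨⟨zb, hzT⟩, fun g => ?_⟩
    simp only [Subgroup.mem_subgroupOf, Subgroup.coe_mul]
    by_cases hgU : (g : P) ∈ U
    · exact Or.inr ⟨hgU, fun h => hzbU (by simpa using U.mul_mem (U.inv_mem hgU) h)⟩
    · refine Or.inl ⟨?_, hgU⟩
      rcases g.2 with h | h
      · exact absurd h hgU
      · rwa [← hz]
  haveI : (U.subgroupOf T).Normal := Subgroup.normal_of_index_eq_two hidx
  let χ : T →* Multiplicative (ZMod 2) := MonoidHom.mk'
    (fun g => Multiplicative.ofAdd (if (g : P) ∈ U then 0 else 1)) fun g h => by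
      have := Subgroup.mul_mem_iff_of_index_two hidx (a := g) (b := h)
      simp only [Subgroup.mem_subgroupOf, Subgroup.coe_mul] at this
      rw [← ofAdd_add, Subgroup.coe_mul]
      congr 1
      by_cases h1 : (g : P) ∈ U <;> by_cases h2 : (h : P) ∈ U <;> simp [this, h1, h2]
      decide
  have hT : Nat.card T = 16 := by
    have h1 := Subgroup.card_mul_index (U.subgroupOf T)
    rw [hidx, Nat.card_congr (Subgroup.subgroupOfEquivOfLe hUT).toEquiv, hU] at h1
    exact h1.symm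
  have hP : Nat.card P = 2 * 168 := by
    rw [← Subgroup.card_mul_index π.ker, Subgroup.index_ker, MonoidHom.range_eq_top.2 hπ, Subgroup.card_top,
      card_sl3]
    congr 1
    rw [Nat.card_eq_two_iff]
    refine ⟨1, ⟨zb, (hker zb).2 (Or.inr rfl)⟩, fun h => hz1 (congrArg Subtype.val h).symm, ?_⟩
    ext g
    simp only [Set.mem_insert_iff, Set.mem_singleton_iff, Set.mem_univ, iff_true]
    rcases (hker g).1 g.2 with h | h
    · exact Or.inl (Subtype.ext h)
    · exact Or.inr (Subtype.ext h)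
  refine ⟨MonoidHom.transfer χ, fun h => ?_⟩
  have hpow : ∀ k : ℕ, ∀ g0 : P, g0⁻¹ * zb ^ k * g0 ∈ T → g0⁻¹ * zb ^ k * g0 = zb ^ k := fun k g0 _ => by
    rw [mul_assoc, (show Commute zb g0 from hz g0).pow_left k, inv_mul_cancel_left]
  rw [MonoidHom.transfer_eq_pow χ zb hpow] at h
  have hi : T.index = 21 := by
    have := Subgroup.card_mul_index T
    rw [hT, hP] at this
    omega
  have e : zb ^ T.index = zb := by
    rw [hi, show (21 : ℕ) = 2 * 10 + 1 from rfl, pow_succ, pow_mul, pow_two, hz2, one_pow, one_mul]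
  have hmem : zb ^ T.index ∈ T := T.pow_mem hzT _
  have : χ ⟨zb, hzT⟩ = 1 := by
    rw [← h]
    congr 1
    exact Subtype.ext e.symm
  simp [χ, hzbU] at this

end Cfsg.Agent.Fus.HeUniq
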