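import Cfsg.Agent.Lib.Fus.HeUniq.Frame

/-!
# The action on an extraspecial normal subgroup, in codes

`lin c` is the linear map of the conjugation by `c` in the coordinates of a frame.
-/

set_option autoImplicit false
set_option linter.style.haveILetI false
set_option linter.unusedSectionVars false
set_option maxRecDepth 100000

namespace Cfsg.Agent.Fus.HeUniq

theorem app_xor (L u v : ℕ) : app L (u ^^^ v) = app L u ^^^ app L v := by
  have key : ∀ (a b : Bool) (c : ℕ),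
      (bif a ^^ b then c else 0) = (bif a then c else 0) ^^^ (bif b then c else 0) := by
    intro a b c; cases a <;> cases b <;> simp
  simp only [app, Nat.testBit_xor, key]
  ac_rfl

theorem app_pow (L : ℕ) (k : Fin 6) : app L (2 ^ (k : ℕ)) = col L k := by
  fin_cases k <;> simp [app, Nat.testBit]

theorem col_lt (L i : ℕ) : col L i < 64 := lt_of_le_of_lt Nat.and_le_right (by norm_num)

theorem app_lt (L u : ℕ) : app L u < 64 := by
  have h : ∀ b : Bool, ∀ i, (bif b then col L i else 0) < 2 ^ 6 := fun b i => by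
    cases b <;> simp [col_lt]
  exact Nat.xor_lt_two_pow (Nat.xor_lt_two_pow (Nat.xor_lt_two_pow (Nat.xor_lt_two_pow
    (Nat.xor_lt_two_pow (h _ _) (h _ _)) (h _ _)) (h _ _)) (h _ _)) (h _ _)

theorem col_pk6 {a b c d e f : ℕ} (ha : a < 64) (hb : b < 64) (hc : c < 64) (hd : d < 64) (he : e < 64)
    (hf : f < 64) (i : Fin 6) : col (pk6 a b c d e f) i = ![a, b, c, d, e, f] i := by
  have step : ∀ (a r k : ℕ), a < 64 → (a + 64 * r) / 2 ^ (6 * (k + 1)) = r / 2 ^ (6 * k) := fun a r k h => by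
    rw [mul_add, pow_add, mul_comm (2 ^ (6 * k)), ← Nat.div_div_eq_div_mul]
    congr 1
    omega
  unfold col pk6
  rw [Nat.shiftRight_eq_div_pow, show (63 : ℕ) = 2 ^ 6 - 1 from rfl, Nat.and_two_pow_sub_one_eq_mod]
  obtain ⟨i, hi⟩ := i
  interval_cases i
  · show (a + 64 * _) / 2 ^ (6 * 0) % 2 ^ 6 = a
    rw [Nat.mul_zero, pow_zero, Nat.div_one]
    omega
  · show _ / 2 ^ (6 * (0 + 1)) % 2 ^ 6 = b
    rw [step _ _ 0 ha]
    rw [Nat.mul_zero, pow_zero, Nat.div_one]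
    omega
  · show _ / 2 ^ (6 * (1 + 1)) % 2 ^ 6 = c
    rw [step _ _ 1 ha]
    rw [step _ _ 0 hb]
    rw [Nat.mul_zero, pow_zero, Nat.div_one]
    omega
  · show _ / 2 ^ (6 * (2 + 1)) % 2 ^ 6 = d
    rw [step _ _ 2 ha]
    rw [step _ _ 1 hb]
    rw [step _ _ 0 hc]
    rw [Nat.mul_zero, pow_zero, Nat.div_one]
    omega
  · show _ / 2 ^ (6 * (3 + 1)) % 2 ^ 6 = e
    rw [step _ _ 3 ha]
    rw [step _ _ 2 hb]
    rw [step _ _ 1 hc]
    rw [step _ _ 0 hd]
    rw [Nat.mul_zero, pow_zero, Nat.div_one]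
    omega
  · show _ / 2 ^ (6 * (4 + 1)) % 2 ^ 6 = f
    rw [step _ _ 4 ha]
    rw [step _ _ 3 hb]
    rw [step _ _ 2 hc]
    rw [step _ _ 1 hd]
    rw [step _ _ 0 he]
    rw [Nat.mul_zero, pow_zero, Nat.div_one]
    omega

theorem mulQ_low : ∀ n m : Fin 128, mulQ n m &&& 63 = (n &&& 63 : ℕ) ^^^ (m &&& 63 : ℕ) := by decide +kernel

theorem mulQ_self : ∀ n : Fin 128, mulQ n n = bif qf (n &&& 63 : ℕ) then 64 else 0 := by decide +kernel

theorem mulQ_comm : ∀ n m : Fin 128,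
    mulQ n m = mulQ (mulQ m n) (bif bf (n &&& 63 : ℕ) (m &&& 63 : ℕ) then 64 else 0) := by decide +kernel

theorem mulQ_cancel : ∀ n m : Fin 128, mulQ n (mulQ (mulQ (mulQ n n) n) m) = m := by decide +kernel

theorem mulQ_div (n m : Fin 128) : ∃ d : Fin 128, mulQ n d = m :=
  ⟨⟨_, mulQ_lt ⟨_, mulQ_lt ⟨_, mulQ_lt n n⟩ n⟩ m⟩, mulQ_cancel n m⟩

theorem mulQ_detect : ∀ n : Fin 128, (n : ℕ) ≠ 0 → (n : ℕ) ≠ 64 →
    ∃ k : Fin 7, mulQ n (2 ^ (k : ℕ)) = mulQ (mulQ (2 ^ (k : ℕ)) n) 64 := by decide +kernel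

theorem mulQ_inner' : ∀ e : Fin 64, ∀ i : Fin 6,
    mulQ ((e : ℕ) >>> 3 + 8 * ((e : ℕ) &&& 7)) (2 ^ (i : ℕ)) =
      mulQ (2 ^ (i : ℕ) + bif Nat.testBit e i then 64 else 0) ((e : ℕ) >>> 3 + 8 * ((e : ℕ) &&& 7)) := by
  decide +kernel

theorem mulQ_inner_lt : ∀ e : Fin 64, (e : ℕ) >>> 3 + 8 * ((e : ℕ) &&& 7) < 128 := by decide +kernel

theorem mulQ_inner (e : Fin 64) : ∃ m : Fin 128, ∀ i : Fin 6,
    mulQ m (2 ^ (i : ℕ)) = mulQ (2 ^ (i : ℕ) + bif Nat.testBit e i then 64 else 0) m :=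
  ⟨⟨_, mulQ_inner_lt e⟩, mulQ_inner' e⟩

theorem low_step : ∀ m : Fin 128, ∀ k : Fin 7, mulQ m (2 ^ (k : ℕ)) &&& 63 =
    (m &&& 63 : ℕ) ^^^ (if (k : ℕ) < 6 then 2 ^ (k : ℕ) else 0) := by decide +kernel

section Frame

variable {H : Type*} [Group H] {z : H} {x w : Fin 3 → H} (fr : Frame z x w)
include fr

theorem Frame.theta_zero : theta z x w 0 = 1 := by
  simp only [theta, word, bitsX, bitsW, Nat.zero_testBit, bpow, cond_false, mul_one]

theorem Frame.theta_z : theta z x w 64 = z := by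
  have h := fr.theta_pow 6
  exact h.trans rfl

theorem Frame.theta_inj : ∀ n m : Fin 128, theta z x w n = theta z x w m → n = m := by
  intro n m h
  obtain ⟨d, hd⟩ := mulQ_div n m
  have h1 : theta z x w d = 1 := by
    have := fr.theta_mul n d
    rw [hd, ← h] at this
    exact mul_eq_left.1 this.symm
  suffices hd0 : (d : ℕ) = 0 by
    rw [hd0, mulQ_zero] at hd
    exact Fin.ext hd
  by_contra hd0
  rcases eq_or_ne (d : ℕ) 64 with e | e
  · rw [e, fr.theta_z] at h1; exact fr.zne h1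
  · obtain ⟨k, hk⟩ := mulQ_detect d hd0 e
    have hk2 : (2 : ℕ) ^ (k : ℕ) < 128 := lt_of_le_of_lt (Nat.pow_le_pow_right (by norm_num) (by omega : (k : ℕ) ≤ 6)) (by norm_num)
    have e1 := fr.theta_mul d ⟨2 ^ (k : ℕ), hk2⟩
    have e2 := fr.theta_mul ⟨mulQ (2 ^ (k : ℕ)) d, mulQ_lt ⟨_, hk2⟩ d⟩ ⟨64, by norm_num⟩
    have e3 := fr.theta_mul ⟨2 ^ (k : ℕ), hk2⟩ d
    simp only at e1 e2 e3
    rw [hk, e2, e3, h1, mul_one, one_mul, fr.theta_z] at e1
    exact fr.zne (mul_eq_left.1 e1)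

end Frame

/-- A frame of a normal subgroup containing its centraliser. -/
structure Setting {H : Type*} [Group H] (Q : Subgroup H) (z : H) (x w : Fin 3 → H) : Prop where
  frame : Frame z x w
  normal : Q.Normal
  mem : ∀ n : Fin 128, theta z x w n ∈ Q
  surj : ∀ q ∈ Q, ∃ n : Fin 128, theta z x w n = q
  cent : Subgroup.centralizer (Q : Set H) ≤ Q

section Setting

variable {H : Type*} [Group H] {Q : Subgroup H} {z : H} {x w : Fin 3 → H} (st : Setting Q z x w)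
include st

theorem Setting.exists_conj (c : H) (n : Fin 128) :
    ∃ k : Fin 128, c * theta z x w n * c⁻¹ = theta z x w k := by
  obtain ⟨k, hk⟩ := st.surj _ (st.normal.conj_mem _ (st.mem n) c)
  exact ⟨k, hk.symm⟩

/-- The code of a conjugate. -/
noncomputable def Setting.cj (c : H) (n : ℕ) : Fin 128 := (st.exists_conj c (Fin.ofNat 128 n)).choose

theorem Setting.cj_spec (c : H) (n : Fin 128) :
    c * theta z x w n * c⁻¹ = theta z x w (st.cj c n) := by
  have e : Fin.ofNat 128 (n : ℕ) = n := Fin.ext (Nat.mod_eq_of_lt n.2)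
  have key : ∀ m : Fin 128, m = n → c * theta z x w n * c⁻¹ = theta z x w (st.exists_conj c m).choose := by
    rintro m rfl
    exact (st.exists_conj c m).choose_spec
  exact key _ e

theorem Setting.cj_unique {c : H} {n k : Fin 128} (h : c * theta z x w n * c⁻¹ = theta z x w k) :
    st.cj c n = k :=
  st.frame.theta_inj _ _ ((st.cj_spec c n).symm.trans h)

theorem Setting.cj_mul (c : H) (n m : Fin 128) :
    st.cj c (mulQ n m) = ⟨mulQ (st.cj c n) (st.cj c m), mulQ_lt _ _⟩ :=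
  st.cj_unique (n := ⟨mulQ n m, mulQ_lt n m⟩) (by
    simp only [st.frame.theta_mul, ← st.cj_spec]
    group)

theorem Setting.cj_comp (c d : H) (n : Fin 128) : st.cj (c * d) n = st.cj c (st.cj d n) :=
  st.cj_unique (by rw [← st.cj_spec c, ← st.cj_spec d]; group)

theorem Setting.cj_z (c : H) : st.cj c 64 = (64 : Fin 128) :=
  st.cj_unique (n := (64 : Fin 128)) (by
    show c * theta z x w 64 * c⁻¹ = theta z x w 64
    rw [st.frame.theta_z, ← st.frame.zc, mul_inv_cancel_right])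

/-- The linear map of an element. -/
noncomputable def Setting.lin (c : H) : ℕ :=
  pk6 ((st.cj c 1 : ℕ) &&& 63) ((st.cj c 2 : ℕ) &&& 63) ((st.cj c 4 : ℕ) &&& 63) ((st.cj c 8 : ℕ) &&& 63)
    ((st.cj c 16 : ℕ) &&& 63) ((st.cj c 32 : ℕ) &&& 63)

theorem Setting.col_lin (c : H) (i : Fin 6) : col (st.lin c) i = (st.cj c (2 ^ (i : ℕ)) : ℕ) &&& 63 := by
  have h : ∀ n : ℕ, n &&& 63 < 64 := fun n => lt_of_le_of_lt Nat.and_le_right (by norm_num)
  rw [Setting.lin, col_pk6 (h _) (h _) (h _) (h _) (h _) (h _)]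
  fin_cases i <;> rfl

theorem Setting.app_lin (c : H) (n : Fin 128) :
    app (st.lin c) (n &&& 63 : ℕ) = (st.cj c n : ℕ) &&& 63 := by
  induction hn : (n : ℕ) using Nat.strong_induction_on generalizing n with
  | _ v ih =>
    subst hn
    rcases Nat.eq_zero_or_pos (n : ℕ) with h | h
    · have h0 : st.cj c 0 = (0 : Fin 128) := st.cj_unique (n := (0 : Fin 128)) (by
        show c * theta z x w 0 * c⁻¹ = theta z x w 0
        rw [st.frame.theta_zero]; group)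
      rw [h, h0]; simp [app]
    · obtain ⟨k, m, hlt, e⟩ := mulQ_pred n h.ne'
      have hk2 : (2 : ℕ) ^ (k : ℕ) < 128 := lt_of_le_of_lt (Nat.pow_le_pow_right (by norm_num) (by omega : (k : ℕ) ≤ 6)) (by norm_num)
      have hm := st.cj_mul c m ⟨2 ^ (k : ℕ), hk2⟩
      simp only at hm
      rw [← e, low_step m k, app_xor, ih m hlt m rfl, hm]
      simp only
      rw [mulQ_low]
      congr 1
      rcases (by omega : (k : ℕ) < 6 ∨ (k : ℕ) = 6) with hk | hk
      · rw [if_pos hk, app_pow (st.lin c) ⟨k, hk⟩, st.col_lin]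
      · rw [if_neg (by omega), hk, show (2 : ℕ) ^ 6 = 64 from rfl, st.cj_z]
        simp [app]

theorem Setting.isIso_lin (c : H) : isIso (st.lin c) = true := by
  simp only [isIso, List.all_eq_true, List.mem_range, Bool.and_eq_true]
  intro i hi
  have hlow : ∀ i : Fin 6, (2 ^ (i : ℕ)) < 128 ∧ qf (2 ^ (i : ℕ) &&& 63) = false ∧ 2 ^ (i : ℕ) &&& 63 = 2 ^ (i : ℕ) := by
    decide
  obtain ⟨h2, hq, hm⟩ := hlow ⟨i, hi⟩
  refine ⟨?_, fun j hj => ?_⟩
  · have hs := st.cj_mul c ⟨2 ^ i, h2⟩ ⟨2 ^ i, h2⟩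
    have e := mulQ_self ⟨2 ^ i, h2⟩
    simp only at e hs hq
    rw [e, hq] at hs
    have h0 : st.cj c 0 = (0 : Fin 128) := st.cj_unique (n := (0 : Fin 128)) (by
      show c * theta z x w 0 * c⁻¹ = theta z x w 0
      rw [st.frame.theta_zero]; group)
    simp only [cond_false, h0] at hs
    have e2 := mulQ_self (st.cj c (2 ^ i))
    have hs' : mulQ (st.cj c (2 ^ i)) (st.cj c (2 ^ i)) = 0 := (congrArg Fin.val hs).symm
    rw [hs', ← st.col_lin c ⟨i, hi⟩] at e2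
    simp only at e2 ⊢
    cases hb : qf (col (st.lin c) i)
    · rfl
    · rw [hb] at e2; simp at e2
  · obtain ⟨h2', -, hm'⟩ := hlow ⟨j, by omega⟩
    have e := mulQ_comm ⟨2 ^ i, h2⟩ ⟨2 ^ j, h2'⟩
    simp only at e hm hm'
    rw [hm, hm'] at e
    have a1 := st.cj_mul c ⟨2 ^ i, h2⟩ ⟨2 ^ j, h2'⟩
    have a2 := st.cj_mul c ⟨2 ^ j, h2'⟩ ⟨2 ^ i, h2⟩
    set t : ℕ := bif bf (2 ^ i) (2 ^ j) then 64 else 0 with ht
    have ht2 : t < 128 := by rw [ht]; cases bf (2 ^ i) (2 ^ j) <;> simp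
    have a3 := st.cj_mul c ⟨mulQ (2 ^ j) (2 ^ i), mulQ_lt ⟨_, h2'⟩ ⟨_, h2⟩⟩ ⟨t, ht2⟩
    simp only at a1 a2 a3
    rw [e] at a1
    have hct : (st.cj c t : ℕ) = t := by
      rw [ht]
      cases bf (2 ^ i) (2 ^ j)
      · have h0 : st.cj c 0 = (0 : Fin 128) := st.cj_unique (n := (0 : Fin 128)) (by
          show c * theta z x w 0 * c⁻¹ = theta z x w 0
          rw [st.frame.theta_zero]; group)
        simp [h0]
      · simp [st.cj_z]
    have key := congrArg Fin.val (a1.symm.trans a3)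
    simp only [a2, hct] at key
    have e2 := mulQ_comm (st.cj c (2 ^ i)) (st.cj c (2 ^ j))
    rw [key, ← st.col_lin c ⟨i, hi⟩, ← st.col_lin c ⟨j, by omega⟩] at e2
    have inj : ∀ n : Fin 128, mulQ n 64 ≠ mulQ n 0 := by decide +kernel
    have hlt := mulQ_lt (st.cj c (2 ^ j)) (st.cj c (2 ^ i))
    simp only at e2
    rw [ht] at e2
    rw [beq_iff_eq]
    cases h1 : bf (col (st.lin c) i) (col (st.lin c) j) <;> cases h3 : bf (2 ^ i) (2 ^ j) <;> simp only [h1, h3, cond_true, cond_false] at e2 ⊢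
    · exact absurd e2 (inj ⟨_, hlt⟩)
    · exact absurd e2.symm (inj ⟨_, hlt⟩)

theorem Setting.lin_mul (c d : H) : st.lin (c * d) = comp (st.lin c) (st.lin d) := by
  have h : ∀ i : Fin 6, app (st.lin c) (col (st.lin d) i) = (st.cj (c * d) (2 ^ (i : ℕ)) : ℕ) &&& 63 := by
    intro i
    have h2 : ∀ i : Fin 6, 2 ^ (i : ℕ) < 128 := by decide
    rw [st.col_lin, st.app_lin, ← st.cj_comp c d ⟨_, h2 i⟩]
  show _ = pk6 (app (st.lin c) (col (st.lin d) ((0 : Fin 6) : ℕ))) (app (st.lin c) (col (st.lin d) ((1 : Fin 6) : ℕ)))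
    (app (st.lin c) (col (st.lin d) ((2 : Fin 6) : ℕ))) (app (st.lin c) (col (st.lin d) ((3 : Fin 6) : ℕ)))
    (app (st.lin c) (col (st.lin d) ((4 : Fin 6) : ℕ))) (app (st.lin c) (col (st.lin d) ((5 : Fin 6) : ℕ)))
  rw [h 0, h 1, h 2, h 3, h 4, h 5]; rfl

theorem Setting.lin_one : st.lin 1 = one6 := by
  have h : ∀ n : Fin 128, st.cj 1 n = n := fun n => st.cj_unique (by group)
  simp [Setting.lin, one6, show ∀ n : ℕ, (hn : n < 128) → st.cj 1 n = ⟨n, hn⟩ from fun n hn => h ⟨n, hn⟩]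

theorem Setting.lin_mem {q : H} (hq : q ∈ Q) : st.lin q = one6 := by
  obtain ⟨m, rfl⟩ := st.surj q hq
  have h : ∀ n : Fin 128, (st.cj (theta z x w m) n : ℕ) &&& 63 = (n &&& 63 : ℕ) := by
    intro n
    obtain ⟨d, hd⟩ := mulQ_div m ⟨0, by norm_num⟩
    have hinv : (theta z x w m)⁻¹ = theta z x w d := by
      refine inv_eq_of_mul_eq_one_right ?_
      rw [← st.frame.theta_mul, hd, st.frame.theta_zero]
    have e : st.cj (theta z x w m) n = ⟨mulQ (mulQ m n) d, mulQ_lt ⟨_, mulQ_lt m n⟩ d⟩ := by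
      refine st.cj_unique ?_
      rw [hinv, ← st.frame.theta_mul m n]
      exact (st.frame.theta_mul ⟨_, mulQ_lt m n⟩ d).symm
    have hd' := congrArg (· &&& 63) hd
    simp only [mulQ_low] at hd'
    rw [Nat.zero_and] at hd'
    have e1 := mulQ_low ⟨_, mulQ_lt m n⟩ d
    simp only at e1
    rw [e, e1, mulQ_low]
    calc ((m : ℕ) &&& 63) ^^^ ((n : ℕ) &&& 63) ^^^ ((d : ℕ) &&& 63)
        = ((n : ℕ) &&& 63) ^^^ (((m : ℕ) &&& 63) ^^^ ((d : ℕ) &&& 63)) := by ac_rfl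
      _ = _ := by rw [hd', Nat.xor_zero]
  simp only [Setting.lin]
  rw [show (1 : ℕ) = ((1 : Fin 128) : ℕ) from rfl, show (2 : ℕ) = ((2 : Fin 128) : ℕ) from rfl,
    show (4 : ℕ) = ((4 : Fin 128) : ℕ) from rfl, show (8 : ℕ) = ((8 : Fin 128) : ℕ) from rfl,
    show (16 : ℕ) = ((16 : Fin 128) : ℕ) from rfl, show (32 : ℕ) = ((32 : Fin 128) : ℕ) from rfl]
  simp only [h]
  rfl

theorem Setting.mem_of_lin {c : H} (h : st.lin c = one6) : c ∈ Q := by
  have hp : ∀ i : Fin 6, 2 ^ (i : ℕ) < 128 ∧ col one6 i = 2 ^ (i : ℕ) := by decide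
  let e : ℕ := (List.range 6).foldl (fun a i => a + (bif epsQ (st.cj c (2 ^ i)) then 2 ^ i else 0)) 0
  let f : Fin 6 → Bool := fun i => epsQ (st.cj c (2 ^ (i : ℕ)))
  obtain ⟨e, he⟩ : ∃ e : Fin 64, ∀ i : Fin 6, Nat.testBit e i = f i := by
    have : ∀ f : Fin 6 → Bool, ∃ e : Fin 64, ∀ i : Fin 6, Nat.testBit e i = f i := by decide +kernel
    exact this f
  obtain ⟨m, hm⟩ := mulQ_inner e
  have hsplit : ∀ n : Fin 128, (n : ℕ) = (n &&& 63 : ℕ) + (bif epsQ n then 64 else 0) := by decide +kernel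
  have hg : ∀ i : Fin 6, c * theta z x w (2 ^ (i : ℕ)) * c⁻¹ =
      theta z x w m * theta z x w (2 ^ (i : ℕ)) * (theta z x w m)⁻¹ := by
    intro i
    have hc := st.col_lin c i
    rw [h, (hp i).2] at hc
    have e1 := hm i
    rw [he i] at e1
    have hk : (st.cj c (2 ^ (i : ℕ)) : ℕ) = 2 ^ (i : ℕ) + bif f i then 64 else 0 := by
      conv_lhs => rw [hsplit (st.cj c (2 ^ (i : ℕ)))]
      rw [← hc]
    rw [← hk] at e1
    rw [show c * theta z x w (2 ^ (i : ℕ)) * c⁻¹ = _ from st.cj_spec c ⟨_, (hp i).1⟩, eq_mul_inv_iff_mul_eq,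
      ← st.frame.theta_mul, ← e1, ← st.frame.theta_mul m ⟨_, (hp i).1⟩]
  have hcen : (theta z x w m)⁻¹ * c ∈ Subgroup.centralizer (Q : Set H) := by
    refine Subgroup.mem_centralizer_iff.2 fun q hq => ?_
    obtain ⟨n, rfl⟩ := st.surj q hq
    show _ = _
    induction hn : (n : ℕ) using Nat.strong_induction_on generalizing n with
    | _ v ih =>
      subst hn
      rcases Nat.eq_zero_or_pos (n : ℕ) with h0 | h0
      · rw [h0, st.frame.theta_zero]; group
      · obtain ⟨k, n', hlt, e'⟩ := mulQ_pred n h0.ne'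
        have hk2 : (2 : ℕ) ^ (k : ℕ) < 128 := lt_of_le_of_lt (Nat.pow_le_pow_right (by norm_num) (by omega : (k : ℕ) ≤ 6)) (by norm_num)
        have hk : theta z x w (2 ^ (k : ℕ)) * ((theta z x w m)⁻¹ * c) =
            (theta z x w m)⁻¹ * c * theta z x w (2 ^ (k : ℕ)) := by
          rcases (by omega : (k : ℕ) < 6 ∨ (k : ℕ) = 6) with hk | hk
          · have := hg ⟨k, hk⟩
            simp only at this
            calc theta z x w (2 ^ (k : ℕ)) * ((theta z x w m)⁻¹ * c)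
                = (theta z x w m)⁻¹ * (theta z x w m * theta z x w (2 ^ (k : ℕ)) * (theta z x w m)⁻¹) * c := by group
              _ = (theta z x w m)⁻¹ * (c * theta z x w (2 ^ (k : ℕ)) * c⁻¹) * c := by rw [this]
              _ = _ := by group
          · rw [hk, show (2 : ℕ) ^ 6 = 64 from rfl, st.frame.theta_z]
            exact st.frame.zc _
        rw [← e', show theta z x w (mulQ n' (2 ^ (k : ℕ))) = _ from st.frame.theta_mul n' ⟨_, hk2⟩, mul_assoc,
          show theta z x w ((⟨2 ^ (k : ℕ), hk2⟩ : Fin 128) : ℕ) = theta z x w (2 ^ (k : ℕ)) from rfl, hk,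
          ← mul_assoc, ih n' hlt n' (st.mem n') rfl, mul_assoc]
  have := Q.mul_mem (st.mem m) (st.cent hcen)
  simpa using this

end Setting

end Cfsg.Agent.Fus.HeUniq
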