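import Cfsg.Agent.Lib.Fus.HeUniq.Sit

/-!
# Bounds for the number of pairs attached to the central involution
-/

set_option autoImplicit false
set_option linter.style.haveILetI false
set_option linter.unusedSectionVars false
set_option maxRecDepth 100000

namespace Cfsg.Agent.Fus.HeUniq

/-- The codes of the involutions of a fused or of an unfused class. -/
def invsSel (ids : List ℕ) (b : Bool) : List ℕ :=
  (invTabSN.filter fun e => bif b then fSet ids e.2.1 else !fSet ids e.2.1).map Prod.fst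

/-- The third power of a product reaches the central involution. -/
def rootC (r y : ℕ) : Bool :=
  let p := mulN r y
  let p2 := mulN p p
  Nat.beq p zC0 || Nat.beq p2 zC0 || Nat.beq (mulN p2 p) zC0

/-- The partners of a representative. -/
def partners (ids : List ℕ) (i : ℕ) : List ℕ := (invsSel ids false).filter (rootC (repsSN.getD i 0))

/-- The table entries of one class. -/
def entries (i : ℕ) : List (ℕ × ℕ × ℕ) := invTabSN.filter fun e => Nat.beq e.2.1 i

theorem beta_data : (entries 0).length = 84 ∧ (entries 4).length = 14 ∧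
    (∀ l ∈ patList, 33 ≤ (partners l 0).length) ∧ 72 ≤ (partners [0, 4, 5] 4).length := by decide +kernel

theorem sel_data : (invsSel [0, 4, 5] true).length = 113 ∧ (invsSel [0, 4, 5] false).length = 462 ∧
    (invsSel [0, 1, 4, 5] true).length = 281 ∧ (invsSel [0, 1, 4, 5] false).length = 294 ∧
    (invsSel [0, 2, 4, 5] true).length = 281 ∧ (invsSel [0, 2, 4, 5] false).length = 294 ∧
    (invsSel [0, 1, 2, 4, 5] true).length = 449 ∧ (invsSel [0, 1, 2, 4, 5] false).length = 126 := by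
  decide +kernel

variable {G : Type*} [Group G] [Finite G] [IsSimpleGroup G] {z : G} {Q : Subgroup (CC z)} {φ : CC z → ℕ}
  {ids : List ℕ} {a : CC z} (S : Sit z Q φ ids a)
include S

theorem Sit.tab_nodup : (invTabSN.map Prod.fst).Nodup := by
  rw [← S.L.tab_spec.1, S.L.invs_eq]
  exact (S.L.co.nodup S.L.cardC).filter _

theorem Sit.mem_sel (b : Bool) (x : CC z) :
    φ x ∈ invsSel ids b ↔ orderOf (x : G) = 2 ∧ (IsConj (x : G) z ↔ b = true) := by
  rw [invsSel, List.mem_map]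
  constructor
  · rintro ⟨e, he, hex⟩
    rw [List.mem_filter] at he
    obtain ⟨w, hw, hw2, hw1⟩ :=
      S.L.of_invs (S.L.tab_spec.1 ▸ List.mem_map.2 ⟨e, he.1, rfl⟩ : e.1 ∈ invsOf rootsSN)
    obtain rfl : w = x := S.L.co.inj (hw.trans hex)
    refine ⟨orderOf_eq_prime (by rw [pow_two]; exact congrArg Subtype.val hw2) fun h => hw1 (Subtype.ext h), ?_⟩
    rw [← S.L.fu_iff, hw, S.L.fu_tab he.1, S.hF _ (S.L.tab_spec.2.1 e he.1).1]
    cases b <;> simp_all
  · rintro ⟨ho, hb⟩
    have hx1 : x ≠ 1 := by rintro rfl; simp at ho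
    obtain ⟨e, he, hxe, -⟩ := S.L.exists_rep (Subtype.ext (inv_of_ord ho)) hx1
    refine ⟨e, List.mem_filter.2 ⟨he, ?_⟩, hxe.symm⟩
    rw [← S.L.fu_iff, hxe, S.L.fu_tab he, S.hF _ (S.L.tab_spec.2.1 e he).1] at hb
    cases b <;> simp_all

theorem Sit.card_sel (b : Bool) :
    Nat.card {x : CC z // orderOf (x : G) = 2 ∧ (IsConj (x : G) z ↔ b = true)} = (invsSel ids b).length := by
  classical
  have hnd : (invsSel ids b).Nodup := List.Nodup.sublist (List.filter_sublist.map Prod.fst) S.tab_nodup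
  rw [← List.toFinset_card_of_nodup hnd, ← Nat.card_eq_finsetCard]
  refine Nat.card_congr (Equiv.ofBijective
    (fun x => ⟨φ x.1, List.mem_toFinset.2 ((S.mem_sel b x.1).2 x.2)⟩) ⟨?_, ?_⟩)
  · intro x y h
    exact Subtype.ext (S.L.co.inj (congrArg Subtype.val h))
  · rintro ⟨c, hc⟩
    obtain ⟨e, he, rfl⟩ := List.mem_map.1 (List.mem_toFinset.1 hc)
    obtain ⟨w, hw, -⟩ :=
      S.L.of_invs (S.L.tab_spec.1 ▸ List.mem_map.2 ⟨e, (List.mem_filter.1 he).1, rfl⟩ : e.1 ∈ invsOf rootsSN)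
    exact ⟨⟨w, (S.mem_sel b w).1 (hw ▸ List.mem_toFinset.1 hc)⟩, Subtype.ext hw⟩

theorem Sit.ord_of_conj {x y : G} (hx : orderOf x = 2) (h : IsConj x y) : orderOf y = 2 := by
  obtain ⟨g, rfl⟩ := _root_.isConj_iff.1 h
  rw [← hx]; exact (MulAut.conj g).orderOf_eq x

theorem Sit.beta_le : nPairs z (a : G) z ≤ (invsSel ids true).length * (invsSel ids false).length := by
  rw [← S.card_sel, ← S.card_sel, ← Nat.card_prod, nPairs]
  refine Nat.card_le_card_of_injective (fun p => (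
    ⟨⟨p.1.1, Subgroup.mem_centralizer_singleton_iff.2 (root_comm (S.ord_of_conj S.L.z2 p.2.1)
      (S.ord_of_conj S.a_inv p.2.2.1) S.L.z2 p.2.2.2).1⟩, S.ord_of_conj S.L.z2 p.2.1,
      iff_of_true p.2.1.symm rfl⟩,
    ⟨⟨p.1.2, Subgroup.mem_centralizer_singleton_iff.2 (root_comm (S.ord_of_conj S.L.z2 p.2.1)
      (S.ord_of_conj S.a_inv p.2.2.1) S.L.z2 p.2.2.2).2⟩, S.ord_of_conj S.a_inv p.2.2.1,
      iff_of_false (fun h => S.a_not (p.2.2.1.trans h).symm) Bool.false_ne_true⟩)) ?_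
  intro p q h
  simp only [Prod.mk.injEq, Subtype.mk.injEq] at h
  exact Subtype.ext (Prod.ext h.1 h.2)

theorem Sit.beta_ge : 84 * (partners ids 0).length + 14 * (partners ids 4).length ≤ nPairs z (a : G) z := by
  classical
  let A := fun i : ℕ => {e : ℕ × ℕ × ℕ // e ∈ entries i} × {c : ℕ // c ∈ partners ids i}
  have hcard : ∀ i, Nat.card (A i) = (entries i).length * (partners ids i).length := by
    intro i
    have h1 : (entries i).Nodup := (List.Nodup.of_map Prod.fst S.tab_nodup).filter _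
    have h2 : (partners ids i).Nodup :=
      List.Nodup.filter _ (List.Nodup.sublist (List.filter_sublist.map Prod.fst) S.tab_nodup)
    rw [Nat.card_prod, ← List.toFinset_card_of_nodup h1, ← List.toFinset_card_of_nodup h2,
      ← Nat.card_eq_finsetCard, ← Nat.card_eq_finsetCard]
    congr 1 <;> exact Nat.card_congr (Equiv.subtypeEquivRight fun x => List.mem_toFinset.symm)
  rw [← beta_data.1, ← beta_data.2.1, ← hcard, ← hcard, ← Nat.card_sum]
  have hex : ∀ i, fSet ids i = true → ∀ q : A i, ∃ x h y : CC z, φ x = q.1.1.1 ∧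
      φ h = elemAt false false q.1.1.2.2 ∧ φ y = q.2.1 ∧ IsConj z (x : G) ∧ IsConj (a : G) (y : G) ∧
      Root z (x : G) ((h * y * h⁻¹ : CC z) : G) := by
    intro i hi ⟨⟨e, he⟩, ⟨c, hc⟩⟩
    rw [entries, List.mem_filter, Nat.beq_eq] at he
    obtain ⟨x, hx, -, -⟩ := S.L.of_invs (S.L.tab_spec.1 ▸ List.mem_map.2 ⟨e, he.1, rfl⟩ : e.1 ∈ invsOf rootsSN)
    obtain ⟨hlt, hk, heq⟩ := S.L.tab_spec.2.1 e he.1
    obtain ⟨h, hh⟩ := (S.L.co.range _).1 (elemAt_mem false false hk)
    obtain ⟨r, hr, -, -⟩ := S.L.of_rep hlt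
    have hxr : h * r = x * h := S.L.co.inj (by rw [S.L.co.map_mul, S.L.co.map_mul, hh, hr, hx, heq])
    rw [partners, List.mem_filter] at hc
    obtain ⟨e', he', hce⟩ := List.mem_map.1 hc.1
    obtain ⟨y, hy, -, -⟩ :=
      S.L.of_invs (S.L.tab_spec.1 ▸ List.mem_map.2 ⟨e', (List.mem_filter.1 he').1, rfl⟩ : e'.1 ∈ invsOf rootsSN)
    obtain ⟨hyo, hyz⟩ := (S.mem_sel false y).1 (by rw [hy, hce]; exact hc.1)
    refine ⟨x, h, y, hx, hh, hy.trans hce, ?_, (S.a_class hyo).2 fun hz => Bool.false_ne_true (hyz.1 hz), ?_⟩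
    · rw [conj_symm_iff, ← S.L.fu_iff, hx, S.L.fu_tab he.1, S.hF _ hlt, he.2]; exact hi
    · have hroot : ∃ k : ℕ, (r * y) ^ k = zc z := by
        have h2 := hc.2
        rw [← hce, ← hy, show repsSN.getD i 0 = φ r by rw [hr, he.2], rootC, ← S.L.mulN_eq, ← S.L.mulN_eq,
          ← S.L.mulN_eq, show zC0 = φ (zc z) from S.L.co.map_z.symm] at h2
        simp only [Bool.or_eq_true, Nat.beq_eq, S.L.co.eq_iff] at h2
        rcases h2 with (h2 | h2) | h2
        · exact ⟨1, by rw [pow_one]; exact h2⟩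
        · exact ⟨2, by rw [pow_two]; exact h2⟩
        · exact ⟨3, by rw [pow_succ, pow_two]; exact h2⟩
      obtain ⟨k, hk'⟩ := hroot
      refine ⟨k, ?_⟩
      have hmul : x * (h * y * h⁻¹) = h * (r * y) * h⁻¹ := by
        rw [← mul_assoc h r y, hxr]; group
      have h3 : (x * (h * y * h⁻¹)) ^ k = zc z := by
        rw [hmul, conj_pow, hk', ← zc_comm, mul_inv_cancel_right]
      exact congrArg Subtype.val h3
  have hf0 : fSet ids 0 = true := by
    have : ∀ l ∈ patList, fSet l 0 = true := by decide +kernel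
    exact this ids S.pat
  have hf4 : fSet ids 4 = true := by
    have : ∀ l ∈ patList, fSet l 4 = true := by decide +kernel
    exact this ids S.pat
  choose X Hh Y hX hH hY hXz hYa hR using hex
  have hgood : ∀ i (hi : fSet ids i = true) (q : A i),
      IsConj z (X i hi q : G) ∧ IsConj (a : G) ((Hh i hi q * Y i hi q * (Hh i hi q)⁻¹ : CC z) : G) ∧
        Root z (X i hi q : G) ((Hh i hi q * Y i hi q * (Hh i hi q)⁻¹ : CC z) : G) := fun i hi q =>
    ⟨hXz i hi q, by
      simp only [Subgroup.coe_mul, Subgroup.coe_inv]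
      exact (hYa i hi q).trans (isConj_cj _ _), hR i hi q⟩
  refine Nat.card_le_card_of_injective (Sum.elim
    (fun q => ⟨((X 0 hf0 q : G), ((Hh 0 hf0 q * Y 0 hf0 q * (Hh 0 hf0 q)⁻¹ : CC z) : G)), hgood 0 hf0 q⟩)
    (fun q => ⟨((X 4 hf4 q : G), ((Hh 4 hf4 q * Y 4 hf4 q * (Hh 4 hf4 q)⁻¹ : CC z) : G)), hgood 4 hf4 q⟩)) ?_
  have hinj : ∀ i j (hi : fSet ids i = true) (hj : fSet ids j = true) (q : A i) (q' : A j),
      (X i hi q : G) = X j hj q' → q.1.1 = q'.1.1 := by
    intro i j hi hj q q' he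
    refine List.inj_on_of_nodup_map S.tab_nodup (List.mem_filter.1 q.1.2).1 (List.mem_filter.1 q'.1.2).1 ?_
    rw [← hX i hi q, ← hX j hj q', Subtype.ext he]
  have hsame : ∀ i (hi : fSet ids i = true) (q q' : A i), (X i hi q : G) = X i hi q' →
      ((Hh i hi q * Y i hi q * (Hh i hi q)⁻¹ : CC z) : G) = (Hh i hi q' * Y i hi q' * (Hh i hi q')⁻¹ : CC z) →
      q = q' := by
    intro i hi q q' he hy
    have he' := hinj i i hi hi q q' he
    have hh : Hh i hi q = Hh i hi q' := S.L.co.inj (by rw [hH, hH, he'])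
    rw [hh] at hy
    have hy' : Y i hi q = Y i hi q' := mul_left_cancel (mul_right_cancel (Subtype.ext hy :))
    exact Prod.ext (Subtype.ext he') (Subtype.ext (by rw [← hY i hi q, ← hY i hi q', hy']))
  rintro (q | q) (q' | q') h <;> simp only [Sum.elim_inl, Sum.elim_inr, Subtype.mk.injEq, Prod.mk.injEq] at h
  · rw [hsame 0 hf0 q q' h.1 h.2]
  · have := hinj 0 4 hf0 hf4 q q' h.1
    have h0 := (List.mem_filter.1 q.1.2).2
    have h4 := (List.mem_filter.1 q'.1.2).2
    rw [Nat.beq_eq] at h0 h4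
    rw [this] at h0; omega
  · have := hinj 4 0 hf4 hf0 q q' h.1
    have h0 := (List.mem_filter.1 q'.1.2).2
    have h4 := (List.mem_filter.1 q.1.2).2
    rw [Nat.beq_eq] at h0 h4
    rw [this] at h4; omega
  · rw [hsame 4 hf4 q q' h.1 h.2]

end Cfsg.Agent.Fus.HeUniq
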