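import Cfsg.Agent.Lib.Fus.HeUniq.DataP

/-!
# Finite checks in the centralizer for the full fusion pattern
-/

set_option autoImplicit false
set_option maxRecDepth 100000

namespace Cfsg.Agent.Fus.HeUniq

/-- The code of the second noncentral involution. -/
def vC : ℕ := 338770000845734292524343207147375343770

/-- The outer involutions with elements of order three rotating them. -/
def rotT : List (ℕ × ℕ) := [(338770000845734292523439940164332661505, 10370), (338770000845734292518520958529040412485, 19586), (338770000845734292530186998303745837475, 9346), (338770000845734292525268016668453588455, 15490), (338770000845734292533201492354385423105, 10626), (338770000845734292525842085433077124455, 7554), (338770000845734292521573864018405165475, 11138), (338770000845734292519095307669128966085, 3970), (338770000845734292533201641303851213705, 10371), (338770000845734292528282659668558964685, 19591), (338770000845734292521573732592405938475, 9345), (338770000845734292516654750957113689455, 15493), (338770000845734292523440089113798452105, 10627), (338770000845734292516080682192490153455, 7557), (338770000845734292530186866877746610475, 11137), (338770000845734292527708310528470411085, 3975)]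

/-- Pairs with given commutators. -/
def commR : List (ℕ × ℕ) := [(338770000845734292529406006204702938230, 338770000845734292524197559832761873940), (338770000845734292519567930058369168980, 338770000845734292529551808017879945840), (338770000845734292529406043442069403220, 338770000845734292524486911693661418000)]

/-- The fused classes. -/
def idsF : List ℕ := [0, 1, 2, 4, 5]

/-- The fused involutions of the centralizer. -/
def zF : List ℕ := zT idsF

/-- The unfused involutions of the centralizer. -/
def aF : List ℕ := (invT.filter fun e => Nat.beq e.2 3 || Nat.beq e.2 6).map Prod.fst

/-- The centralizer of both noncentral involutions. -/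
def listR : List ℕ := listT.filter fun c => comN c vC

/-- The four group. -/
def listV : List ℕ := [oneC, aC, vC, mulN vC aC]

/-- The involutions of the smaller centralizer, with the identity. -/
def invR : List ℕ := oneC :: (invT.map Prod.fst).filter fun c => comN c vC

/-- Only two pairs have large centralizers. -/
def chkPair : Bool :=
  invT.all fun e => !(memC aF e.1 && memC aF (mulN e.1 aC)) || Nat.beq e.1 aC || Nat.beq e.1 vC ||
    Nat.beq e.1 (mulN vC aC) || Nat.blt (listT.filter fun c => comN c e.1).length 64

/-- Modulo the four group involutions lift to involutions, one of them unfused and without a root. -/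
def chkCoset : Bool :=
  sqT.all fun e => !comN e.1 vC || memC listV e.1 || !memC listV e.2 ||
    (Nat.beq e.2 oneC && Nat.beq ((listV.map (mulN e.1)).filter (memC aF)).length 1)

/-- The unfused involutions have no roots. -/
def chkNoRoot : Bool :=
  sqT.all fun e => !comN e.1 vC || memC listV e.2 || !memC aF e.2

/-- The chosen representatives of cosets have centralizers of order at least sixty-four. -/
def chkBig : Bool :=
  zF.all fun r => !comN r vC || !memC aF (mulN r aC) || Nat.ble 64 (listR.filter fun c => comN c r).length

theorem dataF_v : (memC listT vC && memC aF vC && memC aF (mulN vC aC) && memC aF aC && comN vC zC0 &&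
    memC zF (mulN zC0 vC) && memC zF (mulN zC0 (mulN vC aC)) && memC aF (mulN zC0 aC) && memC zF zC0 &&
    Nat.beq listR.length 256 && !memC zF aC) = true := by decide +kernel

theorem dataF_pair : chkPair = true := by decide +kernel

theorem dataF_coset : (chkCoset && chkNoRoot) = true := by decide +kernel

theorem dataF_big : chkBig = true := by decide +kernel

theorem dataF_gen : (listR.all fun c => invR.any fun r => memC invR (mulN r c)) = true := by decide +kernel

theorem dataF_comm : (match commR with
    | [(r, s), (r', s'), (p, q)] => memC listR r && memC listR s && memC listR r' && memC listR s' &&
        memC listR p && memC listR q && Nat.beq (mulN r s) (mulN vC (mulN s r)) &&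
        Nat.beq (mulN r' s') (mulN aC (mulN s' r')) &&
        listV.all fun k => !Nat.beq (mulN p q) (mulN k (mulN q p))
    | _ => false) = true := by decide +kernel

theorem dataF_outer : (sqT.all fun e => comN e.1 vC || !Nat.beq e.2 oneC ||
    (memC aF e.1 && rotT.any fun p => Nat.beq p.1 e.1)) = true := by decide +kernel

theorem dataF_rot : (rotT.all fun p => Nat.blt p.2 21504 &&
    let k := elemAt false false p.2
    Nat.beq (mulN k aC) (mulN p.1 k) && Nat.beq (mulN k p.1) (mulN (mulN aC p.1) k) &&
      !Nat.beq (mulN k k) oneC && Nat.beq (mulN (mulN k k) k) oneC) = true := by decide +kernel

end Cfsg.Agent.Fus.HeUniq
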