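import Cfsg.Agent.Lib.Fus.HeUniq.Beta
import Cfsg.Agent.Lib.Fus.HeUniq.DataF

/-!
# A finite check in the centralizer of the central involution
-/

set_option autoImplicit false
set_option maxRecDepth 100000

namespace Cfsg.Agent.Fus.HeUniq

/-- The condition on three unfused involutions commuting with two fused ones. -/
def chkTriple (a b c : ℕ) : Bool :=
  let ab := mulN a b
  let y := mulN ab ab
  let ca := mulN c a
  let bc := mulN b c
  let t := mulN ab c
  comN a b || !Nat.beq (mulN y y) oneC || !comN a c || comN c y || !memC (invsSel idsF true) ca ||
    (Nat.beq (mulN (mulN bc bc) bc) oneC && Nat.beq (mulN (mulN t t) t) zC0)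

/-- The check for all pairs with given square of the product. -/
def chkCE : Bool :=
  (List.range 8).all fun i =>
    let f := repsSN.getD i 0
    !fSet idsF i || (invsSel idsF true).all fun g =>
      let fg := mulN f g
      !Nat.beq (mulN fg fg) zC0 ||
        let P := (invsSel idsF false).filter fun x => comN x f && comN x g
        P.all fun a => P.all fun b => P.all fun c => chkTriple a b c

theorem chkCE_ok : chkCE = true := by decide +kernel

end Cfsg.Agent.Fus.HeUniq
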