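import Cfsg.Agent.Lib.Fus.HeUniq.Fast

/-!
# The sizes of three centralizers in the model
-/

set_option autoImplicit false
set_option maxRecDepth 100000

namespace Cfsg.Agent.Fus.HeUniq

theorem cent_one : ((elemList false false).filter (fun c => comN c (repsSN.getD 1 0))).length = 128 := by
  decide +kernel

theorem cent_two : ((elemList false false).filter (fun c => comN c (repsSN.getD 2 0))).length = 128 := by
  decide +kernel

theorem cent_three : ((elemList false false).filter (fun c => comN c (repsSN.getD 3 0))).length = 256 := by
  decide +kernel

end Cfsg.Agent.Fus.HeUniq
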