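import Cfsg.Agent.Lib.Fus.HeUniq.DataF

/-!
# Finite checks for an outer involution
-/

set_option autoImplicit false
set_option maxRecDepth 100000

namespace Cfsg.Agent.Fus.HeUniq

/-- Two codes agree up to the four group after exchanging the factors. -/
def modV (y r : ℕ) : Bool :=
  let x := mulN y r
  let w := mulN r y
  listV.any fun k => Nat.beq x (mulN k w)

/-- Many cosets with involutory elements are fixed by an outer involution. -/
def chkFix : Bool :=
  rotT.all fun p => Nat.ble 20 (listR.filter fun r => memC listV (mulN r r) && modV p.1 r).length

/-- A fixed coset contains a fixed element. -/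
def chkLift : Bool :=
  rotT.all fun p => listR.all fun r => !modV p.1 r || listV.any fun j => comN (mulN r j) p.1

theorem dataY_fix : chkFix = true := by decide +kernel

theorem dataY_lift : chkLift = true := by decide +kernel

end Cfsg.Agent.Fus.HeUniq
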