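import Cfsg.Agent.Lib.Fus.HeUniq.Code

/-!
# The isometries with given first columns, part 0
-/

set_option autoImplicit false
set_option maxRecDepth 100000

namespace Cfsg.Agent.Fus.HeUniq

theorem chk1 : chkFrom 1 = true := by decide +kernel

theorem chk2 : chkFrom 2 = true := by decide +kernel

theorem chk3 : chkFrom 3 = true := by decide +kernel

theorem chk4 : chkFrom 4 = true := by decide +kernel

theorem chk5 : chkFrom 5 = true := by decide +kernel

theorem chk6 : chkFrom 6 = true := by decide +kernel

theorem chk7 : chkFrom 7 = true := by decide +kernel

end Cfsg.Agent.Fus.HeUniq
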