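import Cfsg.Agent.Lib.Fus.HeUniq.Code

/-!
# The isometries with given first columns, part 1
-/

set_option autoImplicit false
set_option maxRecDepth 100000

namespace Cfsg.Agent.Fus.HeUniq

theorem chk8 : chkFrom 8 = true := by decide +kernel

theorem chk10 : chkFrom 10 = true := by decide +kernel

theorem chk12 : chkFrom 12 = true := by decide +kernel

theorem chk14 : chkFrom 14 = true := by decide +kernel

theorem chk16 : chkFrom 16 = true := by decide +kernel

theorem chk17 : chkFrom 17 = true := by decide +kernel

theorem chk20 : chkFrom 20 = true := by decide +kernel

end Cfsg.Agent.Fus.HeUniq
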