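import Cfsg.Agent.Lib.Fus.HeUniq.Code

/-!
# The isometries with given first columns, part 2
-/

set_option autoImplicit false
set_option maxRecDepth 100000

namespace Cfsg.Agent.Fus.HeUniq

theorem chk21 : chkFrom 21 = true := by decide +kernel

theorem chk24 : chkFrom 24 = true := by decide +kernel

theorem chk27 : chkFrom 27 = true := by decide +kernel

theorem chk28 : chkFrom 28 = true := by decide +kernel

theorem chk31 : chkFrom 31 = true := by decide +kernel

theorem chk32 : chkFrom 32 = true := by decide +kernel

theorem chk33 : chkFrom 33 = true := by decide +kernel

end Cfsg.Agent.Fus.HeUniq
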