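import Cfsg.Agent.Lib.Fus.HeUniq.Code

/-!
# The isometries with given first columns, part 3
-/

set_option autoImplicit false
set_option maxRecDepth 100000

namespace Cfsg.Agent.Fus.HeUniq

theorem chk34 : chkFrom 34 = true := by decide +kernel

theorem chk35 : chkFrom 35 = true := by decide +kernel

theorem chk40 : chkFrom 40 = true := by decide +kernel

theorem chk42 : chkFrom 42 = true := by decide +kernel

theorem chk45 : chkFrom 45 = true := by decide +kernel

theorem chk47 : chkFrom 47 = true := by decide +kernel

theorem chk48 : chkFrom 48 = true := by decide +kernel

end Cfsg.Agent.Fus.HeUniq
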