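import Cfsg.Agent.Lib.Fus.HeUniq.Code

/-!
# The isometries with given first columns, part 4
-/

set_option autoImplicit false
set_option maxRecDepth 100000

namespace Cfsg.Agent.Fus.HeUniq

theorem chk49 : chkFrom 49 = true := by decide +kernel

theorem chk54 : chkFrom 54 = true := by decide +kernel

theorem chk55 : chkFrom 55 = true := by decide +kernel

theorem chk56 : chkFrom 56 = true := by decide +kernel

theorem chk59 : chkFrom 59 = true := by decide +kernel

theorem chk61 : chkFrom 61 = true := by decide +kernel

theorem chk62 : chkFrom 62 = true := by decide +kernel

end Cfsg.Agent.Fus.HeUniq
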