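import Cfsg.Agent.Lib.Fus.HeUniq.Tables
import Cfsg.Agent.Lib.Invol.StronglyEmbeddedCount
import Cfsg.Agent.S0215
import Cfsg.Agent.S1169

/-!
# Fusion of a central involution: the transfer of counts and two ways to exclude it
-/

set_option autoImplicit false
set_option linter.style.haveILetI false
set_option linter.unusedSectionVars false
set_option maxRecDepth 100000

namespace Cfsg.Agent.Fus.HeUniq

variable {G : Type*} [Group G]

/-- The centralizer of an element. -/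
abbrev CC (z : G) : Subgroup G := Subgroup.centralizer ({z} : Set G)

/-- An element in its own centralizer. -/
def zc (z : G) : CC z := ⟨z, Subgroup.mem_centralizer_singleton_iff.2 rfl⟩

theorem cc_comm {z : G} (x : CC z) : (x : G) * z = z * (x : G) := Subgroup.mem_centralizer_singleton_iff.1 x.2

theorem zc_comm {z : G} (x : CC z) : zc z * x = x * zc z := Subtype.ext (cc_comm x).symm

/-- A central involution whose centralizer has coordinates in a model, with tables of involutions. -/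
structure Loc (z : G) (Q : Subgroup (CC z)) (b tw : Bool) (φ : CC z → ℕ) (reps roots : List ℕ)
    (tab : List (ℕ × ℕ × ℕ)) : Prop where
  cardG : Nat.card G = 4030387200
  z2 : orderOf z = 2
  cardC : Nat.card (CC z) = 21504
  normal : Q.Normal
  cardQ : Nat.card Q = 2 ^ 7
  co : Coords (CC z) Q (zc z) b tw φ
  roots_ok : chkRoots b tw reps roots = true
  tab_ok : chkTab b tw reps roots tab = true

/-- A code of a conjugate of the central involution. -/
def Fu (z : G) (φ : CC z → ℕ) (c : ℕ) : Prop := ∃ x : CC z, φ x = c ∧ IsConj (x : G) z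

variable {z : G} {Q : Subgroup (CC z)} {b tw : Bool} {φ : CC z → ℕ} {reps roots : List ℕ}
  {tab : List (ℕ × ℕ × ℕ)} (L : Loc z Q b tw φ reps roots tab)

include L

theorem Loc.fu_iff (x : CC z) : Fu z φ (φ x) ↔ IsConj (x : G) z := by
  refine ⟨?_, fun h => ⟨x, rfl, h⟩⟩
  rintro ⟨y, hy, h⟩
  rwa [← L.co.inj hy]

theorem Loc.zz : z * z = 1 := by
  have h := pow_orderOf_eq_one z
  rwa [L.z2, pow_two] at h

theorem Loc.z_ne : z ≠ 1 := fun h => by simpa [h, orderOf_one] using L.z2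

theorem Loc.conj_inv {x : CC z} (h : IsConj (x : G) z) : x * x = 1 ∧ x ≠ 1 := by
  have ho : orderOf (x : G) = 2 := by
    obtain ⟨g, hg⟩ := _root_.isConj_iff.1 h
    have := (MulAut.conj g).orderOf_eq (x : G)
    rw [MulAut.conj_apply, hg, L.z2] at this
    exact this.symm
  constructor
  · have h2 := pow_orderOf_eq_one (x : G)
    rw [ho, pow_two] at h2
    exact Subtype.ext h2
  · rintro rfl
    simp at ho

variable [Finite G]

theorem Loc.phi_inv {x : CC z} (hx : x * x = 1) (hne : x ≠ 1) :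
    Nat.beq (mulM (φ x) (φ x)) oneC = true ∧ Nat.beq (φ x) oneC = false := by
  constructor
  · rw [Nat.beq_eq, ← L.co.map_mul, hx, L.co.map_one]
  · exact Bool.eq_false_iff.2 fun h => hne (L.co.inj (by rw [Nat.eq_of_beq_eq_true h, L.co.map_one]))

theorem Loc.roots_eq : (elemList b tw).filter (fun c => (oneC :: reps).any fun r => Nat.beq r (mulM c c)) =
    roots := by simpa [chkRoots] using L.roots_ok

theorem Loc.tab_spec : invsOf roots = tab.map Prod.fst ∧
    (∀ e ∈ tab, e.2.1 < reps.length ∧ e.2.2 < 21504 ∧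
      mulM (elemAt b tw e.2.2) (reps.getD e.2.1 0) = mulM e.1 (elemAt b tw e.2.2)) ∧
    zC0 ∈ reps ∧ ∀ r ∈ reps, r ∈ tab.map Prod.fst := by
  have h := L.tab_ok
  simp only [chkTab, Bool.and_eq_true, List.all_eq_true, beq_iff_eq, Nat.beq_eq, Nat.blt_eq,
    List.contains_iff_mem, List.any_eq_true] at h
  obtain ⟨⟨⟨h1, h2⟩, h3⟩, h4⟩ := h
  refine ⟨h1, fun e he => ⟨(h2 e he).1.1, (h2 e he).1.2, (h2 e he).2⟩, h3, fun r hr => ?_⟩
  obtain ⟨c, hc, hcr⟩ := h4 r hr
  exact hcr ▸ hc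

theorem Loc.invs_eq : invsOf roots =
    (elemList b tw).filter fun c => Nat.beq (mulM c c) oneC && !Nat.beq c oneC := by
  rw [invsOf, filter_sub L.roots_eq _ fun c hc => ?_]
  simp only [Bool.and_eq_true, Nat.beq_eq] at hc
  simp only [List.any_eq_true, List.mem_cons, Nat.beq_eq]
  exact ⟨oneC, Or.inl rfl, hc.1.symm⟩


theorem Loc.mem_invs {x : CC z} (hx : x * x = 1) (hne : x ≠ 1) : φ x ∈ invsOf roots := by
  rw [L.invs_eq, List.mem_filter]
  refine ⟨L.co.mem x, ?_⟩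
  simp [(L.phi_inv hx hne).1, (L.phi_inv hx hne).2]

theorem Loc.of_invs {c : ℕ} (hc : c ∈ invsOf roots) : ∃ x : CC z, φ x = c ∧ x * x = 1 ∧ x ≠ 1 := by
  rw [L.invs_eq, List.mem_filter] at hc
  obtain ⟨x, rfl⟩ := (L.co.range c).1 hc.1
  simp only [Bool.and_eq_true, Nat.beq_eq, Bool.not_eq_true'] at hc
  refine ⟨x, rfl, L.co.inj (by rw [L.co.map_mul, hc.2.1, L.co.map_one]), fun h => ?_⟩
  have h2 := hc.2.2
  rw [h, L.co.map_one] at h2
  simp at h2

theorem Loc.of_rep {i : ℕ} (hi : i < reps.length) :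
    ∃ u : CC z, φ u = reps.getD i 0 ∧ u * u = 1 ∧ u ≠ 1 :=
  L.of_invs (L.tab_spec.1 ▸ L.tab_spec.2.2.2 _ (getD_mem hi))

theorem Loc.tab_conj {e : ℕ × ℕ × ℕ} (he : e ∈ tab) {x : CC z} (hx : φ x = e.1) :
    ∃ h r : CC z, φ r = reps.getD e.2.1 0 ∧ x = h * r * h⁻¹ := by
  obtain ⟨hi, hk, heq⟩ := L.tab_spec.2.1 e he
  obtain ⟨h, hh⟩ := (L.co.range _).1 (elemAt_mem b tw hk)
  obtain ⟨r, hr, -, -⟩ := L.of_rep hi
  refine ⟨h, r, hr, ?_⟩
  have : h * r = x * h := L.co.inj (by rw [L.co.map_mul, L.co.map_mul, hh, hr, hx, heq])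
  rw [this, mul_inv_cancel_right]

theorem Loc.exists_rep {x : CC z} (hx : x * x = 1) (hne : x ≠ 1) :
    ∃ e ∈ tab, φ x = e.1 ∧ ∃ h r : CC z, φ r = reps.getD e.2.1 0 ∧ x = h * r * h⁻¹ := by
  obtain ⟨e, he, hx'⟩ := List.mem_map.1 (L.tab_spec.1 ▸ L.mem_invs hx hne : φ x ∈ tab.map Prod.fst)
  exact ⟨e, he, hx'.symm, L.tab_conj he hx'.symm⟩

theorem Loc.fu_tab {e : ℕ × ℕ × ℕ} (he : e ∈ tab) : Fu z φ e.1 ↔ Fu z φ (reps.getD e.2.1 0) := by
  have h1 : e.1 ∈ invsOf roots := L.tab_spec.1 ▸ List.mem_map.2 ⟨e, he, rfl⟩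
  obtain ⟨x, hx, -, -⟩ := L.of_invs h1
  obtain ⟨h, r, hr, hxr⟩ := L.tab_conj he hx
  have hc : IsConj (r : G) (x : G) := _root_.isConj_iff.2 ⟨(h : G), by rw [hxr]; simp⟩
  rw [← hr, ← hx, L.fu_iff, L.fu_iff]
  exact ⟨fun k => hc.trans k, fun k => hc.symm.trans k⟩

/-! ### Transfer -/

omit L [Finite G] in
theorem cjg_comm {a b : G} (g : G) (h : a * b = b * a) :
    g * a * g⁻¹ * (g * b * g⁻¹) = g * b * g⁻¹ * (g * a * g⁻¹) := by
  rw [show g * a * g⁻¹ * (g * b * g⁻¹) = g * (a * b) * g⁻¹ by group, h]; group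

omit L [Finite G] in
theorem card_transport {z u v g : G} (hu : g * u * g⁻¹ = z) (hv : g * z * g⁻¹ = v)
    (P P' : G → Prop) (hP : ∀ x, P x → x * u = u * x) (hP' : ∀ y, P' y → y * v = v * y)
    (h : ∀ x, x * z = z * x → x * u = u * x → (P' (g * x * g⁻¹) ↔ P x)) :
    Nat.card {x : CC z // P x} = Nat.card {y : CC z // P' y} := by
  refine Nat.card_congr
    { toFun := fun x => ⟨⟨g * (x.1 : G) * g⁻¹, Subgroup.mem_centralizer_singleton_iff.2 ?_⟩, (h _ (cc_comm x.1) (hP _ x.2)).2 x.2⟩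
      invFun := fun y => ⟨⟨g⁻¹ * (y.1 : G) * g, Subgroup.mem_centralizer_singleton_iff.2 ?_⟩, ?_⟩
      left_inv := fun x => Subtype.ext (Subtype.ext (by simp [mul_assoc]))
      right_inv := fun y => Subtype.ext (Subtype.ext (by simp [mul_assoc])) }
  · have := cjg_comm g (hP _ x.2)
    rwa [hu] at this
  · have := cjg_comm g⁻¹ (hP' _ y.2)
    rw [show g⁻¹ * v * g⁻¹⁻¹ = z by rw [← hv]; group, inv_inv] at this
    exact this
  · have h1 : g⁻¹ * (y.1 : G) * g * z = z * (g⁻¹ * (y.1 : G) * g) := by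
      have := cjg_comm g⁻¹ (hP' _ y.2)
      rwa [show g⁻¹ * v * g⁻¹⁻¹ = z by rw [← hv]; group, inv_inv] at this
    have h2 : g⁻¹ * (y.1 : G) * g * u = u * (g⁻¹ * (y.1 : G) * g) := by
      have := cjg_comm g⁻¹ (cc_comm y.1)
      rwa [show g⁻¹ * z * g⁻¹⁻¹ = u by rw [← hu]; group, inv_inv] at this
    have := (h (g⁻¹ * (y.1 : G) * g) h1 h2).1
    simp only [show g * (g⁻¹ * (y.1 : G) * g) * g⁻¹ = (y.1 : G) by group] at this
    exact this y.2

omit L [Finite G] in
theorem cjg_mul (g x y : G) : g * (x * y) * g⁻¹ = g * x * g⁻¹ * (g * y * g⁻¹) := by group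

omit L [Finite G] in
theorem cjg_eq (g x y : G) : g * x * g⁻¹ = g * y * g⁻¹ ↔ x = y := by simp

/-- The involutions commuting with an element, as counted in the centralizer. -/
noncomputable def nI (z u : G) : ℕ := Nat.card {x : CC z // (x : G) * x = 1 ∧ (x : G) ≠ 1 ∧ (x : G) * u = u * x}

/-- The square roots of an element in the centralizer. -/
noncomputable def nR (z u : G) : ℕ := Nat.card {x : CC z // (x : G) * x = u}

/-- The square roots of the central involution commuting with an element. -/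
noncomputable def nZ (z v : G) : ℕ := Nat.card {x : CC z // (x : G) * x = z ∧ (x : G) * v = v * x}

/-- Pairs of conjugates of the central involution multiplying to an element. -/
noncomputable def nP (z u w : G) : ℕ :=
  Nat.card {x : CC z // (x : G) * u = u * x ∧ IsConj (x : G) z ∧ IsConj ((x : G) * w) z}

omit L [Finite G] in
theorem counts_transport {z u v g : G} (hu : g * u * g⁻¹ = z) (hv : g * z * g⁻¹ = v) :
    nI z u = nI z v ∧ nR z u = nZ z v ∧ nP z u u = nP z v z := by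
  refine ⟨card_transport hu hv (fun x => x * x = 1 ∧ x ≠ 1 ∧ x * u = u * x)
    (fun y => y * y = 1 ∧ y ≠ 1 ∧ y * v = v * y) (fun x h => h.2.2) (fun y h => h.2.2) fun x => ?_,
    card_transport hu hv (fun x => x * x = u) (fun y => y * y = z ∧ y * v = v * y)
      (fun x h => by rw [← h, mul_assoc]) (fun y h => h.2) fun x => ?_,
    card_transport hu hv (fun x => x * u = u * x ∧ IsConj x z ∧ IsConj (x * u) z)
      (fun y => y * v = v * y ∧ IsConj y z ∧ IsConj (y * z) z) (fun x h => h.1) (fun y h => h.1) fun x => ?_⟩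
  all_goals
    intro hxz hxu
    have e2 : g * x * g⁻¹ * v = v * (g * x * g⁻¹) := by rw [← hv, ← cjg_mul, ← cjg_mul, cjg_eq, hxz]
    have hcj : ∀ a : G, IsConj (g * a * g⁻¹) z ↔ IsConj a z := fun a =>
      have h1 : IsConj a (g * a * g⁻¹) := _root_.isConj_iff.2 ⟨g, rfl⟩
      ⟨fun h => h1.trans h, fun h => h1.symm.trans h⟩
  · simp only [e2, hxu, and_true]
    rw [← cjg_mul, conj_eq_one_iff, ne_eq, conj_eq_one_iff]
  · simp only [e2, and_true]
    rw [← cjg_mul, ← hu, cjg_eq]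
  · rw [iff_true_intro e2, iff_true_intro hxu, true_and, true_and, ← hu, ← cjg_mul, hu, hcj, hcj]

/-! ### The counts in the tables -/

theorem Loc.count (P : ℕ → Bool) (S : CC z → Prop) (hS : ∀ x, S x ↔ P (φ x) = true) :
    Nat.card {x : CC z // S x} = ((elemList b tw).filter P).length := by
  rw [← L.co.card_filter L.cardC P]
  exact Nat.card_congr (Equiv.subtypeEquivRight hS)

theorem Loc.comm_iff (x u : CC z) : (x : G) * u = u * x ↔ comC (φ x) (φ u) = true := by
  rw [L.co.comC_iff, Subtype.ext_iff, Subgroup.coe_mul, Subgroup.coe_mul]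

theorem Loc.sq_iff (x u : CC z) : (x : G) * x = u ↔ Nat.beq (mulM (φ x) (φ x)) (φ u) = true := by
  rw [Nat.beq_eq, ← L.co.map_mul, L.co.eq_iff, Subtype.ext_iff, Subgroup.coe_mul]

theorem Loc.inv_iff (x : CC z) :
    ((x : G) * x = 1 ∧ (x : G) ≠ 1) ↔ (Nat.beq (mulM (φ x) (φ x)) oneC && !Nat.beq (φ x) oneC) = true := by
  have h1 : (x : G) = 1 ↔ Nat.beq (φ x) oneC = true := by
    rw [Nat.beq_eq, ← L.co.map_one, L.co.eq_iff, Subtype.ext_iff]; simp
  rw [Bool.and_eq_true, Bool.not_eq_true', ← Bool.not_eq_true, ← h1, ← L.co.map_one, ← L.sq_iff]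
  simp

theorem Loc.nI_eq (u : CC z) : nI z (u : G) = nInv roots (φ u) := by
  rw [nI, nInv, L.invs_eq, List.filter_filter,
    L.count (fun c => comC c (φ u) && (Nat.beq (mulM c c) oneC && !Nat.beq c oneC))]
  intro x
  rw [Bool.and_eq_true, ← L.comm_iff, ← L.inv_iff, ← and_assoc, and_comm]

theorem Loc.mem_target {c r : ℕ} (hr : r ∈ reps) (hc : Nat.beq (mulM c c) r = true) :
    ((oneC :: reps).any fun s => Nat.beq s (mulM c c)) = true := by
  simp only [List.any_eq_true, Nat.beq_eq]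
  exact ⟨r, List.mem_cons_of_mem _ hr, (Nat.eq_of_beq_eq_true hc).symm⟩

theorem Loc.nR_eq (u : CC z) (hu : φ u ∈ reps) : nR z (u : G) = nRoot roots (φ u) := by
  rw [nR, nRoot, ← filter_sub L.roots_eq _ fun c hc => L.mem_target hu hc]
  exact L.count _ _ fun x => L.sq_iff x u

theorem Loc.nZ_eq (u : CC z) : nZ z (u : G) = nRootZ roots (φ u) := by
  rw [nZ, nRootZ, ← filter_sub L.roots_eq _ fun c hc => L.mem_target L.tab_spec.2.2.1 (Bool.and_eq_true_iff.1 hc).1]
  refine L.count _ _ fun x => ?_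
  rw [Bool.and_eq_true, ← L.comm_iff, show zC0 = φ (zc z) from L.co.map_z.symm, ← L.sq_iff]
  rfl

theorem Loc.exists_partner {i : ℕ} (hi : i < reps.length) (hf : Fu z φ (reps.getD i 0))
    (hne : reps.getD i 0 ≠ zC0) :
    ∃ j < reps.length, reps.getD j 0 ≠ zC0 ∧ Fu z φ (reps.getD j 0) ∧
      nInv roots (reps.getD i 0) = nInv roots (reps.getD j 0) ∧
      nRoot roots (reps.getD i 0) = nRootZ roots (reps.getD j 0) ∧
      ∀ u v : CC z, φ u = reps.getD i 0 → φ v = reps.getD j 0 → nP z u u = nP z v z := by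
  obtain ⟨u, hu, huz⟩ := hf
  obtain ⟨g, hg⟩ := _root_.isConj_iff.1 huz
  have hvc : g * z * g⁻¹ * z = z * (g * z * g⁻¹) := by
    have := cjg_comm g (cc_comm u).symm
    rwa [hg] at this
  set v : CC z := ⟨g * z * g⁻¹, Subgroup.mem_centralizer_singleton_iff.2 hvc⟩ with hv
  have hvz : IsConj (v : G) z := IsConj.symm (_root_.isConj_iff.2 ⟨g, rfl⟩)
  obtain ⟨hv2, hv1⟩ := L.conj_inv hvz
  obtain ⟨e, he, -, h, r, hr, hvr⟩ := L.exists_rep hv2 hv1
  obtain ⟨hej, -, -⟩ := L.tab_spec.2.1 e he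
  have hg' : (h : G)⁻¹ * g * u * ((h : G)⁻¹ * g)⁻¹ = z := by
    rw [show (h : G)⁻¹ * g * u * ((h : G)⁻¹ * g)⁻¹ = (h : G)⁻¹ * (g * u * g⁻¹) * h by group, hg, mul_assoc,
      ← cc_comm h, inv_mul_cancel_left]
  have hg'' : (h : G)⁻¹ * g * z * ((h : G)⁻¹ * g)⁻¹ = r := by
    rw [show (h : G)⁻¹ * g * z * ((h : G)⁻¹ * g)⁻¹ = (h : G)⁻¹ * (g * z * g⁻¹) * h by group,
      show g * z * g⁻¹ = ((h * r * h⁻¹ : CC z) : G) from congrArg Subtype.val (hvr ▸ hv.symm)]
    simp [mul_assoc]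
  have hrz : IsConj (r : G) z := IsConj.symm (_root_.isConj_iff.2 ⟨_, hg''⟩)
  have hrne : reps.getD e.2.1 0 ≠ zC0 := by
    intro hz0
    have hrz' : r = zc z := L.co.inj (by rw [hr, hz0, L.co.map_z]; rfl)
    apply hne
    rw [← hu, show u = zc z from Subtype.ext ?_, L.co.map_z]; rfl
    have h2 := hg'.trans (hg''.trans (congrArg Subtype.val hrz')).symm
    simpa [zc] using h2
  obtain ⟨t1, t2, t3⟩ := counts_transport hg' hg''
  refine ⟨_, hej, hrne, ⟨r, hr, hrz⟩, ?_, ?_, ?_⟩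
  · rw [← hu, ← hr, ← L.nI_eq, ← L.nI_eq, t1]
  · rw [← hu, ← hr, ← L.nR_eq u (hu ▸ getD_mem hi), ← L.nZ_eq, t2]
  · intro u' v' h1 h2
    rwa [L.co.inj (h1.trans hu.symm), L.co.inj (h2.trans hr.symm)]

theorem Loc.only {allowed : List ℕ} (h : chkOnly reps roots allowed = true) {i : ℕ} (hi : i < reps.length)
    (hf : Fu z φ (reps.getD i 0)) : reps.getD i 0 = zC0 ∨ i ∈ allowed := by
  by_contra hc
  push Not at hc
  obtain ⟨j, hj, hjz, -, e1, e2, -⟩ := L.exists_partner hi hf hc.1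
  simp only [chkOnly, List.all_eq_true, List.mem_range, Bool.or_eq_true, List.any_eq_true, Nat.beq_eq,
    Bool.not_eq_true', Bool.and_eq_false_iff, ← Bool.not_eq_true] at h
  rcases h i hi with (h' | ⟨a, ha, hai⟩) | h'
  · exact hc.1 h'
  · exact hc.2 (hai ▸ ha)
  · rcases h' _ (getD_mem (d := 0) hj) with h'' | h''
    · exact hjz h''
    · simp only [Bool.and_eq_true, Nat.beq_eq] at h''
      exact h'' ⟨e1, e2⟩

/-! ### Sylow subgroups and the two exclusions -/

omit [Finite G] in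
theorem Loc.zc_mem : zc z ∈ Q := (L.co.map_Q _).2 ⟨64, L.co.map_z⟩

theorem Loc.exists_sylow : ∃ P : Sylow 2 G, (∀ x ∈ P, x * z = z * x) ∧ z ∈ P ∧
    ∀ q : CC z, q ∈ Q → (q : G) ∈ P := by
  haveI := L.normal
  haveI : Fact (Nat.Prime 2) := ⟨Nat.prime_two⟩
  obtain ⟨P0⟩ : Nonempty (Sylow 2 (CC z)) := inferInstance
  have hfac : ∀ (a n m : ℕ), n = 2 ^ a * m → ¬ 2 ∣ m → n.factorization 2 = a := by
    rintro a _ m rfl hm
    have hm0 : m ≠ 0 := fun h => hm (h ▸ dvd_zero 2)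
    simp [Nat.factorization_mul, hm0, Nat.factorization_eq_zero_of_not_dvd hm, Nat.prime_two.factorization_self]
  have hP0 : Nat.card P0 = 2 ^ 10 := by
    rw [Sylow.card_eq_multiplicity, L.cardC, hfac 10 21504 21 (by norm_num) (by norm_num)]
  have hcard : Nat.card ((P0 : Subgroup (CC z)).map (CC z).subtype) = 2 ^ (Nat.card G).factorization 2 := by
    rw [L.cardG, hfac 10 4030387200 3935925 (by norm_num) (by norm_num), ← hP0]
    exact (Nat.card_congr (((P0 : Subgroup (CC z)).equivMapOfInjective _ (CC z).subtype_injective).toEquiv)).symm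
  refine ⟨Sylow.ofCard _ hcard, ?_, ?_, ?_⟩
  · rintro x ⟨y, -, rfl⟩
    exact cc_comm y
  all_goals
    have hQP : Q ≤ (P0 : Subgroup (CC z)) := by
      have h2 : IsPGroup 2 ((P0 : Subgroup (CC z)) ⊔ Q : Subgroup (CC z)) :=
        P0.isPGroup'.to_sup_of_normal_right (IsPGroup.of_card L.cardQ)
      exact le_of_le_of_eq le_sup_right (P0.is_maximal' h2 le_sup_left)
  · exact ⟨zc z, hQP L.zc_mem, rfl⟩
  · exact fun q hq => ⟨q, hQP hq, rfl⟩

omit [Finite G] in
theorem Loc.q_noncomm : ∃ p q : CC z, p ∈ Q ∧ q ∈ Q ∧ p * q ≠ q * p := by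
  have h1 : ∀ n : Fin 128, qcode n ∈ elemList b tw → ∃ p : CC z, φ p = qcode n ∧ p ∈ Q := fun n hn => by
    obtain ⟨p, hp⟩ := (L.co.range _).1 hn
    exact ⟨p, hp, (L.co.map_Q p).2 ⟨n, hp⟩⟩
  have hmem : qcode (1 : Fin 128) ∈ elemList b tw ∧ qcode (8 : Fin 128) ∈ elemList b tw := by
    have h0 : ∀ b tw, Nat.beq (mul16 ((repList b).getD 76 (0, 0)).1 (enc (qel 1))) (enc (qel 1)) = true ∧
        Nat.beq (mul16 ((repList b).getD 76 (0, 0)).1 (enc (qel 8))) (enc (qel 8)) = true ∧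
        Nat.beq ((covList b tw).getD 76 (0, 0)).1 (enc 1) = true := by decide +kernel
    obtain ⟨a1, a2, a3⟩ := h0 b tw
    have hh : ∀ n, n < 128 → Nat.beq (mul16 ((repList b).getD 76 (0, 0)).1 (enc (qel n))) (enc (qel n)) = true →
        qcode n ∈ elemList b tw := fun n hn hb => by
      have := elemAt_mem b tw (show 128 * 76 + n < 21504 by omega)
      simp only [elemAt, show Nat.div (128 * 76 + n) 128 = 76 from (by omega : (128 * 76 + n) / 128 = 76),
        show Nat.mod (128 * 76 + n) 128 = n from (by omega : (128 * 76 + n) % 128 = n), Nat.eq_of_beq_eq_true hb,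
        Nat.eq_of_beq_eq_true a3] at this
      exact this
    exact ⟨hh 1 (by norm_num) a1, hh 8 (by norm_num) a2⟩
  obtain ⟨p, hp, hpQ⟩ := h1 1 hmem.1
  obtain ⟨q, hq, hqQ⟩ := h1 8 hmem.2
  refine ⟨p, q, hpQ, hqQ, fun h => ?_⟩
  have h2 := congrArg φ h
  rw [L.co.map_mul, L.co.map_mul, hp, hq] at h2
  exact (by decide +kernel : ¬ mulM (qcode (1 : Fin 128)) (qcode (8 : Fin 128)) =
    mulM (qcode (8 : Fin 128)) (qcode (1 : Fin 128))) h2

variable [IsSimpleGroup G]

theorem Loc.not_central : ∃ g : G, g * z ≠ z * g := by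
  by_contra hc
  push Not at hc
  have hN : (Subgroup.zpowers z).Normal := by
    constructor
    intro a ha g
    obtain ⟨k, rfl⟩ := Subgroup.mem_zpowers_iff.1 ha
    have hgz : Commute g z := hc g
    rw [(hgz.zpow_right k).eq, mul_inv_cancel_right]
    exact ha
  rcases hN.eq_bot_or_eq_top with h | h
  · exact L.z_ne (Subgroup.zpowers_eq_bot.1 h)
  · have h2 := Nat.card_zpowers z
    rw [h, Subgroup.card_top, L.cardG, L.z2] at h2
    omega

theorem Loc.not_isolated (h : ∀ i < reps.length, Fu z φ (reps.getD i 0) → reps.getD i 0 = zC0) : False := by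
  obtain ⟨P, hPc, hzP, -⟩ := L.exists_sylow
  obtain ⟨N, hNn, hNodd, hN⟩ := Cfsg.Agent.S0215.result P z L.z2 hzP fun g hg => by
    set x : CC z := ⟨g * z * g⁻¹, Subgroup.mem_centralizer_singleton_iff.2 (hPc _ hg)⟩ with hx
    have hxz : IsConj (x : G) z := IsConj.symm (_root_.isConj_iff.2 ⟨g, rfl⟩)
    obtain ⟨hx2, hx1⟩ := L.conj_inv hxz
    obtain ⟨e, he, hxe, k, r, hr, hxr⟩ := L.exists_rep hx2 hx1
    have hfr : Fu z φ (reps.getD e.2.1 0) := (L.fu_tab he).1 ⟨x, hxe, hxz⟩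
    have hrz : r = zc z := L.co.inj (by rw [hr, h _ (L.tab_spec.2.1 e he).1 hfr, L.co.map_z]; rfl)
    show (x : G) = z
    rw [hxr, hrz, ← zc_comm, mul_inv_cancel_right]
    rfl
  rcases hNn.eq_bot_or_eq_top with hb | ht
  · obtain ⟨g, hg⟩ := L.not_central
    have h1 := hN g
    rw [hb, Subgroup.mem_bot, mul_inv_eq_one, mul_inv_eq_iff_eq_mul] at h1
    exact hg h1.symm
  · rw [ht, Subgroup.card_top, L.cardG] at hNodd
    exact absurd hNodd (by decide)

theorem Loc.not_closed (htwo : ∃ x y : G, orderOf x = 2 ∧ orderOf y = 2 ∧ ¬ IsConj x y)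
    (ids : List ℕ) (hsome : ∀ i < reps.length, Fu z φ (reps.getD i 0) → reps.getD i 0 = zC0 ∨ i ∈ ids)
    (hall : ∀ i ∈ ids, i < reps.length ∧ Fu z φ (reps.getD i 0))
    (hA : (let A := oneC :: zC0 :: (tab.filter fun e => ids.any fun i => Nat.beq i e.2.1).map Prod.fst
      A.all fun c => A.all fun d => comC c d && A.any fun r => Nat.beq r (mulM c d)) = true) : False := by
  set A := oneC :: zC0 :: (tab.filter fun e => ids.any fun i => Nat.beq i e.2.1).map Prod.fst with hAdef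
  simp only [List.all_eq_true, Bool.and_eq_true, List.any_eq_true, Nat.beq_eq] at hA
  have hAinv : ∀ x : CC z, φ x ∈ A → x = 1 ∨ IsConj (x : G) z := by
    intro x hx
    rw [hAdef] at hx
    rcases List.mem_cons.1 hx with hx | hx
    · exact Or.inl (L.co.inj (hx.trans L.co.map_one.symm))
    · right
      rcases List.mem_cons.1 hx with hx | hx
      · rw [L.co.inj (hx.trans L.co.map_z.symm)]; exact IsConj.refl z
      · obtain ⟨e, he, hex⟩ := List.mem_map.1 hx
        simp only [List.mem_filter, List.any_eq_true, Nat.beq_eq] at he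
        obtain ⟨he, i, hi, hie⟩ := he
        exact (L.fu_iff x).1 (hex ▸ (L.fu_tab he).2 (hie ▸ (hall i hi).2))
  have hmemA : ∀ x : CC z, IsConj (x : G) z → φ x ∈ A := by
    intro x hxz
    obtain ⟨hx2, hx1⟩ := L.conj_inv hxz
    obtain ⟨e, he, hxe, k, r, hr, hxr⟩ := L.exists_rep hx2 hx1
    rw [hAdef]
    rcases hsome _ (L.tab_spec.2.1 e he).1 ((L.fu_tab he).1 ⟨x, hxe, hxz⟩) with h | h
    · have hrz : r = zc z := L.co.inj (by rw [hr, h, L.co.map_z]; rfl)
      rw [hxr, hrz, ← zc_comm, mul_inv_cancel_right, L.co.map_z]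
      exact List.mem_cons_of_mem _ (List.mem_cons_self ..)
    · refine List.mem_cons_of_mem _ (List.mem_cons_of_mem _ (List.mem_map.2 ⟨e, ?_, hxe.symm⟩))
      simp only [List.mem_filter, List.any_eq_true, Nat.beq_eq]
      exact ⟨he, _, h, rfl⟩
  let Asub : Subgroup (CC z) :=
    { carrier := {x | φ x ∈ A}
      one_mem' := by rw [Set.mem_setOf_eq, L.co.map_one, hAdef]; exact List.mem_cons_self ..
      mul_mem' := fun {x y} hx hy => by
        obtain ⟨r, hr, hre⟩ := (hA _ hx _ hy).2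
        rw [Set.mem_setOf_eq, L.co.map_mul, ← hre]; exact hr
      inv_mem' := fun {x} hx => by
        rcases hAinv x hx with rfl | h
        · simpa using hx
        · rwa [Set.mem_setOf_eq, inv_eq_of_mul_eq_one_right (L.conj_inv h).1] }
  obtain ⟨P, hPc, hzP, hQP⟩ := L.exists_sylow
  have hcom : ∀ x ∈ Asub, ∀ y ∈ Asub, x * y = y * x := fun x hx y hy =>
    (L.co.comC_iff x y).1 (hA _ hx _ hy).1
  set A' : Subgroup G := Asub.map (CC z).subtype with hA'
  have hA1 : A' ≠ ⊥ := by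
    intro h
    have : z ∈ A' := ⟨zc z, hmemA _ (IsConj.refl z), rfl⟩
    rw [h, Subgroup.mem_bot] at this
    exact L.z_ne this
  have hA2 : IsMulCommutative A' := ⟨⟨by
    rintro ⟨_, x, hx, rfl⟩ ⟨_, y, hy, rfl⟩
    exact Subtype.ext (congrArg (CC z).subtype (hcom x hx y hy))⟩⟩
  -- the fused involutions lie in every Sylow subgroup of the centralizer
  haveI := L.normal
  haveI : Fact (Nat.Prime 2) := ⟨Nat.prime_two⟩
  have hAP : A' ≤ (P : Subgroup G) := by
    have hAn : Asub.Normal := ⟨fun x hx k => by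
      rcases hAinv x hx with rfl | h
      · simpa using hx
      · exact hmemA _ (by
          refine IsConj.trans ?_ h
          exact IsConj.symm (_root_.isConj_iff.2 ⟨(k : G), by simp⟩))⟩
    have hAp : IsPGroup 2 Asub := fun x => ⟨1, Subtype.ext (by
      rcases hAinv x.1 x.2 with h | h
      · simp [h]
      · simp [pow_two, (L.conj_inv h).1])⟩
    have hPle : (P : Subgroup G) ≤ CC z := fun x hx => Subgroup.mem_centralizer_singleton_iff.2 (hPc x hx)
    have h2 : IsPGroup 2 ((P : Subgroup G).subgroupOf (CC z) ⊔ Asub : Subgroup (CC z)) :=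
      (P.isPGroup'.of_equiv (Subgroup.subgroupOfEquivOfLe hPle).symm).to_sup_of_normal_right hAp
    have h3 := h2.map (CC z).subtype
    have h4 : (P : Subgroup G) ≤ ((P : Subgroup G).subgroupOf (CC z) ⊔ Asub).map (CC z).subtype :=
      fun x hx => ⟨⟨x, hPle hx⟩, le_sup_left (α := Subgroup (CC z)) hx, rfl⟩
    calc A' ≤ _ := Subgroup.map_mono le_sup_right
      _ = (P : Subgroup G) := P.is_maximal' h3 h4
  have hsc : Cfsg.IsStronglyClosed A' (P : Subgroup G) := by
    refine ⟨hAP, ?_⟩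
    rintro _ ⟨x, hx, rfl⟩ g hg
    rcases hAinv x hx with rfl | h
    · simp [A'.one_mem]
    · refine ⟨⟨_, Subgroup.mem_centralizer_singleton_iff.2 (hPc _ hg)⟩, hmemA _ ?_, rfl⟩
      exact (IsConj.symm (_root_.isConj_iff.2 ⟨g, rfl⟩)).trans h
  rcases Cfsg.Agent.S1169.result P A' hA1 hA2 hsc with h | ⟨H, hH⟩
  · obtain ⟨p, q, hp, hq, hpq⟩ := L.q_noncomm
    have h2 : (⟨(p : G), hQP p hp⟩ : (P : Subgroup G)) * ⟨(q : G), hQP q hq⟩ = ⟨(q : G), hQP q hq⟩ * ⟨(p : G), hQP p hp⟩ :=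
      h.is_comm.comm _ _
    exact hpq (Subtype.ext (Subtype.mk.inj h2))
  · obtain ⟨x, y, hx, hy, hxy⟩ := htwo
    exact hxy (Invol.isConj_involutions hH hx hy)

end Cfsg.Agent.Fus.HeUniq
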