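import Cfsg.Agent.Lib.Fus.HeUniq.Setup

/-!
# Products of codes in the model with trivial second component
-/

set_option autoImplicit false
set_option linter.style.haveILetI false
set_option linter.unusedSectionVars false
set_option maxRecDepth 100000

namespace Cfsg.Agent.Fus.HeUniq

/-- The code of the identity permutation. -/
def oneP : ℕ := 18364758544493064720

/-- The product when the second component is trivial. -/
def mulN (c d : ℕ) : ℕ := pair16 (mul16 (fst16 c) (fst16 d)) oneP

/-- Commuting when the second component is trivial. -/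
def comN (c d : ℕ) : Bool := Nat.beq (mul16 (fst16 c) (fst16 d)) (mul16 (fst16 d) (fst16 c))

theorem mul16_lt (c d : ℕ) : mul16 c d < 16 ^ 16 := by
  rw [mul16_eq]; exact packN_lt 16 _ fun i => dig_lt _ _

theorem shape_SN {c : ℕ} (h : c ∈ elemList false false) : ∃ p < 16 ^ 16, c = pair16 p oneP := by
  simp only [elemList, List.mem_flatten, List.mem_map, List.mem_range] at h
  obtain ⟨l, ⟨j, hj, rfl⟩, hc⟩ := h
  obtain ⟨q, -, rfl⟩ := List.mem_map.1 hc
  have hcov : ((covList false false).getD j (0, 0)).1 = oneP := by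
    rw [show covList false false = List.replicate 168 (oneP, oneP) from rfl, List.getD_eq_getElem?_getD,
      List.getElem?_replicate, if_pos hj, Option.getD_some]
  exact ⟨mul16 ((repList false).getD j (0, 0)).1 q, mul16_lt _ _, by rw [hcov]⟩

theorem one_one : mul16 oneP oneP = oneP ∧ Nat.blt (dig oneP 0) (dig oneP 1) = true := by decide +kernel

theorem mulM_eq {c d : ℕ} (hc : c ∈ elemList false false) (hd : d ∈ elemList false false) :
    mulM c d = mulN c d := by
  obtain ⟨p, hp, rfl⟩ := shape_SN hc
  obtain ⟨q, hq, rfl⟩ := shape_SN hd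
  rw [mulM, mulN, snd16_pair hp, snd16_pair hq, one_one.1, canonC, one_one.2]
  rfl

theorem pair_inj {p q : ℕ} (h : pair16 p oneP = pair16 q oneP) : p = q := by
  simp only [pair16] at h
  omega

theorem comC_eq {c d : ℕ} (hc : c ∈ elemList false false) (hd : d ∈ elemList false false) :
    comC c d = comN c d := by
  rw [comC, comN, mulM_eq hc hd, mulM_eq hd hc, mulN, mulN, Bool.eq_iff_iff, Nat.beq_eq, Nat.beq_eq]
  exact ⟨pair_inj, fun h => by rw [h]⟩

variable {G : Type*} [Group G] {z : G} {Q : Subgroup (CC z)} {φ : CC z → ℕ} {reps roots : List ℕ}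
  {tab : List (ℕ × ℕ × ℕ)} (L : Loc z Q false false φ reps roots tab)
include L

theorem Loc.mulN_eq (x y : CC z) : φ (x * y) = mulN (φ x) (φ y) := by
  rw [L.co.map_mul, mulM_eq (L.co.mem x) (L.co.mem y)]

theorem Loc.comN_iff (x y : CC z) : comN (φ x) (φ y) = true ↔ x * y = y * x := by
  rw [← comC_eq (L.co.mem x) (L.co.mem y), L.co.comC_iff]

end Cfsg.Agent.Fus.HeUniq
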