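import Cfsg.Agent.Lib.Fus.HeUniq.Outer

/-!
# A candidate fixed by the outer involution
-/

set_option autoImplicit false
set_option linter.style.haveILetI false
set_option linter.unusedSectionVars false
set_option maxRecDepth 100000

namespace Cfsg.Agent.Fus.HeUniq

open Cfsg.Agent.Spor.SU32 Cfsg.Agent.Spor.L34Elem L34

local notation "PS" => Matrix.ProjectiveSpecialLinearGroup (Fin 3) F4


theorem Cand_map {d f ξ : PS} (h : Cand d f ξ) (τ : PS ≃* PS) (hd : τ d = d) (hf : τ f = f) :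
    Cand d f (τ ξ) := by
  refine ⟨fun e => h.1 (τ.injective (by rw [e, hd])), ?_, ?_, ?_⟩
  · rw [← hd, ← map_mul, ← map_pow, h.2.1, map_one]
  · rw [← hf, ← map_mul, ← map_pow, h.2.2.1, map_one]
  · rw [← hd, ← hf, ← map_mul, ← map_pow, ← map_mul, ← map_pow, h.2.2.2, map_one]

variable {G : Type*} [Group G] [Finite G] [IsSimpleGroup G] {z : G} {Q : Subgroup (CC z)} {φ : CC z → ℕ}
  {a v : CC z} {F : FF z Q φ a v} {θ : WW a v →* PS}

/-- A candidate with its lift fixed by the outer involution, and the involutions attached to it. -/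
theorem Th.exists_fixed (H : Th F θ) {f : G} (hf : IsX a v f) (hfv : θ ⟨f, hf.1⟩ = PP fM2) {y : G}
    (Y : YY a v f y) :
    ∃ k, k < 6 ∧ ∃ (g : G) (hg : IsX a v g), θ ⟨g, hg.1⟩ = PP (sixM.getD k dM) ∧ y * g = g * y := by
  classical
  let cY : WW a v →* WW a v :=
    { toFun := fun w => ⟨y * w * y⁻¹, F.cj_W Y.fa w.2⟩
      map_one' := Subtype.ext (by simp)
      map_mul' := fun p q => Subtype.ext (cjg_mul y (p : G) q) }
  have hcc : ∀ w : WW a v, cY (cY w) = w := fun w => Subtype.ext (by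
    show y * (y * (w : G) * y⁻¹) * y⁻¹ = w
    rw [show y * (y * (w : G) * y⁻¹) * y⁻¹ = (y * y) * w * (y * y)⁻¹ by group, Y.sq, one_mul, inv_one, mul_one])
  have hker : θ.ker ≤ (θ.comp cY).ker := by
    intro w hw
    rw [MonoidHom.mem_ker, H.one] at hw
    rw [MonoidHom.mem_ker, MonoidHom.comp_apply, H.one]
    show InV a v (y * (w : G) * y⁻¹)
    rcases hw with e | e | e | e <;> rw [e]
    · left; rw [mul_one, mul_inv_cancel]
    · right; left; rw [Y.fa, mul_inv_cancel_right]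
    · right; right; right; exact Y.swap
    · right; right; left
      rw [cjg_mul, Y.swap, Y.fa, mul_inv_cancel_right, mul_assoc, F.aa, mul_one]
  let t0 : PS →* PS := θ.liftOfSurjective H.surj ⟨θ.comp cY, hker⟩
  have ht : ∀ w, t0 (θ w) = θ (cY w) := fun w =>
    MonoidHom.liftOfRightInverse_comp_apply θ _ _ ⟨θ.comp cY, hker⟩ w
  have htt : t0.comp t0 = MonoidHom.id PS := MonoidHom.ext fun ξ => by
    obtain ⟨w, rfl⟩ := H.surj ξ
    rw [MonoidHom.comp_apply, ht, ht, hcc, MonoidHom.id_apply]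
  let τ : PS ≃* PS := MonoidHom.toMulEquiv t0 t0 htt htt
  have hτ : ∀ w, τ (θ w) = θ (cY w) := ht
  have hd : τ (PP dM) = PP dM := by
    rw [← H.zval, hτ]
    exact congrArg θ (Subtype.ext (show y * z * y⁻¹ = z by rw [Y.fz, mul_inv_cancel_right]))
  have hf' : τ (PP fM2) = PP fM2 := by
    rw [← hfv, hτ]
    exact congrArg θ (Subtype.ext (show y * f * y⁻¹ = f from Y.fix))
  have hp : ∀ k : Fin 6, ∃ j : Fin 6, τ (PP (sixM.getD k dM)) = PP (sixM.getD j dM) := by
    intro k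
    obtain ⟨-, -, hg2, -, -, -, hc, -⟩ := rels k k.2
    obtain ⟨j, hj, e⟩ := cand_six ((τ.orderOf_eq _).trans hg2) (Cand_map hc τ hd hf')
    exact ⟨⟨j, hj⟩, e⟩
  choose p hp using hp
  have hpp : ∀ k, p (p k) = k := by
    intro k
    refine Fin.ext (six_inj (p (p k)).2 k.2 ?_)
    rw [← hp, ← hp]
    exact DFunLike.congr_fun htt _
  by_cases hfree : ∀ k, p k ≠ k
  · exfalso
    have hle := fixed_le τ hd hf' p hp hpp hfree
    obtain ⟨q, hq, hqe⟩ := F.outer_rot Y.mem Y.sq (F.Y_out Y)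
    have hfix := dataY_fix
    simp only [chkFix, List.all_eq_true, Nat.ble_eq] at hfix
    have h20 := hfix q hq
    rw [hqe] at h20
    set l := listR.filter fun r => memC listV (mulN r r) && modV (φ (tc Y.mem)) r with hl
    let P : G → Prop := fun r => r ∈ RR a v ∧ InV a v (r * r) ∧
      ∃ k, InV a v k ∧ y * r = k * (r * y)
    have hA : 20 ≤ Nat.card {r : G // P r} := by
      refine h20.trans ?_
      have hnd : l.Nodup := List.Nodup.filter _ (List.Nodup.filter _ (by decide +kernel))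
      rw [← List.toFinset_card_of_nodup hnd, ← Nat.card_eq_finsetCard]
      have hpre : ∀ c : l.toFinset, ∃ r : G, P r ∧ ∃ hr : r ∈ TT a, φ (tc hr) = c.1 := by
        rintro ⟨c, hc⟩
        obtain ⟨hcR, hcc⟩ := List.mem_filter.1 (List.mem_toFinset.1 hc)
        simp only [Bool.and_eq_true, memC_iff, modV, List.any_eq_true, Nat.beq_eq] at hcc
        obtain ⟨r, hrT, hrR, rfl⟩ := F.elem_R hcR
        obtain ⟨hsq, k', hk', hke⟩ := hcc
        obtain ⟨k, hkT, rfl⟩ := F.elem_T (show k' ∈ listT from (by decide +kernel : ∀ d ∈ listV, d ∈ listT) k' hk')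
        refine ⟨r, ⟨hrR, ?_, k, (F.listV_iff hkT).1 hk', ?_⟩, hrT, rfl⟩
        · rw [← F.S.mulT hrT hrT, F.listV_iff] at hsq; exact hsq
        · rwa [← F.S.mulT Y.mem hrT, ← F.S.mulT hrT Y.mem, ← F.S.mulT hkT (mul_mem hrT Y.mem), F.S.tc_inj] at hke
      choose r hr hrT hre using hpre
      exact Nat.card_le_card_of_injective (fun c => (⟨r c, hr c⟩ : {r : G // P r})) fun c d e => Subtype.ext
        (by rw [← hre c, ← hre d, F.S.tc_inj]; exact congrArg Subtype.val e)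
    let T5 := {ξ : PS // ξ * ξ = 1 ∧ ξ * PP dM = PP dM * ξ ∧ τ ξ = ξ}
    have hmem : ∀ r : {r : G // P r}, θ ⟨r.1, F.RW r.2.1⟩ * θ ⟨r.1, F.RW r.2.1⟩ = 1 ∧
        θ ⟨r.1, F.RW r.2.1⟩ * PP dM = PP dM * θ ⟨r.1, F.RW r.2.1⟩ ∧
        τ (θ ⟨r.1, F.RW r.2.1⟩) = θ ⟨r.1, F.RW r.2.1⟩ := by
      rintro ⟨r, hr, hsq, k, hk, hkr⟩
      refine ⟨?_, ?_, ?_⟩
      · rw [← map_mul, H.one]; exact hsq
      · rw [← H.zval, ← map_mul, ← map_mul]
        exact congrArg θ (Subtype.ext (Subgroup.mem_centralizer_singleton_iff.1 (Subgroup.mem_inf.1 hr).1))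
      · rw [hτ, H.eq_iff]
        show InV a v ((y * r * y⁻¹)⁻¹ * r)
        rw [hkr, show (k * (r * y) * y⁻¹)⁻¹ * r = r⁻¹ * k⁻¹ * r by group, inv_eq_of_mul_eq_one_right (F.InV_sq hk),
          mul_assoc, ← F.V_comm hk (F.RW hr), inv_mul_cancel_left]
        exact hk
    choose s hs using H.surj
    have hB : Nat.card {r : G // P r} ≤ Nat.card (T5 × VW a v) := by
      refine Nat.card_le_card_of_injective (fun r => (⟨_, hmem r⟩,
        ⟨(s (θ ⟨r.1, F.RW r.2.1⟩))⁻¹ * ⟨r.1, F.RW r.2.1⟩, F.mem_VW.2 (H.eq_iff.1 (hs _))⟩)) fun r r' e => ?_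
      simp only [Prod.mk.injEq, Subtype.mk.injEq] at e
      obtain ⟨e1, e2⟩ := e
      rw [show θ ⟨r.1, F.RW r.2.1⟩ = θ ⟨r'.1, F.RW r'.2.1⟩ from congrArg Subtype.val e1] at e2
      have e3 : (⟨r.1, F.RW r.2.1⟩ : WW a v) = ⟨r'.1, F.RW r'.2.1⟩ := mul_left_cancel e2
      exact Subtype.ext (congrArg (fun w : WW a v => (w : G)) e3)
    rw [Nat.card_prod, F.card_VW] at hB
    have : Nat.card T5 ≤ 4 := hle
    omega
  · push Not at hfree
    obtain ⟨k, hk⟩ := hfree
    obtain ⟨g, hg, hgv⟩ := H.lift (rels k k.2).2.2.1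
    refine ⟨k, k.2, g, hg, hgv, ?_⟩
    have e := hp k
    rw [hk, ← hgv, hτ] at e
    exact mul_inv_eq_iff_eq_mul.1 (H.inj (F.cj_X Y.fa hg) hg e)

end Cfsg.Agent.Fus.HeUniq
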