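import Cfsg.Agent.Lib.Fus.HeUniq.PartKill
import Cfsg.Agent.Lib.Fus.HeUniq.DataF

/-!
# The four group and its centralizer
-/

set_option autoImplicit false
set_option linter.style.haveILetI false
set_option linter.unusedSectionVars false
set_option maxRecDepth 100000

namespace Cfsg.Agent.Fus.HeUniq

variable {G : Type*} [Group G]

/-- The configuration with the chosen four group. -/
structure FF (z : G) (Q : Subgroup (CC z)) (φ : CC z → ℕ) (a v : CC z) : Prop where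
  S : Sit z Q φ idsF a
  vcode : φ v = vC

/-- Membership in the four group. -/
def InV {z : G} (a v : CC z) (x : G) : Prop := x = 1 ∨ x = a ∨ x = v ∨ x = (v : G) * a

/-- The centralizer of the four group. -/
def WW {z : G} (a v : CC z) : Subgroup G := CC (a : G) ⊓ CC (v : G)

/-- The part of the centralizer of the four group centralising `z`. -/
def RR {z : G} (a v : CC z) : Subgroup G := CC z ⊓ WW a v

/-- An involution not conjugate to `z`. -/
def AType (z x : G) : Prop := orderOf x = 2 ∧ ¬ IsConj x z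

theorem AType.cj {z x : G} (h : AType z x) (g : G) : AType z (g * x * g⁻¹) :=
  ⟨((MulAut.conj g).orderOf_eq x).trans h.1, fun h' => h.2 ((isConj_cj g x).trans h')⟩

/-- A conjugate of `z` in the centralizer of the four group whose translate is not one. -/
def IsX {z : G} (a v : CC z) (x : G) : Prop := x ∈ WW a v ∧ IsConj x z ∧ AType z (x * a)

variable [Finite G] [IsSimpleGroup G] {z : G} {Q : Subgroup (CC z)} {φ : CC z → ℕ} {a v : CC z}
  (F : FF z Q φ a v)
include F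

theorem FF.zF_iff {x : G} (hx : x ∈ TT a) : IsConj x z ↔ φ (tc hx) ∈ zF := F.S.zT_iff hx

theorem FF.aF_iff {x : G} (hx : x ∈ TT a) : AType z x ↔ φ (tc hx) ∈ aF := by
  have h := invT_ok
  simp only [Bool.and_eq_true, List.all_eq_true, beq_iff_eq, Nat.beq_eq] at h
  obtain ⟨⟨hfst, hcls⟩, -⟩ := h
  have hdisj : ∀ e ∈ invT, ((Nat.beq e.2 3 || Nat.beq e.2 6) = true ↔ fSet idsF e.2 = false) := by decide +kernel
  constructor
  · rintro ⟨ho, hnz⟩
    have hx2 : tc hx * tc hx = 1 := Subtype.ext (inv_of_ord ho)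
    have hx1 : tc hx ≠ 1 := fun h => by
      have : x = 1 := congrArg Subtype.val h
      rw [this, orderOf_one] at ho; omega
    have : φ (tc hx) ∈ invT.map Prod.fst := by
      rw [← hfst, List.mem_filter]
      refine ⟨(F.S.mem_T _).1 hx, ?_⟩
      have e := F.S.L.phi_inv hx2 hx1
      rw [← mulM_eq (F.S.L.co.mem _) (F.S.L.co.mem _), e.1, e.2]; rfl
    obtain ⟨e, he, hec⟩ := List.mem_map.1 this
    refine List.mem_map.2 ⟨e, List.mem_filter.2 ⟨he, (hdisj e he).2 ?_⟩, hec⟩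
    rw [← hcls e he, hec, Bool.eq_false_iff]
    exact fun hb => hnz ((F.S.cls (tc hx)).2 hb)
  · intro hm
    obtain ⟨e, he, hec⟩ := List.mem_map.1 hm
    rw [List.mem_filter] at he
    have h3 : φ (tc hx) ∈ invT.map Prod.fst := List.mem_map.2 ⟨e, he.1, hec⟩
    rw [← hfst, List.mem_filter, Bool.and_eq_true, Bool.not_eq_true', ← F.S.mulT hx hx, ← F.S.oneT, Nat.beq_eq,
      F.S.tc_inj] at h3
    refine ⟨orderOf_eq_prime (by rw [pow_two]; exact h3.2.1) fun h1 => ?_, fun hz => ?_⟩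
    · subst h1
      have := h3.2.2
      exact Bool.noConfusion ((Nat.beq_refl _).symm.trans this)
    · have := (F.S.cls (tc hx)).1 hz
      rw [← hec, hcls e he.1, (hdisj e he.1).1 he.2] at this
      exact Bool.noConfusion this

theorem FF.v_props : (v : G) ∈ TT a ∧ AType z (v : G) ∧ AType z ((v : G) * a) ∧ AType z (a : G) ∧
    (v : G) * a = a * v := by
  have h := dataF_v
  simp only [Bool.and_eq_true, memC_iff, Nat.beq_eq, Bool.not_eq_true'] at h
  obtain ⟨⟨⟨⟨⟨⟨⟨⟨⟨⟨h1, h2⟩, h3⟩, h4⟩, -⟩, -⟩, -⟩, -⟩, -⟩, -⟩, -⟩ := h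
  have hvT : (v : G) ∈ TT a := (F.S.mem_T v).2 (F.vcode ▸ h1)
  refine ⟨hvT, (F.aF_iff hvT).2 (show φ v ∈ aF from F.vcode ▸ h2), ?_, (F.aF_iff F.S.aT).2 (F.S.a_mem_iff.symm ▸ h4),
    Subgroup.mem_centralizer_singleton_iff.1 (F.S.T_le hvT)⟩
  refine (F.aF_iff (mul_mem hvT F.S.aT)).2 ?_
  rw [F.S.mulT hvT F.S.aT, F.S.a_mem_iff, show φ (tc hvT) = vC from F.vcode]
  exact h3

theorem FF.vT : (v : G) ∈ TT a := F.v_props.1

theorem FF.v_comm : (v : G) * a = a * v := F.v_props.2.2.2.2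

theorem FF.vv : (v : G) * v = 1 := inv_of_ord F.v_props.2.1.1

theorem FF.aa : (a : G) * a = 1 := inv_of_ord F.S.a_inv

theorem FF.mem_W {x : G} : x ∈ WW a v ↔ x * a = a * x ∧ x * v = v * x := by
  rw [WW, Subgroup.mem_inf, Subgroup.mem_centralizer_singleton_iff, Subgroup.mem_centralizer_singleton_iff]

theorem FF.aW : (a : G) ∈ WW a v := F.mem_W.2 ⟨rfl, F.v_comm.symm⟩

theorem FF.vW : (v : G) ∈ WW a v := F.mem_W.2 ⟨F.v_comm, rfl⟩

theorem FF.V_W {x : G} (h : InV a v x) : x ∈ WW a v := by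
  rcases h with rfl | rfl | rfl | rfl
  · exact one_mem _
  · exact F.aW
  · exact F.vW
  · exact mul_mem F.vW F.aW

theorem FF.V_comm {k x : G} (hk : InV a v k) (hx : x ∈ WW a v) : x * k = k * x := by
  obtain ⟨h1, h2⟩ := F.mem_W.1 hx
  rcases hk with rfl | rfl | rfl | rfl
  · rw [mul_one, one_mul]
  · exact h1
  · exact h2
  · rw [← mul_assoc, h2, mul_assoc, h1, ← mul_assoc]

theorem FF.mem_R {x : G} : x ∈ RR a v ↔ ∃ hx : x ∈ TT a, φ (tc hx) ∈ listR := by
  rw [RR, Subgroup.mem_inf, F.mem_W]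
  constructor
  · rintro ⟨hz, ha, hv⟩
    have hT : x ∈ TT a := Subgroup.mem_inf.2 ⟨hz, Subgroup.mem_centralizer_singleton_iff.2 ha⟩
    refine ⟨hT, List.mem_filter.2 ⟨(F.S.mem_T _).1 hT, ?_⟩⟩
    rw [← F.vcode]
    exact (F.S.commT hT F.vT).2 hv
  · rintro ⟨hT, hR⟩
    rw [listR, List.mem_filter, ← F.vcode] at hR
    exact ⟨(Subgroup.mem_inf.1 hT).1, Subgroup.mem_centralizer_singleton_iff.1 (F.S.T_le hT),
      (F.S.commT hT F.vT).1 hR.2⟩

theorem FF.RT : RR a v ≤ TT a := fun _ hx => (F.mem_R.1 hx).choose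

theorem FF.RW : RR a v ≤ WW a v := inf_le_right

theorem FF.listV_iff {x : G} (hx : x ∈ TT a) : φ (tc hx) ∈ listV ↔ InV a v x := by
  rw [listV, show vC = φ (tc F.vT) from F.vcode.symm, ← F.S.a_mem_iff, ← F.S.mulT F.vT F.S.aT, ← F.S.oneT]
  simp only [List.mem_cons, List.not_mem_nil, or_false, F.S.tc_inj, InV]

omit F in
theorem listR_sub {c : ℕ} (h : c ∈ listR) : c ∈ listT := (List.mem_filter.1 h).1

theorem FF.elem_T {c : ℕ} (h : c ∈ listT) : ∃ (x : G) (hx : x ∈ TT a), φ (tc hx) = c := by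
  have hl : (elemList false false).filter (fun c => comN c aC) = listT := by simpa using listT_ok
  obtain ⟨u, rfl⟩ := (F.S.L.co.range c).1 (List.mem_filter.1 (hl.symm ▸ h : c ∈ _)).1
  exact ⟨u, (F.S.mem_T u).2 h, rfl⟩

theorem FF.elem_R {c : ℕ} (h : c ∈ listR) : ∃ (x : G) (hx : x ∈ TT a), x ∈ RR a v ∧ φ (tc hx) = c := by
  obtain ⟨x, hx, rfl⟩ := F.elem_T (listR_sub h)
  exact ⟨x, hx, F.mem_R.2 ⟨hx, h⟩, rfl⟩

/-- The number of elements of `T` commuting with an element of `T`. -/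
theorem FF.count_T {x : G} (hx : x ∈ TT a) :
    Nat.card {t : G // t ∈ TT a ∧ t * x = x * t} = (listT.filter fun c => comN c (φ (tc hx))).length := by
  classical
  have hnd : (listT.filter fun c => comN c (φ (tc hx))).Nodup := List.Nodup.filter _ (by decide +kernel)
  rw [← List.toFinset_card_of_nodup hnd, ← Nat.card_eq_finsetCard]
  refine Nat.card_congr (Equiv.ofBijective (fun t => ⟨φ (tc t.2.1), List.mem_toFinset.2
    (List.mem_filter.2 ⟨(F.S.mem_T _).1 t.2.1, (F.S.commT t.2.1 hx).2 t.2.2⟩)⟩) ⟨?_, ?_⟩)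
  · intro t u e
    exact Subtype.ext ((F.S.tc_inj t.2.1 u.2.1).1 (congrArg Subtype.val e))
  · rintro ⟨c, hc⟩
    obtain ⟨hcT, hcc⟩ := List.mem_filter.1 (List.mem_toFinset.1 hc)
    obtain ⟨t, ht, rfl⟩ := F.elem_T hcT
    exact ⟨⟨t, ht, (F.S.commT ht hx).1 hcc⟩, rfl⟩

theorem FF.card_R : Nat.card (RR a v) = 256 := by
  have h := dataF_v
  simp only [Bool.and_eq_true, Nat.beq_eq] at h
  rw [← h.1.2, listR, ← F.vcode, ← show φ (tc F.vT) = φ v from rfl, ← F.count_T F.vT]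
  exact Nat.card_congr
    { toFun := fun x => ⟨x.1, F.RT x.2, (F.mem_W.1 (F.RW x.2)).2⟩
      invFun := fun x => ⟨x.1, Subgroup.mem_inf.2 ⟨(Subgroup.mem_inf.1 x.2.1).1,
        F.mem_W.2 ⟨Subgroup.mem_centralizer_singleton_iff.1 (F.S.T_le x.2.1), x.2.2⟩⟩⟩
      left_inv := fun _ => rfl
      right_inv := fun _ => rfl }

/-- Only two involutions besides `a` have large centralizers and translates of the same type. -/
theorem FF.pair_cases {x : G} (hx : x ∈ TT a) (h1 : AType z x) (h2 : AType z (x * a)) (hne : x ≠ a)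
    (hc : 64 ≤ Nat.card {t : G // t ∈ TT a ∧ t * x = x * t}) : x = v ∨ x = (v : G) * a := by
  have h := dataF_pair
  have h1' := (F.aF_iff hx).1 h1
  obtain ⟨e, he, hec⟩ := List.mem_map.1 h1'
  simp only [chkPair, List.all_eq_true, Bool.or_eq_true, Bool.not_eq_true', Bool.and_eq_false_iff,
    ← Bool.not_eq_true, memC_iff, Nat.beq_eq, Nat.blt_eq] at h
  have hk := h e (List.mem_filter.1 he).1
  rw [hec, ← F.count_T hx] at hk
  rcases hk with (((h' | h') | h') | h') | h'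
  · refine absurd ?_ h'
    rw [Bool.and_eq_true, memC_iff, memC_iff, ← F.S.a_mem_iff, ← F.S.mulT hx F.S.aT]
    exact ⟨h1', (F.aF_iff (mul_mem hx F.S.aT)).1 h2⟩
  · rw [← F.S.a_mem_iff, F.S.tc_inj] at h'; exact absurd h' hne
  · rw [show vC = φ (tc F.vT) from F.vcode.symm, F.S.tc_inj] at h'; exact Or.inl h'
  · rw [show vC = φ (tc F.vT) from F.vcode.symm, ← F.S.a_mem_iff, ← F.S.mulT F.vT F.S.aT, F.S.tc_inj] at h'
    exact Or.inr h'
  · omega

theorem FF.W_two_le {P : Subgroup G} (hP : IsPGroup 2 P) (hPW : P ≤ WW a v) (h64 : 64 ≤ Nat.card P) :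
    Nat.card P ≤ 256 := by
  classical
  haveI : Fact (Nat.Prime 2) := ⟨Nat.prime_two⟩
  have hvp : IsPGroup 2 (Subgroup.zpowers (v : G)) :=
    IsPGroup.of_card (n := 1) (by rw [Nat.card_zpowers, F.v_props.2.1.1, pow_one])
  have hnorm : Subgroup.zpowers (v : G) ≤ Subgroup.normalizer (P : Set G) := by
    rw [Subgroup.zpowers_le, Subgroup.mem_normalizer_iff]
    intro p
    have hv' : ∀ q ∈ WW a v, (v : G) * q * (v : G)⁻¹ = q := fun q hq => by
      rw [← (F.mem_W.1 hq).2, mul_inv_cancel_right]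
    refine ⟨fun hp => (hv' p (hPW hp)).symm ▸ hp, fun hp => ?_⟩
    have := hv' _ (hPW hp)
    rwa [show p = (v : G) * p * (v : G)⁻¹ from mul_left_cancel (mul_right_cancel this :).symm]
  obtain ⟨h, ha, hh⟩ := F.S.to_T (hP.to_sup_of_normal_left' hvp hnorm)
    (sup_le (hPW.trans inf_le_left) (Subgroup.zpowers_le.2 (Subgroup.mem_centralizer_singleton_iff.2 F.v_comm)))
  have ha' := Subgroup.mem_centralizer_singleton_iff.1 ha
  have hv := hh v (le_sup_right (α := Subgroup G) (Subgroup.mem_zpowers _))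
  set v' := h * v * h⁻¹ with hv'
  have hha : h * a * h⁻¹ = a := by rw [ha', mul_inv_cancel_right]
  have hle : Nat.card P ≤ Nat.card {t : G // t ∈ TT a ∧ t * v' = v' * t} := by
    refine Nat.card_le_card_of_injective (fun p => ⟨h * p.1 * h⁻¹, hh p.1 (le_sup_left (α := Subgroup G) p.2),
      cjg_comm h (F.mem_W.1 (hPW p.2)).2⟩) fun p q e => ?_
    exact Subtype.ext ((cjg_eq h p.1 q.1).1 (congrArg Subtype.val e :))
  have h2 : AType z (v' * a) := by
    have := F.v_props.2.2.1.cj h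
    rwa [cjg_mul, hha] at this
  have hne : v' ≠ a := fun e => by
    have e' : (v : G) = a := (cjg_eq h _ _).1 (e.trans hha.symm)
    have hbad := F.v_props.2.2.1.1
    rw [e', F.aa, orderOf_one] at hbad
    omega
  refine hle.trans (le_of_eq ?_)
  rw [← F.card_R]
  rcases F.pair_cases hv (F.v_props.2.1.cj h) h2 hne (h64.trans hle) with e | e <;> rw [e]
  all_goals
    refine Nat.card_congr (Equiv.subtypeEquivRight fun t => ⟨fun ht => Subgroup.mem_inf.2
      ⟨(Subgroup.mem_inf.1 ht.1).1, F.mem_W.2 ⟨Subgroup.mem_centralizer_singleton_iff.1 (F.S.T_le ht.1), ?_⟩⟩,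
      fun ht => ⟨F.RT ht, ?_⟩⟩)
  · exact ht.2
  · exact (F.mem_W.1 (F.RW ht)).2
  · have h3 := ht.2
    rw [← mul_assoc] at h3
    rw [show t * (v : G) = t * v * a * a by rw [mul_assoc, F.aa, mul_one], h3, mul_assoc, mul_assoc,
      Subgroup.mem_centralizer_singleton_iff.1 (F.S.T_le ht.1), ← mul_assoc (a : G) a, F.aa, one_mul]
  · exact F.V_comm (Or.inr (Or.inr (Or.inr rfl))) (F.RW ht)

theorem FF.R_two : IsPGroup 2 (RR a v) := F.S.T_two.to_le F.RT

/-- Every two-group in the centralizer of the four group is conjugate into `R` there. -/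
theorem FF.to_R {P : Subgroup G} (hP : IsPGroup 2 P) (hPW : P ≤ WW a v) :
    ∃ w ∈ WW a v, ∀ p ∈ P, w * p * w⁻¹ ∈ RR a v := by
  classical
  haveI : Fact (Nat.Prime 2) := ⟨Nat.prime_two⟩
  obtain ⟨A, hA⟩ := (F.R_two.of_equiv (Subgroup.subgroupOfEquivOfLe F.RW).symm :
    IsPGroup 2 ((RR a v).subgroupOf (WW a v))).exists_le_sylow
  obtain ⟨B, hB⟩ := (hP.of_equiv (Subgroup.subgroupOfEquivOfLe hPW).symm :
    IsPGroup 2 (P.subgroupOf (WW a v))).exists_le_sylow
  have hAR : (A : Subgroup (WW a v)) = (RR a v).subgroupOf (WW a v) := by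
    refine (Subgroup.eq_of_le_of_card_ge hA ?_).symm
    have hc : Nat.card ((A : Subgroup (WW a v)).map (WW a v).subtype) = Nat.card (A : Subgroup (WW a v)) :=
      Nat.card_congr ((A : Subgroup (WW a v)).equivMapOfInjective _ (Subgroup.subtype_injective _)).symm.toEquiv
    have h256 : 256 ≤ Nat.card (A : Subgroup (WW a v)) := by
      have := Nat.le_of_dvd Nat.card_pos (Subgroup.card_dvd_of_le hA)
      rwa [Nat.card_congr (Subgroup.subgroupOfEquivOfLe F.RW).toEquiv, F.card_R] at this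
    rw [Nat.card_congr (Subgroup.subgroupOfEquivOfLe F.RW).toEquiv, F.card_R, ← hc]
    exact F.W_two_le (A.isPGroup'.map _) (Subgroup.map_subtype_le _) (by omega)
  obtain ⟨g, hg⟩ := MulAction.exists_smul_eq (WW a v) B A
  refine ⟨g, g.2, fun p hp => ?_⟩
  have h2 : g * ⟨p, hPW hp⟩ * g⁻¹ ∈ (A : Subgroup (WW a v)) := by
    rw [← hg, Sylow.coe_subgroup_smul]
    exact ⟨⟨p, hPW hp⟩, hB hp, rfl⟩
  rw [hAR] at h2
  exact h2

theorem FF.zc_props : z ∈ RR a v ∧ IsConj (z * (v : G)) z ∧ IsConj (z * ((v : G) * a)) z ∧ AType z (z * a) := by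
  have h := dataF_v
  simp only [Bool.and_eq_true, memC_iff, Nat.beq_eq, Bool.not_eq_true'] at h
  obtain ⟨⟨⟨⟨⟨⟨⟨⟨⟨⟨-, -⟩, -⟩, -⟩, hzv⟩, h1⟩, h2⟩, h3⟩, -⟩, -⟩, -⟩ := h
  have hzT : z ∈ TT a := mem_TT.2 ⟨(zc z).2, zc_comm a⟩
  have hcz : φ (tc hzT) = zC0 := F.S.L.co.map_z
  have hzR : z ∈ RR a v := F.mem_R.2 ⟨hzT, List.mem_filter.2 ⟨(F.S.mem_T _).1 hzT, by
    rw [hcz, ← F.vcode, show zC0 = φ (zc z) from F.S.L.co.map_z.symm, F.S.L.comN_iff]
    exact zc_comm v⟩⟩
  refine ⟨hzR, (F.zF_iff (mul_mem hzT F.vT)).2 ?_, (F.zF_iff (mul_mem hzT (mul_mem F.vT F.S.aT))).2 ?_,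
    (F.aF_iff (mul_mem hzT F.S.aT)).2 ?_⟩
  · rw [F.S.mulT hzT F.vT, hcz, show φ (tc F.vT) = vC from F.vcode]; exact h1
  · rw [F.S.mulT hzT (mul_mem F.vT F.S.aT), F.S.mulT F.vT F.S.aT, hcz, show φ (tc F.vT) = vC from F.vcode,
      F.S.a_mem_iff]
    exact h2
  · rw [F.S.mulT hzT F.S.aT, hcz, F.S.a_mem_iff]; exact h3

/-- The involutions of a coset of the four group in its centralizer. -/
theorem FF.coset {r : G} (hr : r ∈ WW a v) (hnV : ¬ InV a v r) (hsq : InV a v (r * r)) :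
    r * r = 1 ∧ ∃ k, InV a v k ∧ AType z (r * k) ∧ ∀ k', InV a v k' → AType z (r * k') → k' = k := by
  classical
  haveI : Fact (Nat.Prime 2) := ⟨Nat.prime_two⟩
  have h4 : r ^ (2 ^ 2) = 1 := by
    have hVsq : ∀ k, InV a v k → k * k = 1 := by
      intro k hk
      rcases hk with rfl | rfl | rfl | rfl
      · exact one_mul 1
      · exact F.aa
      · exact F.vv
      · exact inv_of_ord F.v_props.2.2.1.1
    rw [show (2 : ℕ) ^ 2 = 2 * 2 from rfl, pow_mul, pow_two, pow_two]; exact hVsq _ hsq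
  obtain ⟨w, hw, hwR⟩ := F.to_R (P := Subgroup.zpowers r) (IsPGroup.iff_orderOf.2 fun x => by
      obtain ⟨k, -, hk⟩ := (Nat.dvd_prime_pow Nat.prime_two).1
        ((orderOf_dvd_natCard x).trans ((Nat.card_zpowers r).symm ▸ orderOf_dvd_of_pow_eq_one h4))
      exact ⟨k, hk⟩) (Subgroup.zpowers_le.2 hr)
  have hsR := hwR r (Subgroup.mem_zpowers r)
  set s := w * r * w⁻¹ with hs
  have hfix : ∀ k, InV a v k → w * k * w⁻¹ = k := fun k hk => by rw [F.V_comm hk hw, mul_inv_cancel_right]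
  obtain ⟨hsT, hsl⟩ := F.mem_R.1 hsR
  have hss : s * s = w * (r * r) * w⁻¹ := by rw [hs, cjg_mul]
  have hs' := sqT_ok
  simp only [Bool.and_eq_true, beq_iff_eq, List.all_eq_true, Nat.beq_eq] at hs'
  obtain ⟨e, he, hec⟩ := List.mem_map.1 (hs'.1 ▸ (F.S.mem_T _).1 hsT : φ (tc hsT) ∈ sqT.map Prod.fst)
  have he2 : e.2 = φ (tc (mul_mem hsT hsT)) := by rw [F.S.mulT hsT hsT, ← hec]; exact (hs'.2 e he).symm
  have hd := dataF_coset
  simp only [Bool.and_eq_true, chkCoset, List.all_eq_true, Bool.or_eq_true, Bool.not_eq_true', memC_iff,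
    Nat.beq_eq] at hd
  have hk := hd.1 e he
  have c1 : comN e.1 vC = true := by rw [hec]; exact (List.mem_filter.1 hsl).2
  have c2 : e.1 ∉ listV := by
    rw [hec, F.listV_iff hsT]
    intro h
    refine hnV ?_
    have e2 : w * r * w⁻¹ = w * s * w⁻¹ := by rw [hfix s h]
    rw [(cjg_eq w r s).1 e2]; exact h
  have c3 : e.2 ∈ listV := by rw [he2, F.listV_iff, hss, hfix _ hsq]; exact hsq
  rcases hk with ((hk | hk) | hk) | hk
  · rw [hk] at c1; exact Bool.noConfusion c1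
  · exact absurd hk c2
  · rw [← Bool.not_eq_true, memC_iff] at hk; exact absurd c3 hk
  refine ⟨?_, ?_⟩
  · have h1 := hk.1
    rw [he2, ← F.S.oneT, F.S.tc_inj, hss] at h1
    rwa [conj_eq_one_iff] at h1
  · obtain ⟨c, hl⟩ := List.length_eq_one_iff.1 hk.2
    have hcm : c ∈ (listV.map (mulN e.1)).filter (memC aF) := hl ▸ List.mem_cons_self ..
    rw [List.mem_filter, memC_iff, List.mem_map] at hcm
    obtain ⟨⟨d, hd', rfl⟩, hcA⟩ := hcm
    have hdT : d ∈ listT := by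
      have : ∀ d ∈ listV, d ∈ listT := by decide +kernel
      exact this d hd'
    obtain ⟨k, hk', rfl⟩ := F.elem_T hdT
    have hkV := (F.listV_iff hk').1 hd'
    have hatype : ∀ j, InV a v j → AType z (s * j) → AType z (r * j) := fun j hj h => by
      have h5 := h.cj w⁻¹
      rwa [inv_inv, show w⁻¹ * (s * j) * w = r * (w⁻¹ * j * w) by rw [hs]; group,
        show w⁻¹ * j * w = j by rw [mul_assoc, ← F.V_comm hj hw, inv_mul_cancel_left]] at h5
    refine ⟨k, hkV, hatype k hkV ((F.aF_iff (mul_mem hsT hk')).2 ?_), fun k2 hk2 hA2 => ?_⟩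
    · rw [F.S.mulT hsT hk', ← hec]; exact hcA
    · have hA3 : AType z (s * k2) := by
        have := hA2.cj w
        rwa [cjg_mul, hfix k2 hk2, ← hs] at this
      have hk2T : k2 ∈ TT a := by
        rcases hk2 with rfl | rfl | rfl | rfl
        · exact one_mem _
        · exact F.S.aT
        · exact F.vT
        · exact mul_mem F.vT F.S.aT
      have hm : φ (tc (mul_mem hsT hk2T)) ∈ (listV.map (mulN e.1)).filter (memC aF) := by
        rw [List.mem_filter, memC_iff, List.mem_map]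
        exact ⟨⟨_, (F.listV_iff hk2T).2 hk2, by rw [hec, F.S.mulT hsT hk2T]⟩, (F.aF_iff _).1 hA3⟩
      rw [hl, List.mem_singleton, hec, ← F.S.mulT hsT hk', F.S.tc_inj] at hm
      exact mul_left_cancel hm

end Cfsg.Agent.Fus.HeUniq
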