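import Cfsg.Agent.Lib.Fus.HeUniq.Code
import Cfsg.Agent.Lib.Fus.Extraspecial

/-!
# A frame of an extraspecial group of order `2⁷` of plus type

Six involutions with the commutators of the model; codes below `128` then parametrise the group.
-/

set_option autoImplicit false
set_option linter.style.haveILetI false
set_option linter.unusedSectionVars false

namespace Cfsg.Agent.Fus.HeUniq

variable {H : Type*} [Group H]

/-- The parity bit of a code. -/
def epsQ (n : ℕ) : Bool := Nat.testBit n 6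

/-- The product of codes. -/
def mulQ (n m : ℕ) : ℕ :=
  ((n &&& 63) ^^^ (m &&& 63)) +
    (bif (epsQ n ^^ epsQ m ^^ par3 (((n &&& 63) >>> 3) &&& (m &&& 7))) then 64 else 0)

/-- Six involutions with the commutators of the model. -/
structure Frame (z : H) (x w : Fin 3 → H) : Prop where
  zsq : z * z = 1
  zne : z ≠ 1
  zc : ∀ g : H, z * g = g * z
  xsq : ∀ i, x i * x i = 1
  wsq : ∀ i, w i * w i = 1
  xx : ∀ i j, x i * x j = x j * x i
  ww : ∀ i j, w i * w j = w j * w i
  wx : ∀ i j, w i * x j = x j * w i * (bif decide (i = j) then z else 1)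

/-- A power with exponent zero or one. -/
def bpow (g : H) (b : Bool) : H := bif b then g else 1

/-- The product of a selection of three elements. -/
def word (y : Fin 3 → H) (a : Fin 3 → Bool) : H := bpow (y 0) (a 0) * bpow (y 1) (a 1) * bpow (y 2) (a 2)

/-- The first three bits of a code. -/
def bitsX (n : ℕ) : Fin 3 → Bool := fun i => n.testBit i

/-- The next three bits of a code. -/
def bitsW (n : ℕ) : Fin 3 → Bool := fun i => n.testBit (3 + (i : ℕ))

/-- The element of a code. -/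
def theta (z : H) (x w : Fin 3 → H) (n : ℕ) : H :=
  word x (bitsX n) * word w (bitsW n) * bpow z (n.testBit 6)

theorem mulQ_assoc_gen : ∀ n : Fin 128, ∀ m : Fin 128, ∀ k : Fin 7,
    mulQ n (mulQ m (2 ^ (k : ℕ))) = mulQ (mulQ n m) (2 ^ (k : ℕ)) := by decide +kernel

theorem mulQ_lt : ∀ n : Fin 128, ∀ m : Fin 128, mulQ n m < 128 := by decide +kernel

theorem mulQ_zero : ∀ n : Fin 128, mulQ n 0 = n := by decide +kernel

theorem mulQ_pred : ∀ m : Fin 128, (m : ℕ) ≠ 0 →
    ∃ k : Fin 7, ∃ m' : Fin 128, (m' : ℕ) < m ∧ mulQ m' (2 ^ (k : ℕ)) = m := by decide +kernel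

theorem bits_gen : ∀ n : Fin 128, ∀ k : Fin 7, ∀ j : Fin 7, Nat.testBit (mulQ n (2 ^ (k : ℕ))) j =
    (Nat.testBit n j ^^ decide (j = k) ^^
      (decide ((j : ℕ) = 6) && decide ((k : ℕ) < 3) && Nat.testBit n (3 + k))) := by
  decide +kernel

section Frame

variable {z : H} {x w : Fin 3 → H} (fr : Frame z x w)
include fr

theorem Frame.bpow_z (g : H) (b : Bool) : bpow z b * g = g * bpow z b := by
  cases b <;> simp [bpow, fr.zc g]

/-- Flipping one bit. -/
def flip3 (a : Fin 3 → Bool) (i : Fin 3) : Fin 3 → Bool := fun j => a j ^^ decide (j = i)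

theorem Frame.absorb (y : Fin 3 → H) (hsq : ∀ i, y i * y i = 1) (hc : ∀ i j, y i * y j = y j * y i)
    (a : Fin 3 → Bool) (i : Fin 3) : word y a * y i = word y (flip3 a i) := by
  have h0 : ∀ g, y 0 * (y 0 * g) = g := fun g => by rw [← mul_assoc, hsq, one_mul]
  have h1 : ∀ g, y 1 * (y 1 * g) = g := fun g => by rw [← mul_assoc, hsq, one_mul]
  have c : ∀ i j, ∀ g, y i * (y j * g) = y j * (y i * g) := fun i j g => by
    rw [← mul_assoc, hc i j, mul_assoc]
  fin_cases i <;> cases e0 : a 0 <;> cases e1 : a 1 <;> cases e2 : a 2 <;>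
    simp [word, flip3, bpow, e0, e1, e2, mul_assoc, hsq, h0, h1, hc 1 0, hc 2 0, hc 2 1, c 1 0, c 2 0, c 2 1]

/-- Moving one of the first three leftwards. -/
theorem Frame.move (b : Fin 3 → Bool) (i : Fin 3) : word w b * x i = x i * word w b * bpow z (b i) := by
  have key : ∀ j, bpow (w j) (b j) * x i = x i * bpow (w j) (b j) * bpow z (b j && decide (j = i)) := by
    intro j
    cases hb : b j
    · simp [bpow]
    · rcases eq_or_ne j i with e | e
      · subst e; simpa [bpow] using fr.wx j j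
      · simpa [bpow, e] using fr.wx j i
  have zm : ∀ c g, bpow z c * g = g * bpow z c := fun c g => fr.bpow_z g c
  calc word w b * x i = bpow (w 0) (b 0) * (bpow (w 1) (b 1) * (bpow (w 2) (b 2) * x i)) := by
        simp only [word, mul_assoc]
    _ = bpow (w 0) (b 0) * (bpow (w 1) (b 1) * x i) * bpow (w 2) (b 2) * bpow z (b 2 && decide (2 = i)) := by
        rw [key 2]; simp only [mul_assoc]
    _ = bpow (w 0) (b 0) * x i * bpow (w 1) (b 1) * bpow (w 2) (b 2) *
          (bpow z (b 1 && decide (1 = i)) * bpow z (b 2 && decide (2 = i))) := by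
        rw [key 1]; simp only [mul_assoc]; rw [← mul_assoc (bpow z _) (bpow (w 2) _), zm, mul_assoc]
    _ = x i * word w b * (bpow z (b 0 && decide (0 = i)) *
          (bpow z (b 1 && decide (1 = i)) * bpow z (b 2 && decide (2 = i)))) := by
        rw [key 0]; simp only [word, mul_assoc]
        rw [← mul_assoc (bpow z _) (bpow (w 1) _), zm, mul_assoc, ← mul_assoc (bpow z _) (bpow (w 2) _), zm,
          mul_assoc]
    _ = _ := by fin_cases i <;> cases h0 : b 0 <;> cases h1 : b 1 <;> cases h2 : b 2 <;> simp [bpow, h0, h1, h2]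

theorem Frame.zmul (a c : Bool) : bpow z a * bpow z c = bpow z (a ^^ c) := by
  cases a <;> cases c <;> simp [bpow, fr.zsq]

theorem Frame.mul_x (a b : Fin 3 → Bool) (e : Bool) (i : Fin 3) :
    word x a * word w b * bpow z e * x i = word x (flip3 a i) * word w b * bpow z (e ^^ b i) := by
  calc word x a * word w b * bpow z e * x i = word x a * (word w b * x i) * bpow z e := by
        rw [mul_assoc _ (bpow z e) (x i), fr.bpow_z]; simp only [mul_assoc]
    _ = word x a * x i * word w b * (bpow z (b i) * bpow z e) := by rw [fr.move]; simp only [mul_assoc]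
    _ = _ := by rw [fr.absorb x fr.xsq fr.xx, fr.zmul, Bool.xor_comm]

theorem Frame.mul_w (a b : Fin 3 → Bool) (e : Bool) (i : Fin 3) :
    word x a * word w b * bpow z e * w i = word x a * word w (flip3 b i) * bpow z e := by
  rw [mul_assoc _ (bpow z e) (w i), fr.bpow_z, ← mul_assoc, mul_assoc (word x a), fr.absorb w fr.wsq fr.ww]

/-- A generator of the model. -/
theorem Frame.theta_pow (k : Fin 7) : theta z x w (2 ^ (k : ℕ)) =
    Matrix.vecCons (x 0) ![x 1, x 2, w 0, w 1, w 2, z] k := by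
  have h : ∀ k : Fin 7, ∀ j : Fin 7, Nat.testBit (2 ^ (k : ℕ)) j = decide (j = k) := by decide
  simp only [theta, word, bitsX, bitsW, h k ⟨0, _⟩, h k ⟨1, _⟩]
  fin_cases k <;> simp [bpow, Nat.testBit]

theorem Frame.theta_mul_gen (n : Fin 128) (k : Fin 7) :
    theta z x w (mulQ n (2 ^ (k : ℕ))) = theta z x w n * theta z x w (2 ^ (k : ℕ)) := by
  rw [fr.theta_pow k]
  have hb := bits_gen n k
  have hX : ∀ i : Fin 3, bitsX (mulQ n (2 ^ (k : ℕ))) i = (bitsX n i ^^ decide ((i : ℕ) = k)) := fun i => by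
    have := hb ⟨i, by omega⟩
    simpa [bitsX, Fin.ext_iff, show ¬ (i : ℕ) = 6 by omega] using this
  have hW : ∀ i : Fin 3, bitsW (mulQ n (2 ^ (k : ℕ))) i = (bitsW n i ^^ decide (3 + (i : ℕ) = k)) := fun i => by
    have := hb ⟨3 + i, by omega⟩
    simpa [bitsW, Fin.ext_iff, show ¬ 3 + (i : ℕ) = 6 by omega] using this
  have h6 := hb ⟨6, by norm_num⟩
  simp only [Fin.ext_iff, decide_true, Bool.true_and] at h6
  have zm : ∀ c g, bpow z c * g = g * bpow z c := fun c g => fr.bpow_z g c
  unfold theta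
  rw [show bitsX (mulQ n (2 ^ (k : ℕ))) = fun i : Fin 3 => bitsX n i ^^ decide ((i : ℕ) = k) from funext hX,
    show bitsW (mulQ n (2 ^ (k : ℕ))) = fun i : Fin 3 => bitsW n i ^^ decide (3 + (i : ℕ) = k) from funext hW]
  change _ * bpow z (Nat.testBit (mulQ n (2 ^ (k : ℕ))) 6) = _
  rw [h6]
  rcases (by omega : (k : ℕ) < 3 ∨ (3 ≤ (k : ℕ) ∧ (k : ℕ) < 6) ∨ (k : ℕ) = 6) with h | ⟨h, h'⟩ | h
  · obtain ⟨i, hi⟩ : ∃ i : Fin 3, (i : ℕ) = k := ⟨⟨k, h⟩, rfl⟩
    have ev : Matrix.vecCons (x 0) ![x 1, x 2, w 0, w 1, w 2, z] k = x i := by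
      obtain ⟨k, hk⟩ := k
      simp only at hi
      subst hi
      fin_cases i <;> rfl
    rw [ev, fr.mul_x]
    have e1 : (fun j : Fin 3 => bitsX n j ^^ decide ((j : ℕ) = k)) = flip3 (bitsX n) i := by
      funext j; simp [flip3, Fin.ext_iff, hi]
    have e2 : (fun j : Fin 3 => bitsW n j ^^ decide (3 + (j : ℕ) = k)) = bitsW n := by
      funext j; simp [show ¬ 3 + (j : ℕ) = k by omega]
    rw [e1, e2]
    simp [h, show ¬ 6 = (k : ℕ) by omega, bitsW, hi, Bool.xor_comm]
  · obtain ⟨i, hi⟩ : ∃ i : Fin 3, 3 + (i : ℕ) = k := ⟨⟨k - 3, by omega⟩, by simp; omega⟩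
    have ev : Matrix.vecCons (x 0) ![x 1, x 2, w 0, w 1, w 2, z] k = w i := by
      obtain ⟨k, hk⟩ := k
      simp only at hi
      subst hi
      fin_cases i <;> rfl
    rw [ev, fr.mul_w]
    have e1 : (fun j : Fin 3 => bitsX n j ^^ decide ((j : ℕ) = k)) = bitsX n := by
      funext j; simp [show ¬ (j : ℕ) = k by omega]
    have e2 : (fun j : Fin 3 => bitsW n j ^^ decide (3 + (j : ℕ) = k)) = flip3 (bitsW n) i := by
      funext j; simp [flip3, Fin.ext_iff, ← hi]
    rw [e1, e2]
    simp [show ¬ (k : ℕ) < 3 by omega, show ¬ 6 = (k : ℕ) by omega]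
  · have ev : Matrix.vecCons (x 0) ![x 1, x 2, w 0, w 1, w 2, z] k = bpow z true := by
      obtain rfl : k = 6 := Fin.ext (by simpa using h)
      rfl
    rw [ev, mul_assoc _ (bpow z _), fr.zmul]
    have e1 : (fun j : Fin 3 => bitsX n j ^^ decide ((j : ℕ) = k)) = bitsX n := by
      funext j; simp [show ¬ (j : ℕ) = k by omega]
    have e2 : (fun j : Fin 3 => bitsW n j ^^ decide (3 + (j : ℕ) = k)) = bitsW n := by
      funext j; simp [show ¬ 3 + (j : ℕ) = k by omega]
    rw [e1, e2]
    simp [h]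

/-- The codes multiply as their elements. -/
theorem Frame.theta_mul : ∀ n m : Fin 128, theta z x w (mulQ n m) = theta z x w n * theta z x w m := by
  intro n m
  induction hm : (m : ℕ) using Nat.strong_induction_on generalizing m with
  | _ v ih =>
    subst hm
    rcases Nat.eq_zero_or_pos (m : ℕ) with h | h
    · rw [h, mulQ_zero n, show theta z x w 0 = 1 by simp [theta, word, bitsX, bitsW, bpow], mul_one]
    · obtain ⟨k, m', hlt, e⟩ := mulQ_pred m h.ne'
      rw [← e, mulQ_assoc_gen n m' k]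
      have h1 := fr.theta_mul_gen ⟨mulQ n m', mulQ_lt n m'⟩ k
      rw [fr.theta_mul_gen m' k, ← mul_assoc, ← ih m' hlt m' rfl]
      exact h1

end Frame

end Cfsg.Agent.Fus.HeUniq
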