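import Cfsg.Agent.Lib.Fus.HeUniq.Frame
import Cfsg.Prelude.Def_Transfer

/-!
# Frames exist

An extraspecial group of order `2⁷` with an elementary abelian subgroup of order `2⁴` has a frame.
-/

set_option autoImplicit false
set_option linter.style.haveILetI false
set_option linter.unusedSectionVars false

open scoped commutatorElement

namespace Cfsg.Agent.Fus.HeUniq

variable {Q : Type*} [Group Q] [Finite Q]

theorem card_le_mul_of_ker {A B : Type*} [Group A] [Group B] [Finite B] (f : A →* B) :
    Nat.card A ≤ Nat.card f.ker * Nat.card B := by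
  rw [← Subgroup.card_mul_index f.ker, Subgroup.index_ker]
  exact Nat.mul_le_mul_left _ (Subgroup.card_le_card_group _)

theorem center_two (hQ : Cfsg.IsExtraspecial 2 Q) {z : Q} (hz : z ∈ Subgroup.center Q) (hz1 : z ≠ 1) :
    ∀ u ∈ Subgroup.center Q, u = 1 ∨ u = z := by
  intro u hu
  obtain ⟨a, b, hab, hall⟩ := Nat.card_eq_two_iff.1 (hQ.2 : Nat.card (Subgroup.center Q) = 2)
  have key : ∀ v : Subgroup.center Q, v = a ∨ v = b := fun v => by
    have h : v ∈ ({a, b} : Set (Subgroup.center Q)) := hall ▸ Set.mem_univ v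
    simpa using h
  rcases key ⟨u, hu⟩ with e | e <;> rcases key 1 with e1 | e1 <;> rcases key ⟨z, hz⟩ with e2 | e2 <;>
    first
    | exact Or.inl (congrArg Subtype.val (e.trans e1.symm))
    | exact Or.inr (congrArg Subtype.val (e.trans e2.symm))
    | exact absurd (congrArg Subtype.val (e2.trans e1.symm)) hz1

/-- Commutator bits with a list of elements can be prescribed. -/
theorem comm_surjective (hQ : Cfsg.IsExtraspecial 2 Q) {z : Q} (hz : z ∈ Subgroup.center Q) (hz1 : z ≠ 1)
    {k : ℕ} (w : Fin k → Q)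
    (hind : ∀ c : Fin k → Bool, (∃ i, c i = true) → (List.ofFn fun i => bpow (w i) (c i)).prod ∉ Subgroup.center Q) :
    ∀ d : Fin k → Bool, ∃ g : Q, ∀ i, ⁅g, w i⁆ = bpow z (d i) := by
  classical
  obtain ⟨-, hcomm⟩ := Fus.extraspecial_two_facts hQ
  have hcz := center_two hQ hz hz1
  let bit : Q → ZMod 2 := fun u => if u = 1 then 0 else 1
  have hzz : z * z = 1 := by
    rcases hcz _ (mul_mem hz hz) with e | e
    · exact e
    · exact absurd (mul_eq_left.1 e) hz1
  have hbit : ∀ u v, u ∈ Subgroup.center Q → v ∈ Subgroup.center Q → bit (u * v) = bit u + bit v := by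
    intro u v hu hv
    rcases hcz u hu with rfl | rfl <;> rcases hcz v hv with rfl | rfl <;>
      simp [bit, hz1, hzz, (by decide : (1 : ZMod 2) + 1 = 0)]
  have hlin : ∀ g h y : Q, ⁅g * h, y⁆ = ⁅g, y⁆ * ⁅h, y⁆ := fun g h y => by
    have hc := Subgroup.mem_center_iff.1 (hcomm h y) g
    calc ⁅g * h, y⁆ = g * ⁅h, y⁆ * g⁻¹ * ⁅g, y⁆ := by simp only [commutatorElement_def]; group
      _ = ⁅h, y⁆ * ⁅g, y⁆ := by rw [hc, mul_inv_cancel_right]
      _ = _ := (Subgroup.mem_center_iff.1 (hcomm h y) _).symm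
  let f : Q →* Multiplicative (Fin k → ZMod 2) := MonoidHom.mk'
    (fun g => Multiplicative.ofAdd fun i => bit ⁅g, w i⁆) fun g h => by
      rw [← ofAdd_add]; congr 1; funext i
      rw [hlin, Pi.add_apply, hbit _ _ (hcomm g _) (hcomm h _)]
  let S : Submodule (ZMod 2) (Fin k → ZMod 2) := AddSubgroup.toZModSubmodule 2 (Subgroup.toAddSubgroup' f.range)
  have htop : S = ⊤ := by
    by_contra hS
    obtain ⟨φ, hφ, hle⟩ := Submodule.exists_le_ker_of_lt_top S (lt_top_iff_ne_top.2 hS)
    let c : Fin k → Bool := fun i => decide (φ (Pi.single i 1) = 1)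
    have hφg : ∀ g : Q, ∑ i, (if c i then bit ⁅g, w i⁆ else 0) = 0 := by
      intro g
      have hm : (fun i => bit ⁅g, w i⁆) ∈ S := ⟨g, rfl⟩
      have := hle hm
      rw [LinearMap.mem_ker, LinearMap.pi_apply_eq_sum_univ φ] at this
      refine (Finset.sum_congr rfl fun i _ => ?_).trans this
      have h01 : ∀ a : ZMod 2, a = 0 ∨ a = 1 := by decide
      have e : φ (fun j => if i = j then 1 else 0) = φ (Pi.single i 1) := by
        congr 1; funext j; simp [Pi.single_apply, eq_comm]
      rw [e]
      rcases h01 (φ (Pi.single i 1)) with e | e <;> simp [c, e]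
    have hci : ∃ i, c i = true := by
      by_contra hno
      push Not at hno
      apply hφ
      ext i
      have h01 : ∀ a : ZMod 2, a = 0 ∨ a = 1 := by decide
      rcases h01 (φ (Pi.single i 1)) with e | e
      · simpa using e
      · exact absurd (by simp [c, e]) (hno i)
    refine hind c hci (Subgroup.mem_center_iff.2 fun g => ?_)
    have hkey : ∀ l : List (Fin k), ⁅g, (l.map fun i => bpow (w i) (c i)).prod⁆ ∈ Subgroup.center Q ∧
        bit ⁅g, (l.map fun i => bpow (w i) (c i)).prod⁆ = (l.map fun i => if c i then bit ⁅g, w i⁆ else 0).sum := by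
      intro l
      induction l with
      | nil => simp [bit, commutatorElement_def, one_mem]
      | cons a l ih =>
        refine ⟨hcomm _ _, ?_⟩
        simp only [List.map_cons, List.prod_cons, List.sum_cons]
        have e : ⁅g, bpow (w a) (c a) * (l.map fun i => bpow (w i) (c i)).prod⁆ =
            ⁅g, bpow (w a) (c a)⁆ * ⁅g, (l.map fun i => bpow (w i) (c i)).prod⁆ := by
          have hc := Subgroup.mem_center_iff.1 (hcomm g (l.map fun i => bpow (w i) (c i)).prod) (bpow (w a) (c a))
          calc _ = ⁅g, bpow (w a) (c a)⁆ *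
                (bpow (w a) (c a) * ⁅g, (l.map fun i => bpow (w i) (c i)).prod⁆ * (bpow (w a) (c a))⁻¹) := by
                simp only [commutatorElement_def]; group
            _ = _ := by rw [hc, mul_inv_cancel_right]
        rw [e, hbit _ _ (hcomm _ _) ih.1, ih.2]
        cases c a <;> simp [bpow, bit, commutatorElement_def]
    have h0 := (hkey (List.finRange k)).2
    rw [show ((List.finRange k).map fun i => bpow (w i) (c i)) = List.ofFn fun i => bpow (w i) (c i) from
      (List.ofFn_eq_map).symm, ← List.ofFn_eq_map, List.sum_ofFn, hφg g] at h0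
    have : ⁅g, (List.ofFn fun i => bpow (w i) (c i)).prod⁆ = 1 := by
      by_contra hne
      simp [bit, hne] at h0
    exact commutatorElement_eq_one_iff_mul_comm.1 this
  intro d
  have : (fun i => if d i then (1 : ZMod 2) else 0) ∈ S := htop ▸ Submodule.mem_top
  obtain ⟨g, hg⟩ := this
  refine ⟨g, fun i => ?_⟩
  have h : bit ⁅g, w i⁆ = (if d i then (1 : ZMod 2) else 0) := congrFun hg i
  rcases hcz _ (hcomm g (w i)) with e | e <;>
    cases hd : d i <;> simp [bit, e, hz1, hd] at h <;> simp [bpow, e]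

/-- A subgroup element outside a smaller group. -/
theorem exists_notMem {E : Subgroup Q} (S : Subgroup Q) (h : Nat.card S < Nat.card E) : ∃ g ∈ E, g ∉ S := by
  by_contra hno
  push Not at hno
  exact absurd (Subgroup.card_le_of_le (fun g hg => hno g hg)) (not_le.2 h)

theorem exists_frame (hQ : Cfsg.IsExtraspecial 2 Q) (hcard : Nat.card Q = 2 ^ 7) {E : Subgroup Q}
    (hE : Cfsg.IsElementaryAbelian 2 E) (hE4 : Nat.card E = 2 ^ 4) {z : Q} (hz : z ∈ Subgroup.center Q)
    (hz1 : z ≠ 1) : ∃ x w : Fin 3 → Q, Frame z x w := by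
  classical
  haveI : Fact (Nat.Prime 2) := ⟨Nat.prime_two⟩
  obtain ⟨hsqc, hcomm⟩ := Fus.extraspecial_two_facts hQ
  have hZ := center_two hQ hz hz1
  have hzz : z * z = 1 := by
    rcases hZ _ (mul_mem hz hz) with e | e
    · exact e
    · exact absurd (mul_eq_left.1 e) hz1
  have hzc : ∀ g, z * g = g * z := fun g => (Subgroup.mem_center_iff.1 hz g).symm
  have hEc : ∀ a ∈ E, ∀ b ∈ E, a * b = b * a := fun a ha b hb =>
    congrArg Subtype.val (hE.1.is_comm.comm (⟨a, ha⟩ : E) ⟨b, hb⟩)
  have hEs : ∀ a ∈ E, a * a = 1 := fun a ha => by rw [← pow_two]; exact hE.2 a ha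
  have ext : ∀ S : Subgroup Q, S ≤ E → ∀ g ∈ E, g ∉ S →
      ∃ S' : Subgroup Q, S' ≤ E ∧ S ≤ S' ∧ g ∈ S' ∧ Nat.card S' ≤ 2 * Nat.card S := by
    intro S hS g hg _
    have hn : ∀ s ∈ S, g * s * g⁻¹ = s := fun s hs => by rw [hEc g hg s (hS hs), mul_inv_cancel_right]
    let S' : Subgroup Q :=
      { carrier := {v | v ∈ S ∨ g * v ∈ S}
        one_mem' := Or.inl (one_mem _)
        mul_mem' := by
          rintro a b (ha | ha) (hb | hb)
          · exact Or.inl (mul_mem ha hb)
          · refine Or.inr ?_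
            rw [← mul_assoc, hEc g hg a (hS ha), mul_assoc]; exact mul_mem ha hb
          · refine Or.inr ?_
            rw [← mul_assoc]; exact mul_mem ha hb
          · refine Or.inl ?_
            have hag : a ∈ E := by have := mul_mem (inv_mem hg) (hS ha); simpa using this
            rw [show a * b = (g * a) * (g * b) by
              rw [hEc g hg a hag, mul_assoc, ← mul_assoc g g b, hEs g hg, one_mul]]
            exact mul_mem ha hb
        inv_mem' := by
          rintro a (ha | ha)
          · exact Or.inl (inv_mem ha)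
          · refine Or.inr ?_
            have hag : a ∈ E := by have := mul_mem (inv_mem hg) (hS ha); simpa using this
            have : a⁻¹ = a := inv_eq_of_mul_eq_one_right (hEs a hag)
            rwa [this] }
    refine ⟨S', fun v hv => ?_, fun v hv => Or.inl hv, Or.inr (by rw [hEs g hg]; exact one_mem _), ?_⟩
    · rcases hv with h | h
      · exact hS h
      · have := mul_mem (inv_mem hg) (hS h); simpa using this
    · have hsub : (S' : Set Q) ⊆ (S : Set Q) ∪ (fun v => g⁻¹ * v) '' (S : Set Q) := by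
        rintro v (h | h)
        · exact Or.inl h
        · exact Or.inr ⟨_, h, by simp⟩
      have h1 := Set.ncard_le_ncard hsub
      have h2 := Set.ncard_union_le (S : Set Q) ((fun v => g⁻¹ * v) '' (S : Set Q))
      rw [Set.ncard_image_of_injective _ (mul_right_injective _)] at h2
      rw [← Nat.card_coe_set_eq, ← Nat.card_coe_set_eq] at *
      simp only [SetLike.coe_sort_coe] at h1 h2
      omega
  -- independence from the chain
  have indep : ∀ {k : ℕ} (S : Subgroup Q), z ∈ S → ∀ g, g ∉ S → ∀ s ∈ S, g * s ∉ Subgroup.center Q := by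
    intro k S hzS g hg s hs hc
    refine hg ?_
    have : g * s ∈ S := by rcases hZ _ hc with e | e <;> rw [e] <;> [exact one_mem _; exact hzS]
    simpa using mul_mem this (inv_mem hs)
  have hzE : z ∈ E := by
    by_contra hzE
    -- four independent elements of `E` modulo the centre
    let S0 : Subgroup Q := ⊥
    obtain ⟨a, ha, ha'⟩ := exists_notMem (E := E) (⊥ : Subgroup Q) (by simp [hE4])
    obtain ⟨S1, h1E, -, ha1, c1⟩ := ext ⊥ bot_le a ha ha'
    rw [Subgroup.card_bot] at c1
    obtain ⟨b, hb, hb'⟩ := exists_notMem (E := E) S1 (by omega)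
    obtain ⟨S2, h2E, l2, hb2, c2⟩ := ext S1 h1E b hb hb'
    obtain ⟨c, hc, hc'⟩ := exists_notMem (E := E) S2 (by omega)
    obtain ⟨S3, h3E, l3, hc3, c3⟩ := ext S2 h2E c hc hc'
    obtain ⟨d, hd, hd'⟩ := exists_notMem (E := E) S3 (by omega)
    have hind : ∀ cc : Fin 4 → Bool, (∃ i, cc i = true) →
        (List.ofFn fun i => bpow (![d, c, b, a] i) (cc i)).prod ∉ Subgroup.center Q := by
      intro cc hcc hcen
      have hmE : (List.ofFn fun i => bpow (![d, c, b, a] i) (cc i)).prod ∈ E := by
        refine list_prod_mem fun v hv => ?_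
        obtain ⟨i, rfl⟩ := List.mem_ofFn.1 hv
        cases cc i <;> simp [bpow, one_mem]
        fin_cases i <;> simp [hd, hc, hb, ha]
      have h0 : (List.ofFn fun i => bpow (![d, c, b, a] i) (cc i)).prod = 1 :=
        (hZ _ hcen).resolve_right fun e => hzE (e ▸ hmE)
      have mb : ∀ {S : Subgroup Q} {v : Q} (bb : Bool), v ∈ S → bpow v bb ∈ S := fun {S v} bb hv => by
        cases bb <;> simp [bpow, one_mem, hv]
      simp [List.ofFn_succ] at h0
      obtain ⟨i, hi⟩ := hcc
      cases h1 : cc 0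
      · simp [bpow, h1] at h0
        cases h2 : cc 1
        · simp [bpow, h2] at h0
          cases h3 : cc 2
          · simp [bpow, h3] at h0
            cases h4 : cc 3
            · fin_cases i <;> simp_all
            · simp [h4] at h0; exact ha' (by simp [h0])
          · simp [bpow, h3] at h0
            exact hb' (by rw [eq_inv_of_mul_eq_one_left h0]; exact inv_mem (mb _ ha1))
        · simp [bpow, h2] at h0
          exact hc' (by rw [eq_inv_of_mul_eq_one_left h0]; exact inv_mem (mul_mem (mb _ hb2) (mb _ (l2 ha1))))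
      · simp [bpow, h1] at h0
        exact hd' (by
          rw [eq_inv_of_mul_eq_one_left h0]
          exact inv_mem (mul_mem (mb _ hc3) (mul_mem (mb _ (l3 hb2)) (mb _ (l3 (l2 ha1))))))
    have hs := comm_surjective hQ hz hz1 ![d, c, b, a] hind
    let bit : Q → Bool := fun u => decide (u ≠ 1)
    have hker : ∀ g ∈ E, ∀ i, ⁅g, ![d, c, b, a] i⁆ = 1 := fun g hg i =>
      commutatorElement_eq_one_iff_mul_comm.2 (hEc g hg _ (by fin_cases i <;> assumption))
    let F : Q → (Fin 4 → Bool) := fun g i => bit ⁅g, ![d, c, b, a] i⁆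
    have hfib : ∀ dd : Fin 4 → Bool, ∀ g : Q, F g = dd → ∀ e ∈ E, ∀ ee : Bool, F (g * (e * bpow z ee)) = dd := by
      intro dd g hg e he ee
      rw [← hg]
      funext i
      show bit _ = bit _
      have hcomm1 : (e * bpow z ee) * ![d, c, b, a] i = ![d, c, b, a] i * (e * bpow z ee) := by
        rw [mul_assoc, show bpow z ee * ![d, c, b, a] i = ![d, c, b, a] i * bpow z ee by
          cases ee <;> simp [bpow, hzc], ← mul_assoc, commutatorElement_eq_one_iff_mul_comm.1 (hker e he i),
          mul_assoc]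
      have : ⁅g * (e * bpow z ee), ![d, c, b, a] i⁆ = ⁅g, ![d, c, b, a] i⁆ := by
        have h2 : (e * bpow z ee) * ![d, c, b, a] i * (e * bpow z ee)⁻¹ = ![d, c, b, a] i := by
          rw [hcomm1, mul_inv_cancel_right]
        calc ⁅g * (e * bpow z ee), ![d, c, b, a] i⁆
            = g * ((e * bpow z ee) * ![d, c, b, a] i * (e * bpow z ee)⁻¹) * g⁻¹ * (![d, c, b, a] i)⁻¹ := by
              simp only [commutatorElement_def]; group
          _ = _ := by rw [h2, commutatorElement_def]
      rw [this]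
    choose gd hgd using hs
    have hFd : ∀ dd, F (gd dd) = dd := fun dd => funext fun i => by
      show bit _ = _
      rw [hgd dd i]; cases dd i <;> simp [bit, bpow, hz1]
    let Φ : (Fin 4 → Bool) × E × Bool → Q := fun p => gd p.1 * ((p.2.1 : Q) * bpow z p.2.2)
    have hinj : Function.Injective Φ := by
      rintro ⟨d1, e1, b1⟩ ⟨d2, e2, b2⟩ h
      obtain rfl : d1 = d2 := by
        rw [← hfib d1 _ (hFd d1) e1 e1.2 b1, ← hfib d2 _ (hFd d2) e2 e2.2 b2]
        exact congrArg F h
      have h' : (e1 : Q) * bpow z b1 = e2 * bpow z b2 := mul_left_cancel h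
      have hb : b1 = b2 := by
        cases b1 <;> cases b2 <;> simp [bpow] at h' ⊢
        · exact hzE (by
            have : z = (e2 : Q)⁻¹ * e1 := by rw [h']; group
            rw [this]; exact mul_mem (inv_mem e2.2) e1.2)
        · exact hzE (by
            have : z = (e1 : Q)⁻¹ * e2 := by rw [← h']; group
            rw [this]; exact mul_mem (inv_mem e1.2) e2.2)
      subst hb
      simp [Subtype.ext (mul_right_cancel h')]
    have := Nat.card_le_card_of_injective Φ hinj
    simp [Nat.card_prod, hE4, hcard] at this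
  -- a basis of `E` containing the central involution
  obtain ⟨S0, h0E, -, hz0, c0⟩ : ∃ S' : Subgroup Q, S' ≤ E ∧ ⊥ ≤ S' ∧ z ∈ S' ∧ Nat.card S' ≤ 2 * Nat.card (⊥ : Subgroup Q) :=
    ext ⊥ bot_le z hzE (by simpa using hz1)
  rw [Subgroup.card_bot] at c0
  obtain ⟨a, ha, ha'⟩ := exists_notMem (E := E) S0 (by omega)
  obtain ⟨S1, h1E, l1, ha1, c1⟩ := ext S0 h0E a ha ha'
  obtain ⟨b, hb, hb'⟩ := exists_notMem (E := E) S1 (by omega)
  obtain ⟨S2, h2E, l2, hb2, c2⟩ := ext S1 h1E b hb hb'
  obtain ⟨c, hc, hc'⟩ := exists_notMem (E := E) S2 (by omega)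
  have mb : ∀ {S : Subgroup Q} {v : Q} (bb : Bool), v ∈ S → bpow v bb ∈ S := fun {S v} bb hv => by
    cases bb <;> simp [bpow, one_mem, hv]
  have hind : ∀ cc : Fin 3 → Bool, (∃ i, cc i = true) →
      (List.ofFn fun i => bpow (![c, b, a] i) (cc i)).prod ∉ Subgroup.center Q := by
    intro cc hcc
    obtain ⟨i, hi⟩ := hcc
    simp [List.ofFn_succ]
    cases h1 : cc 0
    · cases h2 : cc 1
      · cases h3 : cc 2
        · fin_cases i <;> simp_all
        · simp [bpow]
          exact fun h => indep (k := 0) S0 hz0 a ha' 1 (one_mem _) (by simpa using h)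
      · simp [bpow]
        exact indep (k := 0) S1 (l1 hz0) b hb' _ (mb _ ha1)
    · simp [bpow]
      exact indep (k := 0) S2 (l2 (l1 hz0)) c hc' _ (mul_mem (mb _ hb2) (mb _ (l2 ha1)))
  have hs := comm_surjective hQ hz hz1 ![c, b, a] hind
  set w : Fin 3 → Q := ![c, b, a]
  have hwE : ∀ i, w i ∈ E := fun i => by fin_cases i <;> assumption
  have hwc : ∀ g h y : Q, ⁅g * h, y⁆ = ⁅g, y⁆ * ⁅h, y⁆ := fun g h y => by
    have hc := Subgroup.mem_center_iff.1 (hcomm h y) g
    calc ⁅g * h, y⁆ = g * ⁅h, y⁆ * g⁻¹ * ⁅g, y⁆ := by simp only [commutatorElement_def]; group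
      _ = ⁅h, y⁆ * ⁅g, y⁆ := by rw [hc, mul_inv_cancel_right]
      _ = _ := (Subgroup.mem_center_iff.1 (hcomm h y) _).symm
  have inv2 : ∀ u ∈ Subgroup.center Q, u⁻¹ = u := fun u hu =>
    inv_eq_of_mul_eq_one_right (by rcases hZ u hu with e | e <;> rw [e] <;> [rw [one_mul]; exact hzz])
  have swap : ∀ p q : Q, ⁅p, q⁆ = ⁅q, p⁆ := fun p q => by
    rw [← inv2 _ (hcomm q p), commutatorElement_inv]
  -- duals
  have dual : ∀ i : Fin 3, ∃ g : Q, ∀ j, ⁅g, w j⁆ = bpow z (decide (j = i)) := fun i => hs _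
  choose g hg using dual
  let bit : Q → Bool := fun u => decide (u ≠ 1)
  have hbit : ∀ u ∈ Subgroup.center Q, bpow z (bit u) = u := fun u hu => by
    rcases hZ u hu with e | e <;> simp [bit, bpow, e, hz1]
  have hgw : ∀ j i, ⁅w j, g i⁆ = bpow z (decide (j = i)) := fun j i => by rw [swap, hg]
  -- commuting
  let y1 := g 1 * bpow (w 0) (bit ⁅g 0, g 1⁆)
  let y2 := g 2 * bpow (w 0) (bit ⁅g 0, g 2⁆) * bpow (w 1) (bit ⁅g 1, g 2⁆)
  have hcm : ∀ i j (bb : Bool), ⁅bpow (w i) bb, g j⁆ = bpow z (bb && decide (i = j)) := fun i j bb => by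
    cases bb <;> simp [bpow, hgw] <;> simp [commutatorElement_def]
  have dbl : ∀ u ∈ Subgroup.center Q, u * u = 1 := fun u hu => by
    rcases hZ u hu with e | e <;> rw [e] <;> [rw [one_mul]; exact hzz]
  have hww : ∀ i j (bb bb' : Bool), ⁅bpow (w i) bb, bpow (w j) bb'⁆ = 1 := fun i j bb bb' =>
    commutatorElement_eq_one_iff_mul_comm.2 (hEc _ (mb _ (hwE i)) _ (mb _ (hwE j)))
  have k01 : ⁅y1, g 0⁆ = 1 := by
    rw [hwc, hcm, swap (g 1), decide_eq_true rfl, Bool.and_true, hbit _ (hcomm _ _)]
    exact dbl _ (hcomm _ _)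
  have k02 : ⁅y2, g 0⁆ = 1 := by
    rw [hwc, hwc, hcm, hcm, swap (g 2), decide_eq_true rfl, decide_eq_false (show (1 : Fin 3) ≠ 0 by decide),
      Bool.and_true, Bool.and_false, hbit _ (hcomm _ _), show bpow z false = 1 from rfl, mul_one]
    exact dbl _ (hcomm _ _)
  have k12 : ⁅y2, y1⁆ = 1 := by
    have hy : ∀ (i : Fin 3) (bb : Bool), ⁅bpow (w i) bb, y1⁆ = bpow z (bb && decide (i = 1)) := fun i bb => by
      rw [swap, hwc, swap (g 1), hcm, hww, mul_one]
    rw [hwc, hwc, hy, hy, swap (g 2), hwc, hcm, decide_eq_false (show (0 : Fin 3) ≠ 1 by decide),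
      decide_eq_false (show (0 : Fin 3) ≠ 2 by decide), decide_eq_true rfl, Bool.and_true, Bool.and_false,
      Bool.and_false, hbit _ (hcomm _ _), show bpow z false = 1 from rfl, mul_one, mul_one]
    exact dbl _ (hcomm _ _)
  let y : Fin 3 → Q := ![g 0, y1, y2]
  have hyy : ∀ i j, ⁅y i, y j⁆ = 1 := by
    intro i j
    fin_cases i <;> fin_cases j <;>
      first
      | exact commutatorElement_self _
      | exact k01
      | exact k02
      | exact k12
      | (rw [swap]; exact k01)
      | (rw [swap]; exact k02)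
      | (rw [swap]; exact k12)
  have hyw : ∀ i j, ⁅y i, w j⁆ = bpow z (decide (j = i)) := by
    intro i j
    have h0 : ∀ (k : Fin 3) (bb : Bool), ⁅bpow (w k) bb, w j⁆ = 1 := fun k bb => hww k j bb true
    fin_cases i
    · exact hg 0 j
    · show ⁅y1, w j⁆ = _
      rw [hwc, h0, mul_one]; exact hg 1 j
    · show ⁅y2, w j⁆ = _
      rw [hwc, hwc, h0, h0, mul_one, mul_one]; exact hg 2 j
  let x : Fin 3 → Q := fun i => y i * bpow (w i) (bit (y i * y i))
  have hcc : ∀ p q : Q, p * q = q * p * ⁅p, q⁆ := fun p q => by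
    rw [Subgroup.mem_center_iff.1 (hcomm p q) (q * p)]
    simp only [commutatorElement_def]; group
  have hxy : ∀ i j, ⁅x i, w j⁆ = bpow z (decide (j = i)) := fun i j => by
    rw [hwc, hyw, show ⁅bpow (w i) (bit (y i * y i)), w j⁆ = 1 from hww i j _ true, mul_one]
  refine ⟨x, w, hzz, hz1, hzc, fun i => ?_, fun i => hEs _ (hwE i), fun i j => ?_,
    fun i j => hEc _ (hwE i) _ (hwE j), fun i j => ?_⟩
  · show y i * bpow (w i) _ * (y i * bpow (w i) _) = 1
    cases hb' : bit (y i * y i)
    · have : y i * y i = 1 := by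
        by_contra hne; simp [bit, hne] at hb'
      simpa [bpow] using this
    · have hs : y i * y i = z := by
        rcases hZ (y i * y i) (by rw [← pow_two]; exact hsqc (y i)) with e | e
        · simp [bit, e] at hb'
        · exact e
      simp only [bpow, cond_true]
      calc y i * w i * (y i * w i) = y i * (w i * y i) * w i := by group
        _ = y i * (y i * w i * ⁅w i, y i⁆) * w i := by rw [hcc (w i) (y i)]
        _ = y i * y i * (w i * ⁅w i, y i⁆ * w i) := by group
        _ = _ := by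
          rw [swap, hyw, decide_eq_true rfl, show bpow z true = z from rfl, hs, ← hzc (w i), mul_assoc z,
            hEs _ (hwE i), mul_one, hzz]
  · have h : ⁅x i, x j⁆ = 1 := by
      rcases eq_or_ne i j with rfl | hij
      · exact commutatorElement_self _
      rw [hwc, swap (y i), hwc, swap (bpow (w i) _) (x j), hwc, swap (bpow (w j) _) (y i), hyy j i, hww, mul_one]
      have e1 : ∀ (k l : Fin 3) (bb : Bool), k ≠ l → ⁅y k, bpow (w l) bb⁆ = 1 := fun k l bb hkl => by
        cases bb <;> simp [bpow, hyw, Ne.symm hkl] <;> simp [commutatorElement_def]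
      rw [e1 j i _ hij.symm, e1 i j _ hij, mul_one, mul_one]
    exact commutatorElement_eq_one_iff_mul_comm.1 h
  · rw [hcc (w i) (x j), swap, hxy]
    rfl

end Cfsg.Agent.Fus.HeUniq
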