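import Cfsg.Agent.Lib.Fus.HeUniq.Excl
import Cfsg.Agent.Lib.Fus.HeUniq.DataSN
import Cfsg.Agent.Lib.Fus.HeUniq.DataST
import Cfsg.Agent.Lib.Fus.HeUniq.DataUN
import Cfsg.Agent.Lib.Fus.HeUniq.DataUT

/-!
# The possible fusions of the central involution
-/

set_option autoImplicit false
set_option linter.style.haveILetI false
set_option linter.unusedSectionVars false
set_option maxRecDepth 100000

namespace Cfsg.Agent.Fus.HeUniq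

/-- The classes of commuting involutions and of their products with a representative. -/
def patU : List (List (ℕ × ℕ)) := [[(0, 99), (1, 4), (0, 4), (1, 4), (2, 5), (2, 6), (0, 5), (1, 6), (3, 6), (1, 6), (2, 5), (2, 6), (3, 7), (1, 4), (3, 4), (1, 4), (2, 5), (2, 6), (3, 5), (1, 6), (0, 6), (1, 6), (2, 5), (2, 6), (0, 0), (1, 0), (1, 1), (0, 1), (0, 0), (1, 3), (1, 1), (3, 1), (3, 3), (1, 3), (1, 1), (3, 1), (3, 3), (1, 0), (1, 1), (0, 1), (0, 0), (0, 0), (2, 0), (2, 3), (2, 2), (2, 2), (0, 2), (3, 2), (3, 3), (3, 3), (2, 3), (2, 0), (2, 2), (2, 2), (3, 2), (0, 2), (4, 1), (4, 0), (4, 1), (5, 2), (6, 2), (5, 0), (6, 1), (6, 3), (6, 1), (5, 2), (6, 2), (7, 3), (4, 1), (4, 3), (4, 1), (5, 2), (6, 2), (5, 3), (6, 1), (6, 0), (6, 1), (5, 2), (6, 2), (0, 0), (0, 1), (1, 1), (1, 0), (0, 0), (3, 1), (1, 1), (1, 3), (3, 3), (3, 1), (1, 1), (1, 3),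 (3, 3), (0, 1), (1, 1), (1, 0), (0, 0), (0, 0), (0, 2), (3, 2), (2, 2), (2, 2), (2, 0), (2, 3), (3, 3), (3, 3), (3, 2), (0, 2), (2, 2), (2, 2), (2, 3), (2, 0)], [(0, 4), (1, 99), (0, 4), (1, 4), (0, 6), (1, 5), (3, 6), (1, 6), (3, 4), (1, 7), (3, 4), (1, 4), (3, 6), (1, 5), (0, 6), (1, 6), (0, 0), (1, 0), (1, 1), (0, 1), (0, 3), (1, 0), (1, 1), (3, 1), (3, 3), (1, 3), (1, 1), (3, 1), (3, 0), (1, 3), (1, 1), (0, 1), (1, 1), (1, 1), (1, 1), (1, 1), (4, 0), (4, 1), (4, 0), (5, 1), (6, 0), (6, 1), (6, 3), (7, 1), (4, 3), (4, 1), (4, 3), (5, 1), (6, 3), (6, 1), (6, 0), (0, 1), (0, 0), (1, 0), (1, 1), (0, 1), (3, 0), (1, 3), (1, 1), (3, 1), (3, 3), (1, 3), (1, 1), (3, 1), (0, 3), (1, 0), (1, 1), (1, 1), (1, 1), (1, 1), (1, 1)], [(0, 5), (0, 6), (2, 99), (2, 4), (0, 5), (3, 6), (2, 5), (2, 6), (3, 5), (3, 6), (2, 7), (2, 4), (3, 5), (0, 6), (2, 5),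 (2, 6), (2, 2), (2, 2), (2, 2), (2, 2), (0, 0), (0, 3), (2, 0), (2, 0), (2, 2), (2, 2), (0, 2), (3, 2), (3, 3), (3, 0), (2, 3), (2, 3), (2, 2), (2, 2), (3, 2), (0, 2), (4, 2), (5, 0), (6, 0), (5, 2), (6, 2), (5, 0), (6, 3), (7, 2), (4, 2), (5, 3), (6, 3), (5, 2), (6, 2), (5, 3), (6, 0), (2, 2), (2, 2), (2, 2), (2, 2), (0, 2), (0, 2), (0, 0), (3, 0), (2, 0), (2, 3), (2, 2), (2, 2), (3, 2), (3, 2), (3, 3), (0, 3), (2, 3), (2, 0), (2, 2), (2, 2)], [(0, 6), (1, 6), (0, 5), (1, 6), (2, 6), (2, 5), (0, 4), (1, 4), (3, 99), (1, 4), (2, 6), (2, 5), (3, 6), (1, 6), (3, 5), (1, 6), (2, 6), (2, 5), (3, 4), (1, 4), (0, 7), (1, 4), (2, 6), (2, 5), (0, 1), (1, 1), (1, 0), (0, 3), (0, 1), (1, 1), (1, 0), (3, 0), (3, 1), (1, 1), (1, 3), (3, 0), (3, 1), (1, 1), (1, 3), (0, 3), (0, 2), (0, 2), (2, 2), (2, 2), (2, 0), (2, 0), (0, 3), (3, 0), (3, 2), (3, 2), (2,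 2), (2, 2), (2, 3), (2, 3), (3, 0), (0, 3), (4, 1), (4, 0), (4, 1), (5, 2), (6, 2), (5, 0), (6, 1), (6, 0), (6, 1), (5, 2), (6, 2), (7, 0), (4, 1), (4, 3), (4, 1), (5, 2), (6, 2), (5, 3), (6, 1), (6, 3), (6, 1), (5, 2), (6, 2), (0, 1), (0, 3), (1, 0), (1, 1), (0, 1), (3, 0), (1, 0), (1, 1), (3, 1), (3, 0), (1, 3), (1, 1), (3, 1), (0, 3), (1, 3), (1, 1), (0, 2), (0, 2), (0, 3), (3, 0), (2, 0), (2, 0), (2, 2), (2, 2), (3, 2), (3, 2), (3, 0), (0, 3), (2, 3), (2, 3), (2, 2), (2, 2)], [(0, 1), (1, 0), (0, 1), (1, 0), (0, 1), (1, 0), (3, 1), (1, 3), (3, 1), (1, 3), (3, 1), (1, 3), (3, 1), (1, 3), (0, 1), (1, 0), (0, 1), (1, 0), (1, 0), (0, 1), (0, 1), (1, 0), (1, 3), (3, 1), (3, 1), (1, 3), (1, 3), (3, 1), (3, 1), (1, 3), (1, 0), (0, 1), (4, 99), (4, 4), (4, 4), (4, 4), (4, 4), (4, 4), (4, 4), (5, 6), (6, 5), (6, 6), (6, 6), (5, 6), (6, 5), (6, 6),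 (6, 6), (5, 6), (6, 5), (6, 6), (6, 6), (7, 4), (4, 7), (4, 4), (4, 4), (4, 4), (4, 4), (4, 4), (4, 4), (5, 6), (6, 5), (6, 6), (6, 6), (5, 6), (6, 5), (6, 6), (6, 6), (5, 6), (6, 5), (6, 6), (6, 6), (0, 0), (0, 0), (1, 1), (1, 1), (0, 3), (3, 0), (1, 1), (1, 1), (2, 2), (2, 2), (2, 2), (2, 2), (3, 3), (3, 3), (1, 1), (1, 1), (3, 0), (0, 3), (1, 1), (1, 1), (2, 2), (2, 2), (2, 2), (2, 2), (0, 0), (0, 0), (1, 1), (1, 1), (2, 2), (2, 2), (0, 3), (3, 0), (1, 1), (1, 1), (2, 2), (2, 2), (3, 3), (3, 3), (1, 1), (1, 1), (2, 2), (2, 2), (3, 0), (0, 3), (1, 1), (1, 1), (2, 2), (2, 2), (0, 0), (0, 0), (1, 1), (1, 1), (2, 2), (2, 2), (2, 2), (2, 2), (0, 3), (3, 0), (1, 1), (1, 1), (3, 3), (3, 3), (1, 1), (1, 1), (2, 2), (2, 2), (2, 2), (2, 2), (3, 0), (0, 3), (1, 1), (1, 1), (0, 1), (1, 0), (0, 1), (1, 0), (0, 1), (1, 0), (3, 1), (1, 3), (3, 1), (1,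 3), (3, 1), (1, 3), (3, 1), (1, 3), (0, 1), (1, 0), (0, 1), (1, 0), (1, 0), (0, 1), (0, 1), (1, 0), (1, 3), (3, 1), (3, 1), (1, 3), (1, 3), (3, 1), (3, 1), (1, 3), (1, 0), (0, 1), (0, 1), (1, 0), (0, 1), (1, 0), (0, 1), (1, 0), (3, 1), (1, 3), (3, 1), (1, 3), (3, 1), (1, 3), (3, 1), (1, 3), (0, 1), (1, 0), (0, 1), (1, 0), (1, 0), (0, 1), (0, 1), (1, 0), (1, 3), (3, 1), (3, 1), (1, 3), (1, 3), (3, 1), (3, 1), (1, 3), (1, 0), (0, 1)], [(0, 2), (0, 2), (2, 0), (2, 0), (0, 2), (3, 2), (2, 0), (2, 3), (3, 2), (3, 2), (2, 3), (2, 3), (3, 2), (0, 2), (2, 3), (2, 0), (0, 2), (0, 2), (2, 0), (2, 0), (2, 0), (2, 3), (0, 2), (3, 2), (3, 2), (3, 2), (2, 3), (2, 3), (2, 3), (2, 0), (3, 2), (0, 2), (4, 6), (4, 6), (4, 6), (5, 99), (6, 4), (6, 4), (6, 4), (5, 5), (6, 6), (5, 5), (6, 6), (5, 5), (6, 6), (5, 5), (6, 6), (5, 5), (6, 6), (5, 5), (6, 6), (7, 5),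 (4, 6), (4, 6), (4, 6), (5, 7), (6, 4), (6, 4), (6, 4), (5, 5), (6, 6), (5, 5), (6, 6), (5, 5), (6, 6), (5, 5), (6, 6), (5, 5), (6, 6), (5, 5), (6, 6), (0, 0), (0, 3), (1, 1), (1, 1), (0, 0), (3, 0), (1, 1), (1, 1), (2, 2), (2, 2), (2, 2), (2, 2), (3, 3), (3, 0), (1, 1), (1, 1), (3, 3), (0, 3), (1, 1), (1, 1), (2, 2), (2, 2), (2, 2), (2, 2), (0, 2), (0, 2), (2, 0), (2, 0), (0, 2), (3, 2), (2, 0), (2, 3), (3, 2), (3, 2), (2, 3), (2, 3), (3, 2), (0, 2), (2, 3), (2, 0), (0, 2), (0, 2), (2, 0), (2, 0), (2, 0), (2, 3), (0, 2), (3, 2), (3, 2), (3, 2), (2, 3), (2, 3), (2, 3), (2, 0), (3, 2), (0, 2), (0, 0), (1, 1), (0, 3), (1, 1), (0, 0), (1, 1), (3, 0), (1, 1), (2, 2), (2, 2), (2, 2), (2, 2), (3, 3), (1, 1), (3, 0), (1, 1), (3, 3), (1, 1), (0, 3), (1, 1), (2, 2), (2, 2), (2, 2), (2, 2), (0, 0), (1, 1), (1, 1), (0, 3), (0, 0), (1, 1), (1, 1), (3,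 0), (2, 2), (2, 2), (2, 2), (2, 2), (3, 3), (1, 1), (1, 1), (3, 0), (3, 3), (1, 1), (1, 1), (0, 3), (2, 2), (2, 2), (2, 2), (2, 2), (0, 2), (0, 2), (2, 0), (2, 0), (0, 2), (3, 2), (2, 0), (2, 3), (3, 2), (3, 2), (2, 3), (2, 3), (3, 2), (0, 2), (2, 3), (2, 0), (0, 2), (0, 2), (2, 0), (2, 0), (2, 0), (2, 3), (0, 2), (3, 2), (3, 2), (3, 2), (2, 3), (2, 3), (2, 3), (2, 0), (3, 2), (0, 2)], [(4, 5), (4, 6), (4, 6), (5, 4), (6, 99), (6, 4), (6, 4), (6, 6), (6, 6), (6, 6), (6, 6), (5, 6), (6, 5), (5, 6), (6, 5), (6, 6), (6, 6), (6, 6), (6, 6), (7, 6), (4, 5), (4, 6), (4, 6), (5, 4), (6, 7), (6, 4), (6, 4), (6, 6), (6, 6), (6, 6), (6, 6), (5, 6), (6, 5), (5, 6), (6, 5), (6, 6), (6, 6), (6, 6), (6, 6), (0, 3), (0, 0), (1, 1), (1, 1), (0, 0), (3, 0), (1, 1), (1, 1), (2, 2), (2, 2), (2, 2), (2, 2), (3, 0), (3, 3), (1, 1), (1, 1), (3, 3), (0, 3), (1, 1),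 (1, 1), (2, 2), (2, 2), (2, 2), (2, 2), (0, 2), (0, 2), (2, 0), (2, 0), (0, 2), (3, 2), (2, 3), (2, 0), (3, 2), (3, 2), (2, 3), (2, 3), (3, 2), (0, 2), (2, 0), (2, 3), (0, 2), (0, 2), (2, 0), (2, 0), (2, 3), (2, 0), (0, 2), (3, 2), (3, 2), (3, 2), (2, 3), (2, 3), (2, 0), (2, 3), (3, 2), (0, 2), (0, 1), (1, 0), (0, 1), (1, 3), (0, 1), (1, 0), (3, 1), (1, 0), (3, 1), (1, 3), (3, 1), (1, 0), (3, 1), (1, 3), (0, 1), (1, 3), (0, 1), (1, 0), (1, 3), (0, 1), (0, 1), (1, 0), (1, 0), (3, 1), (3, 1), (1, 3), (1, 0), (3, 1), (3, 1), (1, 3), (1, 3), (0, 1)], [(0, 3), (1, 1), (0, 3), (1, 1), (2, 2), (2, 2), (0, 3), (1, 1), (3, 0), (1, 1), (2, 2), (2, 2), (3, 0), (1, 1), (3, 0), (1, 1), (2, 2), (2, 2), (3, 0), (1, 1), (0, 3), (1, 1), (2, 2), (2, 2), (0, 3), (1, 1), (1, 1), (0, 3), (2, 2), (2, 2), (0, 3), (1, 1), (1, 1), (3, 0), (2, 2), (2, 2), (3, 0), (1,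 1), (1, 1), (3, 0), (2, 2), (2, 2), (3, 0), (1, 1), (1, 1), (0, 3), (2, 2), (2, 2), (0, 3), (1, 1), (0, 3), (1, 1), (2, 2), (2, 2), (0, 3), (1, 1), (3, 0), (1, 1), (2, 2), (2, 2), (3, 0), (1, 1), (3, 0), (1, 1), (2, 2), (2, 2), (3, 0), (1, 1), (0, 3), (1, 1), (2, 2), (2, 2), (0, 3), (1, 1), (1, 1), (0, 3), (2, 2), (2, 2), (2, 2), (2, 2), (0, 3), (1, 1), (1, 1), (3, 0), (3, 0), (1, 1), (1, 1), (3, 0), (2, 2), (2, 2), (2, 2), (2, 2), (3, 0), (1, 1), (1, 1), (0, 3), (0, 3), (1, 1), (0, 3), (1, 1), (2, 2), (2, 2), (2, 2), (2, 2), (0, 3), (1, 1), (3, 0), (1, 1), (3, 0), (1, 1), (3, 0), (1, 1), (2, 2), (2, 2), (2, 2), (2, 2), (3, 0), (1, 1), (0, 3), (1, 1), (0, 3), (1, 1), (1, 1), (0, 3), (2, 2), (2, 2), (2, 2), (2, 2), (0, 3), (1, 1), (1, 1), (3, 0), (3, 0), (1, 1), (1, 1), (3, 0), (2, 2), (2, 2), (2, 2), (2, 2), (3, 0), (1, 1), (1, 1), (0, 3),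 (0, 3), (0, 3), (1, 1), (1, 1), (0, 3), (3, 0), (1, 1), (1, 1), (2, 2), (2, 2), (2, 2), (2, 2), (3, 0), (3, 0), (1, 1), (1, 1), (3, 0), (0, 3), (1, 1), (1, 1), (2, 2), (2, 2), (2, 2), (2, 2), (4, 4), (4, 4), (4, 4), (4, 4), (4, 4), (4, 4), (4, 4), (5, 5), (6, 6), (6, 6), (6, 6), (5, 5), (6, 6), (6, 6), (6, 6), (5, 5), (6, 6), (6, 6), (6, 6), (5, 5), (6, 6), (6, 6), (6, 6), (5, 5), (6, 6), (6, 6), (6, 6), (5, 5), (6, 6), (6, 6), (6, 6), (5, 5), (6, 6), (6, 6), (6, 6), (7, 99), (4, 4), (4, 4), (4, 4), (4, 4), (4, 4), (4, 4), (4, 4), (5, 5), (6, 6), (6, 6), (6, 6), (5, 5), (6, 6), (6, 6), (6, 6), (5, 5), (6, 6), (6, 6), (6, 6), (5, 5), (6, 6), (6, 6), (6, 6), (5, 5), (6, 6), (6, 6), (6, 6), (5, 5), (6, 6), (6, 6), (6, 6), (5, 5), (6, 6), (6, 6), (6, 6), (0, 3), (0, 3), (1, 1), (1, 1), (0, 3), (3, 0), (1, 1), (1, 1), (2, 2), (2, 2), (2, 2), (2,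 2), (3, 0), (3, 0), (1, 1), (1, 1), (3, 0), (0, 3), (1, 1), (1, 1), (2, 2), (2, 2), (2, 2), (2, 2), (0, 3), (0, 3), (1, 1), (1, 1), (2, 2), (2, 2), (0, 3), (3, 0), (1, 1), (1, 1), (2, 2), (2, 2), (3, 0), (3, 0), (1, 1), (1, 1), (2, 2), (2, 2), (3, 0), (0, 3), (1, 1), (1, 1), (2, 2), (2, 2), (0, 3), (0, 3), (1, 1), (1, 1), (2, 2), (2, 2), (2, 2), (2, 2), (0, 3), (3, 0), (1, 1), (1, 1), (3, 0), (3, 0), (1, 1), (1, 1), (2, 2), (2, 2), (2, 2), (2, 2), (3, 0), (0, 3), (1, 1), (1, 1), (0, 3), (0, 3), (1, 1), (1, 1), (0, 3), (3, 0), (1, 1), (1, 1), (2, 2), (2, 2), (2, 2), (2, 2), (3, 0), (3, 0), (1, 1), (1, 1), (3, 0), (0, 3), (1, 1), (1, 1), (2, 2), (2, 2), (2, 2), (2, 2), (0, 3), (0, 3), (1, 1), (1, 1), (2, 2), (2, 2), (2, 2), (2, 2), (0, 3), (3, 0), (1, 1), (1, 1), (3, 0), (3, 0), (1, 1), (1, 1), (2, 2), (2, 2), (2, 2), (2, 2), (3, 0), (0, 3),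 (1, 1), (1, 1), (0, 3), (1, 1), (0, 3), (1, 1), (2, 2), (2, 2), (0, 3), (1, 1), (3, 0), (1, 1), (2, 2), (2, 2), (3, 0), (1, 1), (3, 0), (1, 1), (2, 2), (2, 2), (3, 0), (1, 1), (0, 3), (1, 1), (2, 2), (2, 2), (0, 3), (1, 1), (1, 1), (0, 3), (2, 2), (2, 2), (0, 3), (1, 1), (1, 1), (3, 0), (2, 2), (2, 2), (3, 0), (1, 1), (1, 1), (3, 0), (2, 2), (2, 2), (3, 0), (1, 1), (1, 1), (0, 3), (2, 2), (2, 2), (0, 3), (0, 3), (1, 1), (1, 1), (2, 2), (2, 2), (2, 2), (2, 2), (0, 3), (3, 0), (1, 1), (1, 1), (3, 0), (3, 0), (1, 1), (1, 1), (2, 2), (2, 2), (2, 2), (2, 2), (3, 0), (0, 3), (1, 1), (1, 1), (0, 3), (1, 1), (0, 3), (1, 1), (0, 3), (1, 1), (3, 0), (1, 1), (2, 2), (2, 2), (2, 2), (2, 2), (3, 0), (1, 1), (3, 0), (1, 1), (3, 0), (1, 1), (0, 3), (1, 1), (2, 2), (2, 2), (2, 2), (2, 2), (0, 3), (1, 1), (1, 1), (0, 3), (0, 3), (1, 1), (1, 1), (3, 0), (2,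 2), (2, 2), (2, 2), (2, 2), (3, 0), (1, 1), (1, 1), (3, 0), (3, 0), (1, 1), (1, 1), (0, 3), (2, 2), (2, 2), (2, 2), (2, 2), (0, 3), (1, 1), (0, 3), (1, 1), (2, 2), (2, 2), (0, 3), (1, 1), (3, 0), (1, 1), (2, 2), (2, 2), (3, 0), (1, 1), (3, 0), (1, 1), (2, 2), (2, 2), (3, 0), (1, 1), (0, 3), (1, 1), (2, 2), (2, 2), (0, 3), (1, 1), (1, 1), (0, 3), (0, 3), (1, 1), (1, 1), (3, 0), (2, 2), (2, 2), (2, 2), (2, 2), (3, 0), (1, 1), (1, 1), (3, 0), (3, 0), (1, 1), (1, 1), (0, 3), (2, 2), (2, 2), (2, 2), (2, 2), (0, 3), (1, 1), (1, 1), (0, 3), (0, 3), (1, 1), (1, 1), (3, 0), (2, 2), (2, 2), (2, 2), (2, 2), (3, 0), (1, 1), (1, 1), (3, 0), (3, 0), (1, 1), (1, 1), (0, 3), (2, 2), (2, 2), (2, 2), (2, 2), (0, 3), (1, 1), (0, 3), (1, 1), (2, 2), (2, 2), (2, 2), (2, 2), (0, 3), (1, 1), (3, 0), (1, 1), (3, 0), (1, 1), (3, 0), (1, 1), (2, 2), (2, 2), (2, 2),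 (2, 2), (3, 0), (1, 1), (0, 3), (1, 1)]]

/-- The classes of commuting involutions and of their products with the central involution. -/
def patZ : List (List (ℕ × ℕ)) := [[(0, 3), (1, 1), (0, 3), (1, 1), (2, 2), (2, 2), (0, 3), (1, 1), (3, 0), (1, 1), (2, 2), (2, 2), (3, 0), (1, 1), (3, 0), (1, 1), (2, 2), (2, 2), (3, 0), (1, 1), (0, 3), (1, 1), (2, 2), (2, 2), (0, 3), (1, 1), (1, 1), (0, 3), (0, 3), (1, 1), (1, 1), (3, 0), (3, 0), (1, 1), (1, 1), (3, 0), (3, 0), (1, 1), (1, 1), (0, 3), (0, 3), (0, 3), (2, 2), (2, 2), (2, 2), (2, 2), (0, 3), (3, 0), (3, 0), (3, 0), (2, 2), (2, 2), (2, 2), (2, 2), (3, 0), (0, 3), (4, 4), (4, 4), (4, 4), (5, 5), (6, 6), (5, 5), (6, 6), (6, 6), (6, 6), (5, 5), (6, 6), (7, 99), (4, 4), (4, 4), (4, 4), (5, 5), (6, 6), (5, 5), (6, 6), (6, 6), (6, 6), (5, 5), (6, 6), (0, 3), (0, 3), (1, 1), (1, 1), (0, 3), (3, 0),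 (1, 1), (1, 1), (3, 0), (3, 0), (1, 1), (1, 1), (3, 0), (0, 3), (1, 1), (1, 1), (0, 3), (0, 3), (0, 3), (3, 0), (2, 2), (2, 2), (2, 2), (2, 2), (3, 0), (3, 0), (3, 0), (0, 3), (2, 2), (2, 2), (2, 2), (2, 2)], [(0, 3), (1, 1), (0, 3), (1, 1), (0, 3), (1, 1), (3, 0), (1, 1), (3, 0), (1, 1), (3, 0), (1, 1), (3, 0), (1, 1), (0, 3), (1, 1), (0, 3), (1, 1), (1, 1), (0, 3), (0, 3), (1, 1), (1, 1), (3, 0), (3, 0), (1, 1), (1, 1), (3, 0), (3, 0), (1, 1), (1, 1), (0, 3), (1, 1), (1, 1), (1, 1), (1, 1), (4, 4), (4, 4), (4, 4), (5, 5), (6, 6), (6, 6), (6, 6), (7, 99), (4, 4), (4, 4), (4, 4), (5, 5), (6, 6), (6, 6), (6, 6), (0, 3), (0, 3), (1, 1), (1, 1), (0, 3), (3, 0), (1, 1), (1, 1), (3, 0), (3, 0), (1, 1), (1, 1), (3, 0), (0, 3), (1, 1), (1, 1), (1, 1), (1, 1), (1, 1), (1, 1)], [(0, 3), (0, 3), (2, 2), (2, 2), (0, 3), (3, 0), (2, 2), (2, 2), (3, 0),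 (3, 0), (2, 2), (2, 2), (3, 0), (0, 3), (2, 2), (2, 2), (2, 2), (2, 2), (2, 2), (2, 2), (0, 3), (0, 3), (2, 2), (2, 2), (2, 2), (2, 2), (0, 3), (3, 0), (3, 0), (3, 0), (2, 2), (2, 2), (2, 2), (2, 2), (3, 0), (0, 3), (4, 4), (5, 5), (6, 6), (5, 5), (6, 6), (5, 5), (6, 6), (7, 99), (4, 4), (5, 5), (6, 6), (5, 5), (6, 6), (5, 5), (6, 6), (2, 2), (2, 2), (2, 2), (2, 2), (0, 3), (0, 3), (0, 3), (3, 0), (2, 2), (2, 2), (2, 2), (2, 2), (3, 0), (3, 0), (3, 0), (0, 3), (2, 2), (2, 2), (2, 2), (2, 2)], [(0, 3), (1, 1), (0, 3), (1, 1), (2, 2), (2, 2), (0, 3), (1, 1), (3, 0), (1, 1), (2, 2), (2, 2), (3, 0), (1, 1), (3, 0), (1, 1), (2, 2), (2, 2), (3, 0), (1, 1), (0, 3), (1, 1), (2, 2), (2, 2), (0, 3), (1, 1), (1, 1), (0, 3), (0, 3), (1, 1), (1, 1), (3, 0), (3, 0), (1, 1), (1, 1), (3, 0), (3, 0), (1, 1), (1, 1), (0, 3), (0, 3), (0, 3), (2, 2), (2, 2), (2,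 2), (2, 2), (0, 3), (3, 0), (3, 0), (3, 0), (2, 2), (2, 2), (2, 2), (2, 2), (3, 0), (0, 3), (4, 4), (4, 4), (4, 4), (5, 5), (6, 6), (5, 5), (6, 6), (6, 6), (6, 6), (5, 5), (6, 6), (7, 99), (4, 4), (4, 4), (4, 4), (5, 5), (6, 6), (5, 5), (6, 6), (6, 6), (6, 6), (5, 5), (6, 6), (0, 3), (0, 3), (1, 1), (1, 1), (0, 3), (3, 0), (1, 1), (1, 1), (3, 0), (3, 0), (1, 1), (1, 1), (3, 0), (0, 3), (1, 1), (1, 1), (0, 3), (0, 3), (0, 3), (3, 0), (2, 2), (2, 2), (2, 2), (2, 2), (3, 0), (3, 0), (3, 0), (0, 3), (2, 2), (2, 2), (2, 2), (2, 2)], [(0, 3), (1, 1), (0, 3), (1, 1), (0, 3), (1, 1), (3, 0), (1, 1), (3, 0), (1, 1), (3, 0), (1, 1), (3, 0), (1, 1), (0, 3), (1, 1), (0, 3), (1, 1), (1, 1), (0, 3), (0, 3), (1, 1), (1, 1), (3, 0), (3, 0), (1, 1), (1, 1), (3, 0), (3, 0), (1, 1), (1, 1), (0, 3), (4, 4), (4, 4), (4, 4), (4, 4), (4, 4), (4, 4), (4, 4), (5, 5),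 (6, 6), (6, 6), (6, 6), (5, 5), (6, 6), (6, 6), (6, 6), (5, 5), (6, 6), (6, 6), (6, 6), (7, 99), (4, 4), (4, 4), (4, 4), (4, 4), (4, 4), (4, 4), (4, 4), (5, 5), (6, 6), (6, 6), (6, 6), (5, 5), (6, 6), (6, 6), (6, 6), (5, 5), (6, 6), (6, 6), (6, 6), (0, 3), (0, 3), (1, 1), (1, 1), (0, 3), (3, 0), (1, 1), (1, 1), (2, 2), (2, 2), (2, 2), (2, 2), (3, 0), (3, 0), (1, 1), (1, 1), (3, 0), (0, 3), (1, 1), (1, 1), (2, 2), (2, 2), (2, 2), (2, 2), (0, 3), (0, 3), (1, 1), (1, 1), (2, 2), (2, 2), (0, 3), (3, 0), (1, 1), (1, 1), (2, 2), (2, 2), (3, 0), (3, 0), (1, 1), (1, 1), (2, 2), (2, 2), (3, 0), (0, 3), (1, 1), (1, 1), (2, 2), (2, 2), (0, 3), (0, 3), (1, 1), (1, 1), (2, 2), (2, 2), (2, 2), (2, 2), (0, 3), (3, 0), (1, 1), (1, 1), (3, 0), (3, 0), (1, 1), (1, 1), (2, 2), (2, 2), (2, 2), (2, 2), (3, 0), (0, 3), (1, 1), (1, 1), (0, 3), (1, 1), (0, 3), (1,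 1), (0, 3), (1, 1), (3, 0), (1, 1), (3, 0), (1, 1), (3, 0), (1, 1), (3, 0), (1, 1), (0, 3), (1, 1), (0, 3), (1, 1), (1, 1), (0, 3), (0, 3), (1, 1), (1, 1), (3, 0), (3, 0), (1, 1), (1, 1), (3, 0), (3, 0), (1, 1), (1, 1), (0, 3), (0, 3), (1, 1), (0, 3), (1, 1), (0, 3), (1, 1), (3, 0), (1, 1), (3, 0), (1, 1), (3, 0), (1, 1), (3, 0), (1, 1), (0, 3), (1, 1), (0, 3), (1, 1), (1, 1), (0, 3), (0, 3), (1, 1), (1, 1), (3, 0), (3, 0), (1, 1), (1, 1), (3, 0), (3, 0), (1, 1), (1, 1), (0, 3)], [(0, 3), (0, 3), (2, 2), (2, 2), (0, 3), (3, 0), (2, 2), (2, 2), (3, 0), (3, 0), (2, 2), (2, 2), (3, 0), (0, 3), (2, 2), (2, 2), (0, 3), (0, 3), (2, 2), (2, 2), (2, 2), (2, 2), (0, 3), (3, 0), (3, 0), (3, 0), (2, 2), (2, 2), (2, 2), (2, 2), (3, 0), (0, 3), (4, 4), (4, 4), (4, 4), (5, 5), (6, 6), (6, 6), (6, 6), (5, 5), (6, 6), (5, 5), (6, 6), (5, 5), (6, 6), (5, 5),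 (6, 6), (5, 5), (6, 6), (5, 5), (6, 6), (7, 99), (4, 4), (4, 4), (4, 4), (5, 5), (6, 6), (6, 6), (6, 6), (5, 5), (6, 6), (5, 5), (6, 6), (5, 5), (6, 6), (5, 5), (6, 6), (5, 5), (6, 6), (5, 5), (6, 6), (0, 3), (0, 3), (1, 1), (1, 1), (0, 3), (3, 0), (1, 1), (1, 1), (2, 2), (2, 2), (2, 2), (2, 2), (3, 0), (3, 0), (1, 1), (1, 1), (3, 0), (0, 3), (1, 1), (1, 1), (2, 2), (2, 2), (2, 2), (2, 2), (0, 3), (0, 3), (2, 2), (2, 2), (0, 3), (3, 0), (2, 2), (2, 2), (3, 0), (3, 0), (2, 2), (2, 2), (3, 0), (0, 3), (2, 2), (2, 2), (0, 3), (0, 3), (2, 2), (2, 2), (2, 2), (2, 2), (0, 3), (3, 0), (3, 0), (3, 0), (2, 2), (2, 2), (2, 2), (2, 2), (3, 0), (0, 3), (0, 3), (1, 1), (0, 3), (1, 1), (0, 3), (1, 1), (3, 0), (1, 1), (2, 2), (2, 2), (2, 2), (2, 2), (3, 0), (1, 1), (3, 0), (1, 1), (3, 0), (1, 1), (0, 3), (1, 1), (2, 2), (2, 2), (2, 2), (2, 2), (0, 3), (1,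 1), (1, 1), (0, 3), (0, 3), (1, 1), (1, 1), (3, 0), (2, 2), (2, 2), (2, 2), (2, 2), (3, 0), (1, 1), (1, 1), (3, 0), (3, 0), (1, 1), (1, 1), (0, 3), (2, 2), (2, 2), (2, 2), (2, 2), (0, 3), (0, 3), (2, 2), (2, 2), (0, 3), (3, 0), (2, 2), (2, 2), (3, 0), (3, 0), (2, 2), (2, 2), (3, 0), (0, 3), (2, 2), (2, 2), (0, 3), (0, 3), (2, 2), (2, 2), (2, 2), (2, 2), (0, 3), (3, 0), (3, 0), (3, 0), (2, 2), (2, 2), (2, 2), (2, 2), (3, 0), (0, 3)], [(4, 4), (4, 4), (4, 4), (5, 5), (6, 6), (6, 6), (6, 6), (6, 6), (6, 6), (6, 6), (6, 6), (5, 5), (6, 6), (5, 5), (6, 6), (6, 6), (6, 6), (6, 6), (6, 6), (7, 99), (4, 4), (4, 4), (4, 4), (5, 5), (6, 6), (6, 6), (6, 6), (6, 6), (6, 6), (6, 6), (6, 6), (5, 5), (6, 6), (5, 5), (6, 6), (6, 6), (6, 6), (6, 6), (6, 6), (0, 3), (0, 3), (1, 1), (1, 1), (0, 3), (3, 0), (1, 1), (1, 1), (2, 2), (2, 2), (2, 2), (2, 2), (3, 0),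 (3, 0), (1, 1), (1, 1), (3, 0), (0, 3), (1, 1), (1, 1), (2, 2), (2, 2), (2, 2), (2, 2), (0, 3), (0, 3), (2, 2), (2, 2), (0, 3), (3, 0), (2, 2), (2, 2), (3, 0), (3, 0), (2, 2), (2, 2), (3, 0), (0, 3), (2, 2), (2, 2), (0, 3), (0, 3), (2, 2), (2, 2), (2, 2), (2, 2), (0, 3), (3, 0), (3, 0), (3, 0), (2, 2), (2, 2), (2, 2), (2, 2), (3, 0), (0, 3), (0, 3), (1, 1), (0, 3), (1, 1), (0, 3), (1, 1), (3, 0), (1, 1), (3, 0), (1, 1), (3, 0), (1, 1), (3, 0), (1, 1), (0, 3), (1, 1), (0, 3), (1, 1), (1, 1), (0, 3), (0, 3), (1, 1), (1, 1), (3, 0), (3, 0), (1, 1), (1, 1), (3, 0), (3, 0), (1, 1), (1, 1), (0, 3)], [(0, 3), (1, 1), (0, 3), (1, 1), (2, 2), (2, 2), (0, 3), (1, 1), (3, 0), (1, 1), (2, 2), (2, 2), (3, 0), (1, 1), (3, 0), (1, 1), (2, 2), (2, 2), (3, 0), (1, 1), (0, 3), (1, 1), (2, 2), (2, 2), (0, 3), (1, 1), (1, 1), (0, 3), (2, 2), (2, 2), (0, 3), (1,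 1), (1, 1), (3, 0), (2, 2), (2, 2), (3, 0), (1, 1), (1, 1), (3, 0), (2, 2), (2, 2), (3, 0), (1, 1), (1, 1), (0, 3), (2, 2), (2, 2), (0, 3), (1, 1), (0, 3), (1, 1), (2, 2), (2, 2), (0, 3), (1, 1), (3, 0), (1, 1), (2, 2), (2, 2), (3, 0), (1, 1), (3, 0), (1, 1), (2, 2), (2, 2), (3, 0), (1, 1), (0, 3), (1, 1), (2, 2), (2, 2), (0, 3), (1, 1), (1, 1), (0, 3), (2, 2), (2, 2), (2, 2), (2, 2), (0, 3), (1, 1), (1, 1), (3, 0), (3, 0), (1, 1), (1, 1), (3, 0), (2, 2), (2, 2), (2, 2), (2, 2), (3, 0), (1, 1), (1, 1), (0, 3), (0, 3), (1, 1), (0, 3), (1, 1), (2, 2), (2, 2), (2, 2), (2, 2), (0, 3), (1, 1), (3, 0), (1, 1), (3, 0), (1, 1), (3, 0), (1, 1), (2, 2), (2, 2), (2, 2), (2, 2), (3, 0), (1, 1), (0, 3), (1, 1), (0, 3), (1, 1), (1, 1), (0, 3), (2, 2), (2, 2), (2, 2), (2, 2), (0, 3), (1, 1), (1, 1), (3, 0), (3, 0), (1, 1), (1, 1), (3, 0), (2, 2), (2, 2),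 (2, 2), (2, 2), (3, 0), (1, 1), (1, 1), (0, 3), (0, 3), (0, 3), (1, 1), (1, 1), (0, 3), (3, 0), (1, 1), (1, 1), (2, 2), (2, 2), (2, 2), (2, 2), (3, 0), (3, 0), (1, 1), (1, 1), (3, 0), (0, 3), (1, 1), (1, 1), (2, 2), (2, 2), (2, 2), (2, 2), (4, 4), (4, 4), (4, 4), (4, 4), (4, 4), (4, 4), (4, 4), (5, 5), (6, 6), (6, 6), (6, 6), (5, 5), (6, 6), (6, 6), (6, 6), (5, 5), (6, 6), (6, 6), (6, 6), (5, 5), (6, 6), (6, 6), (6, 6), (5, 5), (6, 6), (6, 6), (6, 6), (5, 5), (6, 6), (6, 6), (6, 6), (5, 5), (6, 6), (6, 6), (6, 6), (7, 99), (4, 4), (4, 4), (4, 4), (4, 4), (4, 4), (4, 4), (4, 4), (5, 5), (6, 6), (6, 6), (6, 6), (5, 5), (6, 6), (6, 6), (6, 6), (5, 5), (6, 6), (6, 6), (6, 6), (5, 5), (6, 6), (6, 6), (6, 6), (5, 5), (6, 6), (6, 6), (6, 6), (5, 5), (6, 6), (6, 6), (6, 6), (5, 5), (6, 6), (6, 6), (6, 6), (0, 3), (0, 3), (1, 1), (1, 1), (0, 3), (3,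 0), (1, 1), (1, 1), (2, 2), (2, 2), (2, 2), (2, 2), (3, 0), (3, 0), (1, 1), (1, 1), (3, 0), (0, 3), (1, 1), (1, 1), (2, 2), (2, 2), (2, 2), (2, 2), (0, 3), (0, 3), (1, 1), (1, 1), (2, 2), (2, 2), (0, 3), (3, 0), (1, 1), (1, 1), (2, 2), (2, 2), (3, 0), (3, 0), (1, 1), (1, 1), (2, 2), (2, 2), (3, 0), (0, 3), (1, 1), (1, 1), (2, 2), (2, 2), (0, 3), (0, 3), (1, 1), (1, 1), (2, 2), (2, 2), (2, 2), (2, 2), (0, 3), (3, 0), (1, 1), (1, 1), (3, 0), (3, 0), (1, 1), (1, 1), (2, 2), (2, 2), (2, 2), (2, 2), (3, 0), (0, 3), (1, 1), (1, 1), (0, 3), (0, 3), (1, 1), (1, 1), (0, 3), (3, 0), (1, 1), (1, 1), (2, 2), (2, 2), (2, 2), (2, 2), (3, 0), (3, 0), (1, 1), (1, 1), (3, 0), (0, 3), (1, 1), (1, 1), (2, 2), (2, 2), (2, 2), (2, 2), (0, 3), (0, 3), (1, 1), (1, 1), (2, 2), (2, 2), (2, 2), (2, 2), (0, 3), (3, 0), (1, 1), (1, 1), (3, 0), (3, 0), (1, 1), (1, 1),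 (2, 2), (2, 2), (2, 2), (2, 2), (3, 0), (0, 3), (1, 1), (1, 1), (0, 3), (1, 1), (0, 3), (1, 1), (2, 2), (2, 2), (0, 3), (1, 1), (3, 0), (1, 1), (2, 2), (2, 2), (3, 0), (1, 1), (3, 0), (1, 1), (2, 2), (2, 2), (3, 0), (1, 1), (0, 3), (1, 1), (2, 2), (2, 2), (0, 3), (1, 1), (1, 1), (0, 3), (2, 2), (2, 2), (0, 3), (1, 1), (1, 1), (3, 0), (2, 2), (2, 2), (3, 0), (1, 1), (1, 1), (3, 0), (2, 2), (2, 2), (3, 0), (1, 1), (1, 1), (0, 3), (2, 2), (2, 2), (0, 3), (0, 3), (1, 1), (1, 1), (2, 2), (2, 2), (2, 2), (2, 2), (0, 3), (3, 0), (1, 1), (1, 1), (3, 0), (3, 0), (1, 1), (1, 1), (2, 2), (2, 2), (2, 2), (2, 2), (3, 0), (0, 3), (1, 1), (1, 1), (0, 3), (1, 1), (0, 3), (1, 1), (0, 3), (1, 1), (3, 0), (1, 1), (2, 2), (2, 2), (2, 2), (2, 2), (3, 0), (1, 1), (3, 0), (1, 1), (3, 0), (1, 1), (0, 3), (1, 1), (2, 2), (2, 2), (2, 2), (2, 2), (0, 3), (1, 1), (1,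 1), (0, 3), (0, 3), (1, 1), (1, 1), (3, 0), (2, 2), (2, 2), (2, 2), (2, 2), (3, 0), (1, 1), (1, 1), (3, 0), (3, 0), (1, 1), (1, 1), (0, 3), (2, 2), (2, 2), (2, 2), (2, 2), (0, 3), (1, 1), (0, 3), (1, 1), (2, 2), (2, 2), (0, 3), (1, 1), (3, 0), (1, 1), (2, 2), (2, 2), (3, 0), (1, 1), (3, 0), (1, 1), (2, 2), (2, 2), (3, 0), (1, 1), (0, 3), (1, 1), (2, 2), (2, 2), (0, 3), (1, 1), (1, 1), (0, 3), (0, 3), (1, 1), (1, 1), (3, 0), (2, 2), (2, 2), (2, 2), (2, 2), (3, 0), (1, 1), (1, 1), (3, 0), (3, 0), (1, 1), (1, 1), (0, 3), (2, 2), (2, 2), (2, 2), (2, 2), (0, 3), (1, 1), (1, 1), (0, 3), (0, 3), (1, 1), (1, 1), (3, 0), (2, 2), (2, 2), (2, 2), (2, 2), (3, 0), (1, 1), (1, 1), (3, 0), (3, 0), (1, 1), (1, 1), (0, 3), (2, 2), (2, 2), (2, 2), (2, 2), (0, 3), (1, 1), (0, 3), (1, 1), (2, 2), (2, 2), (2, 2), (2, 2), (0, 3), (1, 1), (3, 0), (1, 1), (3, 0),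 (1, 1), (3, 0), (1, 1), (2, 2), (2, 2), (2, 2), (2, 2), (3, 0), (1, 1), (0, 3), (1, 1)]]

/-- The three counts of the representatives. -/
def numSN : List (ℕ × ℕ × ℕ) := [(111, 16, 16), (71, 8, 8), (71, 8, 8), (111, 0, 16), (207, 48, 48), (207, 48, 48), (127, 16, 32), (575, 224, 224)]

/-- The class of a code. -/
def clsOf (tab : List (ℕ × ℕ × ℕ)) (c : ℕ) : ℕ := ((tab.find? fun e => Nat.beq e.1 c).map (·.2.1)).getD 99

/-- The classes of the involutions commuting with one code and of their products with another. -/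
def pairsOf (roots : List ℕ) (tab : List (ℕ × ℕ × ℕ)) (u w : ℕ) : List (ℕ × ℕ) :=
  ((invsOf roots).filter fun c => comC c u).map fun c => (clsOf tab c, clsOf tab (mulM c w))

/-- The number of pairs of fused classes. -/
def cnt (F : ℕ → Bool) (P : List (ℕ × ℕ)) : ℕ := (P.filter fun p => F p.1 && F p.2).length

/-- The fused classes given by a mask. -/
def fMask (m c : ℕ) : Bool := Nat.beq c 7 || (Nat.blt c 7 && Nat.testBit m c)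

/-- A mask passes the test of the counts. -/
def okMask (m : ℕ) : Bool :=
  (List.range 7).all fun u => !fMask m u || (List.range 7).any fun v =>
    fMask m v && Nat.beq (numSN.getD u (0, 0, 0)).1 (numSN.getD v (0, 0, 0)).1 &&
      Nat.beq (numSN.getD u (0, 0, 0)).2.1 (numSN.getD v (0, 0, 0)).2.2 &&
      Nat.beq (cnt (fMask m) (patU.getD u [])) (cnt (fMask m) (patZ.getD v []))

theorem okMask_only : ∀ m : Fin 128, okMask m = true →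
    (m : ℕ) = 0 ∨ (m : ℕ) = 16 ∨ (m : ℕ) = 32 ∨ (m : ℕ) = 49 ∨ (m : ℕ) = 51 ∨ (m : ℕ) = 53 ∨ (m : ℕ) = 55 := by
  decide +kernel

theorem pat_ok : ((List.range 8).all fun i =>
    pairsOf rootsSN invTabSN (repsSN.getD i 0) (repsSN.getD i 0) == patU.getD i [] &&
      pairsOf rootsSN invTabSN (repsSN.getD i 0) zC0 == patZ.getD i [] &&
      (nInv rootsSN (repsSN.getD i 0), nRoot rootsSN (repsSN.getD i 0), nRootZ rootsSN (repsSN.getD i 0)) ==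
        numSN.getD i (0, 0, 0)) = true := by decide +kernel

theorem onlyST : chkOnly repsST rootsST [] = true := by decide +kernel

theorem onlyUT : chkOnly repsUT rootsUT [] = true := by decide +kernel

theorem onlyUN : chkOnly repsUN rootsUN [3] = true := by decide +kernel

section

variable {G : Type*} [Group G] [Finite G] [IsSimpleGroup G] {z : G} {Q : Subgroup (CC z)} {φ : CC z → ℕ}

theorem cases_ST (L : Loc z Q false true φ repsST rootsST invTabST) : False :=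
  L.not_isolated fun _ hi hf => (L.only onlyST hi hf).resolve_right (by simp)

theorem cases_UT (L : Loc z Q true true φ repsUT rootsUT invTabUT) : False :=
  L.not_isolated fun _ hi hf => (L.only onlyUT hi hf).resolve_right (by simp)

theorem cases_UN (L : Loc z Q true false φ repsUN rootsUN invTabUN)
    (htwo : ∃ x y : G, orderOf x = 2 ∧ orderOf y = 2 ∧ ¬ IsConj x y) : False := by
  by_cases h3 : Fu z φ (repsUN.getD 3 0)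
  · exact L.not_closed htwo [3] (fun i hi hf => (L.only onlyUN hi hf).imp_right id)
      (fun i hi => by simp only [List.mem_singleton] at hi; subst hi; exact ⟨by decide, h3⟩) (by decide +kernel)
  · refine L.not_isolated fun i hi hf => (L.only onlyUN hi hf).resolve_right fun h => ?_
    simp only [List.mem_singleton] at h
    exact h3 (h ▸ hf)

/-- The fused classes other than the central one are the given ones. -/
def FusedIs (z : G) (φ : CC z → ℕ) (ids : List ℕ) : Prop :=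
  ∀ i < 7, (Fu z φ (repsSN.getD i 0) ↔ i ∈ ids)

variable (L : Loc z Q false false φ repsSN rootsSN invTabSN)
include L

theorem Loc.fu_cls (F : ℕ → Bool) (h99 : F 99 = false)
    (hF : ∀ i < 8, (Fu z φ (repsSN.getD i 0) ↔ F i = true)) (x : CC z) :
    IsConj (x : G) z ↔ F (clsOf invTabSN (φ x)) = true := by
  rw [clsOf]
  cases hfind : invTabSN.find? (fun e => Nat.beq e.1 (φ x)) with
  | none =>
    simp only [Option.map_none, Option.getD_none, h99, Bool.false_eq_true, iff_false]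
    intro hx
    obtain ⟨hx2, hx1⟩ := L.conj_inv hx
    obtain ⟨e, he, hxe, -⟩ := L.exists_rep hx2 hx1
    have := List.find?_eq_none.1 hfind e he
    simp [hxe] at this
  | some e =>
    simp only [Option.map_some, Option.getD_some]
    have he := List.mem_of_find?_eq_some hfind
    have hex : e.1 = φ x := by
      have := List.find?_some hfind
      simpa [Nat.beq_eq] using this
    rw [← hF _ (L.tab_spec.2.1 e he).1, ← L.fu_tab he, hex, L.fu_iff]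

theorem Loc.nP_eq (F : ℕ → Bool) (h99 : F 99 = false)
    (hF : ∀ i < 8, (Fu z φ (repsSN.getD i 0) ↔ F i = true)) (u w : CC z) :
    nP z (u : G) w = cnt F (pairsOf rootsSN invTabSN (φ u) (φ w)) := by
  rw [nP, cnt, pairsOf, List.filter_map, List.length_map, L.invs_eq, List.filter_filter, List.filter_filter]
  refine L.count _ _ fun x => ?_
  simp only [Function.comp_apply, Bool.and_eq_true]
  rw [← L.co.map_mul, ← L.comm_iff, ← L.fu_cls F h99 hF, ← L.fu_cls F h99 hF, Subgroup.coe_mul]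
  refine ⟨fun h => ⟨⟨⟨h.2.1, h.2.2⟩, h.1⟩, ?_⟩, fun h => ⟨h.1.2, h.1.1.1, h.1.1.2⟩⟩
  have h2 := L.conj_inv h.2.1
  have := L.phi_inv h2.1 h2.2
  simp [this.1, this.2]

theorem cases_SN (htwo : ∃ x y : G, orderOf x = 2 ∧ orderOf y = 2 ∧ ¬ IsConj x y) :
    FusedIs z φ [0, 4, 5] ∨ FusedIs z φ [0, 1, 4, 5] ∨ FusedIs z φ [0, 2, 4, 5] ∨ FusedIs z φ [0, 1, 2, 4, 5] := by
  classical
  have hbit : ∀ f : Fin 7 → Bool, ∃ m : Fin 128, ∀ i : Fin 7, Nat.testBit m i = f i := by decide +kernel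
  obtain ⟨m, hm⟩ := hbit fun i => decide (Fu z φ (repsSN.getD i 0))
  have hlen : repsSN.length = 8 := by decide
  have hz7 : repsSN.getD 7 0 = zC0 := by decide +kernel
  have hne : ∀ i : Fin 7, repsSN.getD i 0 ≠ zC0 := by decide +kernel
  have hF : ∀ i < 8, (Fu z φ (repsSN.getD i 0) ↔ fMask m i = true) := by
    intro i hi
    rcases (show i < 7 ∨ i = 7 by omega) with h | rfl
    · have h1 : Nat.testBit (m : ℕ) i = decide (Fu z φ (repsSN.getD i 0)) := hm ⟨i, h⟩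
      have h2 : Nat.beq i 7 = false := Bool.eq_false_iff.2 fun h' => by
        rw [Nat.beq_eq] at h'; omega
      rw [fMask, h1, h2, (Nat.blt_eq).mpr h, Bool.false_or, Bool.true_and, decide_eq_true_eq]
    · rw [hz7]
      exact ⟨fun _ => rfl, fun _ => ⟨zc z, L.co.map_z, IsConj.refl z⟩⟩
  have hok : okMask m = true := by
    simp only [okMask, List.all_eq_true, List.mem_range, Bool.or_eq_true, Bool.not_eq_true',
      ← Bool.not_eq_true, List.any_eq_true, Bool.and_eq_true, Nat.beq_eq]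
    intro u hu
    by_cases hfu : fMask m u = true
    swap
    · exact Or.inl hfu
    right
    obtain ⟨v, hv, hvz, hfv, e1, e2, e3⟩ :=
      L.exists_partner (i := u) (by omega) ((hF u (by omega)).2 hfu) (hne ⟨u, hu⟩)
    rw [hlen] at hv
    have hv7 : v < 7 := by
      rcases (show v < 7 ∨ v = 7 by omega) with h | rfl
      · exact h
      · exact absurd hz7 hvz
    have hp := pat_ok
    simp only [List.all_eq_true, List.mem_range, Bool.and_eq_true, beq_iff_eq] at hp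
    obtain ⟨⟨pu, -⟩, nu⟩ := hp u (by omega)
    obtain ⟨⟨-, pv⟩, nv⟩ := hp v (by omega)
    refine ⟨v, hv7, ⟨⟨(hF v (by omega)).1 hfv, ?_⟩, ?_⟩, ?_⟩
    · rw [← nu, ← nv]; exact e1
    · rw [← nu, ← nv]; exact e2
    · obtain ⟨u', hu', -⟩ := L.of_rep (i := u) (by omega)
      obtain ⟨v', hv', -⟩ := L.of_rep (i := v) (by omega)
      have h3 := e3 u' v' hu' hv'
      rw [L.nP_eq (fMask m) rfl hF] at h3
      have h4 : nP z (v' : G) z = _ := L.nP_eq (fMask m) rfl hF v' (zc z)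
      rw [h4, L.co.map_z, hu', hv', show qcode 64 = zC0 from rfl] at h3
      rw [← pu, ← pv]; exact h3
  have hids : ∀ ids : List ℕ, (∀ i < 7, fMask m i = decide (i ∈ ids)) → FusedIs z φ ids := fun ids h i hi => by
    rw [hF i (by omega), h i hi, decide_eq_true_eq]
  have hsmall : ∀ ids : List ℕ, (∀ i < 7, fMask m i = decide (i ∈ ids)) → (∀ i ∈ ids, i < 7) →
      ids ≠ [] → (let A := oneC :: zC0 :: (invTabSN.filter fun e => ids.any fun i => Nat.beq i e.2.1).map Prod.fst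
      A.all fun c => A.all fun d => comC c d && A.any fun r => Nat.beq r (mulM c d)) = true → False := by
    intro ids h h7 _ hA
    refine L.not_closed htwo ids (fun i hi hf => ?_) (fun i hi => ?_) hA
    · rw [hlen] at hi
      rcases (show i < 7 ∨ i = 7 by omega) with h' | rfl
      · exact Or.inr ((hids ids h i h').1 hf)
      · exact Or.inl hz7
    · exact ⟨by rw [hlen]; have := h7 i hi; omega, (hids ids h i (h7 i hi)).2 hi⟩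
  rcases okMask_only m hok with h | h | h | h | h | h | h
  · exfalso
    refine L.not_isolated fun i hi hf => ?_
    rw [hlen] at hi
    rcases (show i < 7 ∨ i = 7 by omega) with h' | rfl
    · exact absurd ((hids [] (by rw [h]; decide +kernel) i h').1 hf) (by simp)
    · exact hz7
  · exact (hsmall [4] (by rw [h]; decide +kernel) (by simp) (by simp) (by decide +kernel)).elim
  · exact (hsmall [5] (by rw [h]; decide +kernel) (by simp) (by simp) (by decide +kernel)).elim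
  · exact Or.inl (hids _ (by rw [h]; decide +kernel))
  · exact Or.inr (Or.inl (hids _ (by rw [h]; decide +kernel)))
  · exact Or.inr (Or.inr (Or.inl (hids _ (by rw [h]; decide +kernel))))
  · exact Or.inr (Or.inr (Or.inr (hids _ (by rw [h]; decide +kernel))))

end

end Cfsg.Agent.Fus.HeUniq
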