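import Mathlib

/-!
# A pair of generators of the linear group of degree three over two elements
-/

set_option autoImplicit false
set_option maxRecDepth 100000

namespace Cfsg.Agent.Fus.HeUniq

/-- The linear group. -/
abbrev SL3 : Type := Matrix.SpecialLinearGroup (Fin 3) (ZMod 2)

/-- A generator of order seven. -/
def s3 : SL3 := ⟨!![0, 0, 1; 0, 1, 1; 1, 1, 0], by decide⟩

/-- An involution. -/
def t3 : SL3 := ⟨!![0, 0, 1; 1, 1, 1; 1, 0, 0], by decide⟩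

theorem s3_pow : s3 ^ 7 = 1 := by decide +kernel

theorem s3_ne : s3 ≠ 1 := by decide +kernel

theorem t3_sq : t3 * t3 = 1 := by decide +kernel

theorem t3_ne : t3 ≠ 1 := by decide +kernel

theorem st3_pow : s3 * t3 * (s3 * t3 * (s3 * t3)) = 1 := by decide +kernel

theorem comm3_pow : s3 ^ 6 * t3 * (s3 * t3) * (s3 ^ 6 * t3 * (s3 * t3)) *
    (s3 ^ 6 * t3 * (s3 * t3) * (s3 ^ 6 * t3 * (s3 * t3))) = 1 := by decide +kernel

/-- The number of a matrix. -/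
def code3 (M : Matrix (Fin 3) (Fin 3) (ZMod 2)) : ℕ :=
  (M 0 0).val + 2 * (M 0 1).val + 4 * (M 0 2).val + 8 * (M 1 0).val + 16 * (M 1 1).val + 32 * (M 1 2).val +
    64 * (M 2 0).val + 128 * (M 2 1).val + 256 * (M 2 2).val

/-- The matrix of a word. -/
def word3 : ℕ → ℕ → Matrix (Fin 3) (Fin 3) (ZMod 2)
  | 0, _ => 1
  | k + 1, w => if w % 4 = 0 then 1 else (if w % 4 = 2 then (s3 : Matrix (Fin 3) (Fin 3) (ZMod 2)) else (t3 : Matrix (Fin 3) (Fin 3) (ZMod 2))) * word3 k (w / 4)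

/-- A word for each number. -/
def words3 : List ℕ := [0, 0, 0, 0, 0, 0, 0, 0, 0, 0, 0, 0, 0, 0, 0, 0, 0, 0, 0, 0, 0, 0, 0, 0, 0, 0, 0, 0, 0, 0, 0, 0, 0, 0, 0, 0, 0, 0, 0, 0, 0, 0, 0, 0, 0, 0, 0, 0, 0, 0, 0, 0, 0, 0, 0, 0, 0, 0, 0, 0, 0, 0, 0, 0, 0, 0, 0, 0, 0, 0, 0, 0, 0, 0, 0, 0, 0, 0, 0, 0, 0, 0, 0, 0, 42662, 2473, 158362, 10666, 0, 0, 0, 0, 173737, 10918, 2792042, 409, 0, 0, 436646, 25, 0, 0, 1690, 109162, 0, 0, 694889, 1681834, 0, 0, 174697, 39577, 0, 0, 27049, 698026, 108970, 1731226, 0, 0, 0, 0, 154, 10858, 1, 43430, 0, 0, 0, 0, 0, 0, 0, 0, 0, 0, 0, 0, 0, 0, 108201, 1706, 6822, 1743466, 0, 0, 0, 0, 0, 0, 0, 0, 0, 0, 0, 0, 26278, 6570, 169, 10906, 0, 617, 0, 2729638, 0, 682410, 0, 39578, 0, 6762, 0, 10, 38, 0, 27046, 0, 0, 173722, 0, 432745, 0, 2713, 0, 109161, 0, 435882, 0, 698794, 174505, 0, 2795174, 0, 0, 0, 0, 0, 0, 0, 0, 0, 0, 0, 0, 0, 632486,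 6810, 158122, 105, 0, 0, 0, 0, 2730602, 1730985, 665, 42650, 0, 0, 0, 0, 0, 0, 0, 0, 0, 698790, 41, 0, 0, 2714, 174698, 0, 0, 43433, 698022, 0, 174506, 0, 0, 2779802, 0, 6, 158314, 0, 2, 0, 0, 420458, 0, 6924906, 108186, 0, 0, 682409, 1689, 0, 0, 0, 0, 0, 0, 0, 0, 0, 0, 0, 43626, 9, 0, 0, 666, 174502, 0, 0, 0, 27242, 0, 108966, 0, 410, 0, 633450, 153, 0, 0, 9882, 2533798, 0, 0, 0, 0, 0, 0, 0, 0, 0, 0, 0, 105113, 633258, 0, 0, 158121, 1743465, 0, 43434, 0, 173734, 0, 682650, 0, 10665, 0, 108198, 27050, 0, 0, 6569, 420506, 0, 0, 0, 0, 0, 0, 0, 0, 0, 0, 0, 678, 170602, 0, 0, 170, 9897, 0, 11168170, 0, 10857, 39529, 0, 420505, 0, 0, 42666, 432806, 0, 108202, 0, 0, 170662, 0, 0, 26281, 432746, 0, 0, 426, 1702, 0, 0, 0, 0, 0, 0, 0, 0, 0, 618, 2470, 0, 1642, 0, 0, 2729, 0, 43673, 0, 27241, 2730601, 0, 158361, 0, 0, 0, 0, 0, 0, 0, 0, 0, 0, 0, 26282, 698793, 2533034,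 105126, 0, 0, 0, 43674, 0, 422, 0, 681, 0, 106, 0, 6761, 6973866, 0, 2665, 0, 0, 2779562, 0, 6727338, 0, 632489, 0, 39590, 0, 9898, 0, 633449, 27289, 0, 698010, 0, 0, 10905, 0, 0, 0, 0, 0, 0, 0, 0, 0, 0, 42, 166, 39530, 1705, 0, 0, 0, 0, 0, 0, 0, 0, 0, 0, 0, 0, 105114, 6923942, 1641, 682649, 0, 0, 0, 694950, 0, 632490, 173738, 0, 2529958, 0, 0, 9894, 27290, 0, 0, 2474, 425, 0, 0, 42665, 694890, 0, 0, 682, 2726, 0, 0, 102, 0, 26, 2666, 0, 10662, 0, 0, 0, 43625, 170601, 435866, 6809, 0, 0, 0, 0, 0, 0, 0, 0, 0, 0]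

theorem word3_code : ∀ M : Matrix (Fin 3) (Fin 3) (ZMod 2), M.det = 1 →
    word3 16 (words3.getD (code3 M) 0) = M := by decide +kernel

theorem word3_mem : ∀ k w, ∃ g ∈ Subgroup.closure ({s3, t3} : Set SL3), (g : Matrix (Fin 3) (Fin 3) (ZMod 2)) = word3 k w := by
  intro k
  induction k with
  | zero => exact fun w => ⟨1, one_mem _, rfl⟩
  | succ k ih =>
    intro w
    obtain ⟨g, hg, e⟩ := ih (w / 4)
    simp only [word3]
    by_cases h0 : w % 4 = 0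
    · rw [if_pos h0]; exact ⟨1, one_mem _, rfl⟩
    · rw [if_neg h0]
      by_cases h2 : w % 4 = 2
      · exact ⟨s3 * g, mul_mem (Subgroup.subset_closure (by simp)) hg, by rw [if_pos h2, ← e]; rfl⟩
      · exact ⟨t3 * g, mul_mem (Subgroup.subset_closure (by simp)) hg, by rw [if_neg h2, ← e]; rfl⟩

theorem closure_st : Subgroup.closure ({s3, t3} : Set SL3) = ⊤ := by
  rw [eq_top_iff]
  intro M _
  obtain ⟨g, hg, e⟩ := word3_mem 16 (words3.getD (code3 M) 0)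
  rwa [show g = M from Subtype.ext (e.trans (word3_code M M.2))] at hg

end Cfsg.Agent.Fus.HeUniq
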