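import Cfsg.Agent.Lib.Fus.HeUniq.Rot

/-!
# Seven involutions with the relations near the four group
-/

set_option autoImplicit false
set_option linter.style.haveILetI false
set_option linter.unusedSectionVars false
set_option maxRecDepth 100000

namespace Cfsg.Agent.Fus.HeUniq

open Cfsg.Agent.Spor.SU32 Cfsg.Agent.Spor.L34Elem L34

/-- The involutions and relations found in the centralizer of the four group, with an outer one. -/
structure HeGens {G : Type*} [Group G] (z a b c f g : G) : Prop where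
  a_at : AType z a
  b_at : AType z b
  c_at : AType z c
  fz : IsConj f z
  gz : IsConj g z
  az : a * z = z * a
  bz : b * z = z * b
  af : a * f = f * a
  ag : a * g = g * a
  bf : b * f = f * b
  bg : b * g = g * b
  cf : c * f = f * c
  cg : c * g = g * c
  ac : a * c = c * a
  caz : IsConj (c * a) z
  ez : IsConj ((f * g) ^ 2) z
  fg4 : (f * g) ^ 4 = 1
  zf3 : (z * f) ^ 3 = 1
  zg3 : (z * g) ^ 3 = 1
  ze3 : (z * (f * g) ^ 2) ^ 3 = 1
  cz5 : (c * z) ^ 5 = a
  czfg : (c * z * f * g) ^ 4 = 1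
  ab4 : (a * b) ^ 4 = 1
  ab_ne : a * b * (a * b) ≠ 1
  c_t : c * (a * b * (a * b)) ≠ a * b * (a * b) * c

variable {G : Type*} [Group G] [Finite G] [IsSimpleGroup G] {z : G} {Q : Subgroup (CC z)} {φ : CC z → ℕ}
  {a v : CC z} (F : FF z Q φ a v)
include F

/-- The square of a product of two generators is distinguished. -/
theorem FF.sq_X {θ : WW a v →* Matrix.ProjectiveSpecialLinearGroup (Fin 3) F4} (H : Th F θ) {f g y : G}
    (hf : IsX a v f) (hg : IsX a v g) (Y : YY a v f y) (hyg : y * g = g * y)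
    (h4 : (θ ⟨f, hf.1⟩ * θ ⟨g, hg.1⟩) ^ 4 = 1) (h2 : (θ ⟨f, hf.1⟩ * θ ⟨g, hg.1⟩) ^ 2 ≠ 1) :
    IsX a v ((f * g) ^ 2) ∧ (f * g) ^ 4 = 1 := by
  classical
  haveI : Fact (Nat.Prime 2) := ⟨Nat.prime_two⟩
  have hfgW : f * g ∈ WW a v := mul_mem hf.1 hg.1
  rw [← map_mul, ← map_pow, H.one] at h4
  have h4' : InV a v ((f * g) ^ 4) := h4
  have hnV : ¬ InV a v ((f * g) ^ 2) := fun hV => h2 (by rw [← map_mul, ← map_pow, H.one]; exact hV)
  have he2 : (f * g) ^ 2 * (f * g) ^ 2 = (f * g) ^ 4 := by rw [← pow_add]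
  obtain ⟨k, hk, hX, hu⟩ := F.X_exists (pow_mem hfgW 2) hnV (he2 ▸ h4')
  set e := (f * g) ^ 2 with he
  have hye : y * e * y⁻¹ = e := by
    rw [he, ← conj_pow, cjg_mul, Y.fix, hyg, mul_inv_cancel_right]
  have hk' : InV a v (y * k * y⁻¹) ∧ (k = 1 ∨ k = a ∨ y * k * y⁻¹ ≠ k) := by
    rcases hk with rfl | rfl | rfl | rfl
    · exact ⟨by rw [mul_one, mul_inv_cancel]; exact F.InV_one, Or.inl rfl⟩
    · exact ⟨by rw [Y.fa, mul_inv_cancel_right]; exact F.InV_a, Or.inr (Or.inl rfl)⟩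
    · exact ⟨by rw [Y.swap]; exact Or.inr (Or.inr (Or.inr rfl)), Or.inr (Or.inr (by rw [Y.swap]; exact F.V_ne.1))⟩
    · have e' : y * ((v : G) * a) * y⁻¹ = v := by
        rw [cjg_mul, Y.swap, Y.fa, mul_inv_cancel_right, mul_assoc, F.aa, mul_one]
      exact ⟨by rw [e']; exact Or.inr (Or.inr (Or.inl rfl)), Or.inr (Or.inr (by rw [e']; exact F.V_ne.1.symm))⟩
  have hkfix : y * k * y⁻¹ = k := by
    refine hu _ hk'.1 ?_
    have h := F.cj_X Y.fa hX
    rwa [cjg_mul, hye] at h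
  have hk1 : k = 1 := by
    refine hk'.2.resolve_right fun h => ?_
    rcases h with rfl | h
    · -- a root of a noncentral involution
      have hA : AType z e := by
        have h := hX.2.2
        rwa [mul_assoc, F.aa, mul_one] at h
      have hord : (f * g) ^ (2 ^ 3) = 1 := by
        rw [show (2 : ℕ) ^ 3 = 4 + 4 from rfl, pow_add, F.InV_sq h4']
      obtain ⟨w, hw, hwR⟩ := F.to_R (P := Subgroup.zpowers (f * g)) (IsPGroup.iff_orderOf.2 fun p => by
        obtain ⟨i, -, hi⟩ := (Nat.dvd_prime_pow Nat.prime_two).1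
          ((orderOf_dvd_natCard p).trans ((Nat.card_zpowers (f * g)).symm ▸ orderOf_dvd_of_pow_eq_one hord))
        exact ⟨i, hi⟩) (Subgroup.zpowers_le.2 hfgW)
      have hsR := hwR _ (Subgroup.mem_zpowers _)
      obtain ⟨hsT, hsl⟩ := F.mem_R.1 hsR
      set s := w * (f * g) * w⁻¹ with hs
      have hss : s * s = w * e * w⁻¹ := by rw [← pow_two, hs, conj_pow]
      have hsA : AType z (s * s) := hss ▸ hA.cj w
      have hs' := sqT_ok
      simp only [Bool.and_eq_true, beq_iff_eq, List.all_eq_true, Nat.beq_eq] at hs'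
      obtain ⟨q, hq, hqc⟩ := List.mem_map.1 (hs'.1 ▸ (F.S.mem_T _).1 hsT : φ (tc hsT) ∈ sqT.map Prod.fst)
      have hq2 : q.2 = φ (tc (mul_mem hsT hsT)) := by rw [F.S.mulT hsT hsT, ← hqc]; exact (hs'.2 q hq).symm
      have hd := dataF_coset
      simp only [Bool.and_eq_true, chkNoRoot, List.all_eq_true, Bool.or_eq_true, Bool.not_eq_true',
        ← Bool.not_eq_true, memC_iff] at hd
      rcases hd.2 q hq with (h' | h') | h'
      · exact h' (by rw [hqc]; exact (List.mem_filter.1 hsl).2)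
      · rw [hq2, F.listV_iff] at h'
        refine hnV ?_
        have he' : e = w⁻¹ * (s * s) * w := by rw [hss]; group
        rw [he', mul_assoc, ← F.V_comm h' hw, inv_mul_cancel_left]
        exact h'
      · exact h' (by rw [hq2]; exact (F.aF_iff _).1 hsA)
    · exact h hkfix
  rw [hk1, mul_one] at hX
  exact ⟨hX, by rw [← he2]; exact F.X_sq hX⟩

theorem FF.exists_gens : ∃ (b c f g : G), HeGens z (a : G) b c f g := by
  obtain ⟨θ, H⟩ := F.exists_theta
  obtain ⟨hd2, hf2, -, -, hdf3, hfd, -⟩ := rels 0 (by norm_num)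
  obtain ⟨f, hf, hfv⟩ := H.lift hf2
  obtain ⟨y, Y⟩ := F.exists_Y H hf hfv
  obtain ⟨k, hk, g, hg, hgv, hyg⟩ := H.exists_fixed hf hfv Y
  obtain ⟨-, -, -, hc2, -, -, hcand, hfg2, hcf, hcg, hcd5, hcdne, hx2, hx4⟩ := rels k hk
  obtain ⟨x, hx, hxv⟩ := H.lift hc2
  obtain ⟨hgd, hdg3, hfg4, hde3⟩ := hcand
  rw [← H.zval, ← hfv, ← hgv] at hde3
  rw [← H.zval, ← hgv] at hdg3 hgd
  rw [← hfv, ← hgv] at hfg4 hfg2
  obtain ⟨heX, hfg⟩ := F.sq_X H hf hg Y hyg hfg4 hfg2
  have hze : (z * (f * g) ^ 2) ^ 3 = 1 := H.cube F.z_X heX (by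
    rw [← map_mul, ← map_pow] at hde3
    exact hde3)
  have hzg : (z * g) ^ 3 = 1 := H.cube F.z_X hg hdg3
  have T : Third a v f y g := ⟨hg, hyg, fun e => hgd (congrArg θ (Subtype.ext e)), hzg, hfg, hze⟩
  obtain ⟨b, hbA, hbz, hbf, hbg, hb1, hb4, hbt⟩ := F.exists_b H hk hf hfv hg hgv hx hxv Y T
  have hyx := F.not_comm H hk hf hfv hg hgv hx hxv Y hyg
  have hxa := (F.mem_W.1 hx.1).1
  have hca : x * (a : G) * a = x := by rw [mul_assoc, F.aa, mul_one]
  refine ⟨b, x * a, f, g, F.v_props.2.2.2.1, hbA, hx.2.2, hf.2.1, hg.2.1, (F.mem_W.1 F.zW).1.symm, hbz,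
    (F.mem_W.1 hf.1).1.symm, (F.mem_W.1 hg.1).1.symm, hbf, hbg, ?_, ?_, ?_, ?_, heX.2.1, hfg,
    H.cube F.z_X hf (by rw [H.zval, hfv]; exact hdf3), hzg, hze, ?_, ?_, hb4, hb1, ?_⟩
  · have hxf : x * f = f * x := H.comm hf hx.1 (by rw [hxv, hfv]; exact hcf)
    exact (Commute.mul_left hxf (F.mem_W.1 hf.1).1.symm :)
  · have hxg : x * g = g * x := H.comm hg hx.1 (by rw [hxv, hgv]; exact hcg)
    exact (Commute.mul_left hxg (F.mem_W.1 hg.1).1.symm :)
  · rw [← mul_assoc, ← hxa]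
  · rw [hca]; exact hx.2.1
  · have h5 : (x * z) ^ 5 = 1 := H.fifth hx F.z_X (by rw [hxv, H.zval]; exact hcd5)
    have hcm : Commute (x * z) (a : G) := Commute.mul_left hxa (F.mem_W.1 F.zW).1
    rw [show x * (a : G) * z = x * z * a by rw [mul_assoc, ← (F.mem_W.1 F.zW).1, mul_assoc], hcm.mul_pow, h5,
      one_mul, show (5 : ℕ) = 2 + 2 + 1 from rfl, pow_add, pow_add, pow_two, F.aa, one_mul, pow_one, one_mul]
  · set w := x * (a : G) * z * f * g with hw
    have hwW : w ∈ WW a v := mul_mem (mul_mem (mul_mem (mul_mem hx.1 F.aW) F.zW) hf.1) hg.1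
    have hθ : θ ⟨w, hwW⟩ = PP (cM.getD k dM) * PP dM * PP fM2 * PP (sixM.getD k dM) := by
      rw [← hxv, ← H.zval, ← hfv, ← hgv, ← map_mul, ← map_mul, ← map_mul, H.eq_iff]
      show InV a v (w⁻¹ * (x * z * f * g))
      have hm : (a : G) * (z * f * g) = z * f * g * a := (F.mem_W.1 (mul_mem (mul_mem F.zW hf.1) hg.1)).1.symm
      right; left
      rw [hw, show (x * (a : G) * z * f * g)⁻¹ * (x * z * f * g) = ((a : G) * (z * f * g))⁻¹ * (z * f * g) by group,
        hm, mul_inv_rev, inv_mul_cancel_right, inv_eq_of_mul_eq_one_right F.aa]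
    rw [← hθ, ← map_pow] at hx2 hx4
    rw [H.one] at hx4
    have h2 : InV a v (w ^ 2 * w ^ 2) := by rw [← pow_add]; exact hx4
    have h := (F.coset (pow_mem hwW 2) (fun hV => hx2 ((H.one _).2 hV)) h2).1
    rwa [← pow_add] at h
  · have hna : ¬ (x * a) * y = y * (x * a) := by
      intro e
      refine hyx ?_
      calc y * x = y * (x * a) * a := by rw [mul_assoc, hca]
        _ = x * (a * y) * a := by rw [← e]; group
        _ = x * y := by rw [← Y.fa]; simp only [mul_assoc, F.aa, mul_one]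
    rcases hbt with e | e <;> rw [e]
    · exact hna
    · intro e'
      refine hna ?_
      have hac : (x * a) * (a : G) = a * (x * a) := by rw [hca, ← mul_assoc, ← hxa, hca]
      calc x * a * y = (a : G) * (a * (x * a * y)) := by rw [← mul_assoc (a : G) a, F.aa, one_mul]
        _ = (a : G) * (x * a * (a * y)) := by rw [← mul_assoc (a : G) (x * a) y, ← hac, mul_assoc]
        _ = (a : G) * ((a : G) * y * (x * a)) := by rw [e']
        _ = y * (x * a) := by rw [← mul_assoc (a : G), ← mul_assoc (a : G) a, F.aa, one_mul]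

end Cfsg.Agent.Fus.HeUniq
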