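import Cfsg.Agent.Lib.Fus.HeUniq.Action
import Cfsg.Agent.Lib.Fus.HeUniq.Gen
import Cfsg.Agent.Lib.Fus.HeUniq.Enum0
import Cfsg.Agent.Lib.Fus.HeUniq.Enum1
import Cfsg.Agent.Lib.Fus.HeUniq.Enum2
import Cfsg.Agent.Lib.Fus.HeUniq.Enum3
import Cfsg.Agent.Lib.Fus.HeUniq.Enum4

/-!
# The image in the orthogonal group

A group `H / Q ≅ L₃(2)` acting faithfully has, in a suitable frame, one of two images.
-/

set_option autoImplicit false
set_option linter.style.haveILetI false
set_option linter.unusedSectionVars false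
set_option maxRecDepth 100000

namespace Cfsg.Agent.Fus.HeUniq

theorem chk_all : ∀ v ∈ ([1, 2, 3, 4, 5, 6, 7, 8, 10, 12, 14, 16, 17, 20, 21, 24, 27, 28, 31, 32, 33, 34, 35, 40, 42, 45, 47, 48, 49, 54, 55, 56, 59, 61, 62] : List ℕ), chkFrom v = true :=
  List.forall_mem_cons.2 ⟨chk1, List.forall_mem_cons.2 ⟨chk2, List.forall_mem_cons.2 ⟨chk3, List.forall_mem_cons.2 ⟨chk4, List.forall_mem_cons.2 ⟨chk5, List.forall_mem_cons.2 ⟨chk6, List.forall_mem_cons.2 ⟨chk7, List.forall_mem_cons.2 ⟨chk8, List.forall_mem_cons.2 ⟨chk10, List.forall_mem_cons.2 ⟨chk12, List.forall_mem_cons.2 ⟨chk14, List.forall_mem_cons.2 ⟨chk16, List.forall_mem_cons.2 ⟨chk17, List.forall_mem_cons.2 ⟨chk20, List.forall_mem_cons.2 ⟨chk21, List.forall_mem_cons.2 ⟨chk24, List.forall_mem_cons.2 ⟨chk27, List.forall_mem_cons.2 ⟨chk28, List.forall_mem_cons.2 ⟨chk31, List.forall_mem_cons.2 ⟨chk32, List.forall_mem_cons.2 ⟨chk33, List.forall_mem_cons.2 ⟨chk34, List.forall_mem_cons.2 ⟨chk35, List.forall_mem_cons.2 ⟨chk40, List.forall_mem_cons.2 ⟨chk42, List.forall_mem_cons.2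 ⟨chk45, List.forall_mem_cons.2 ⟨chk47, List.forall_mem_cons.2 ⟨chk48, List.forall_mem_cons.2 ⟨chk49, List.forall_mem_cons.2 ⟨chk54, List.forall_mem_cons.2 ⟨chk55, List.forall_mem_cons.2 ⟨chk56, List.forall_mem_cons.2 ⟨chk59, List.forall_mem_cons.2 ⟨chk61, List.forall_mem_cons.2 ⟨chk62, fun _ h => absurd h List.not_mem_nil⟩⟩⟩⟩⟩⟩⟩⟩⟩⟩⟩⟩⟩⟩⟩⟩⟩⟩⟩⟩⟩⟩⟩⟩⟩⟩⟩⟩⟩⟩⟩⟩⟩⟩⟩

theorem goodIso_of_isIso {L : ℕ} (h : isIso L = true) :
    goodIso (pk6 (col L 0) (col L 1) (col L 2) (col L 3) (col L 4) (col L 5)) = true := by
  simp only [isIso, List.all_eq_true, List.mem_range, Bool.and_eq_true, beq_iff_eq, Bool.not_eq_true'] at h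
  have hc := col_lt L
  have hsing : ∀ v : Fin 64, qf v = false → inMask singMask v = true := by decide +kernel
  have hcut : ∀ m v u : ℕ, ∀ b : Bool, m < 2 ^ 64 → v < 64 → u < 64 → inMask m v = true → bf v u = b →
      inMask (cut m u b) v = true := by
    have hrow : ∀ u : Fin 64, ∀ v : Fin 64, Nat.testBit (row u) v = bf v u := by decide +kernel
    intro m v u b hm hv hu hmem hb
    have e : ∀ m v, inMask m v = Nat.testBit m v := fun m v => by
      show (!Nat.beq ((m >>> v) &&& 1) 0) = _
      rw [Nat.testBit, Nat.and_comm]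
      rcases Nat.mod_two_eq_zero_or_one (m >>> v) with h' | h' <;> simp only [Nat.one_and_eq_mod_two, h'] <;> rfl
    rw [e] at hmem ⊢
    have hr := hrow ⟨u, hu⟩ ⟨v, hv⟩
    simp only at hr
    subst hb
    cases hb' : bf v u
    · show Nat.testBit (m ^^^ (m &&& row u)) v = true
      rw [Nat.testBit_xor, Nat.testBit_and, hmem, hr, hb']
      rfl
    · show Nat.testBit (m &&& row u) v = true
      rw [Nat.testBit_and, hmem, hr, hb']
      rfl
  have cutlt : ∀ m u : ℕ, ∀ b : Bool, m < 2 ^ 64 → cut m u b < 2 ^ 64 := fun m u b hm => by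
    cases b
    · exact Nat.xor_lt_two_pow hm (lt_of_le_of_lt Nat.and_le_left hm)
    · exact lt_of_le_of_lt Nat.and_le_left hm
  have hq : ∀ i, i < 6 → qf (col L i) = false := fun i hi => (h i hi).1
  have hbf : ∀ i j, i < 6 → j < i → bf (col L i) (col L j) = bf (2 ^ i) (2 ^ j) := fun i j hi hj => (h i hi).2 j hj
  have s0 : singMask < 2 ^ 64 := by decide
  have base : ∀ i, i < 6 → inMask singMask (col L i) = true := fun i hi => hsing ⟨_, hc i⟩ (hq i hi)
  have hne : ∀ u : ℕ, u = 0 → bf (col L 3) u = false := fun u e => by subst e; simp [bf, par3]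
  have ha0 : col L 0 ≠ 0 := fun e => by
    have h3 := hbf 3 0 (by norm_num) (by norm_num)
    rw [hne _ e] at h3
    exact absurd h3 (by decide)
  have hall : chkFrom (col L 0) = true := by
    have hlist : ∀ v : Fin 64, (v : ℕ) ≠ 0 → qf v = false → (v : ℕ) ∈ [1, 2, 3, 4, 5, 6, 7, 8, 10, 12, 14, 16, 17, 20, 21, 24, 27, 28, 31, 32, 33, 34, 35, 40, 42, 45, 47, 48, 49, 54, 55, 56, 59, 61, 62] := by
      decide +kernel
    have := hlist ⟨_, hc 0⟩ ha0 (hq 0 (by norm_num))
    simp only at this
    exact chk_all _ this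
  have hex : ∀ {m : ℕ} {P : ℕ → Bool} {v : ℕ}, v < 64 → allIn m P = true → inMask m v = true → P v = true := by
    intro m P v hv hP hm
    rw [allIn, List.all_eq_true] at hP
    have hv64 : ∀ v : Fin 64, (v : ℕ) ∈ v64 := by decide +kernel
    have := hP v (hv64 ⟨v, hv⟩)
    simpa [hm] using this
  have hb : ∀ {m i j : ℕ} {b : Bool}, m < 2 ^ 64 → i < 6 → j < i → bf (2 ^ i) (2 ^ j) = b →
      inMask m (col L i) = true → inMask (cut m (col L j) b) (col L i) = true :=
    fun hm hi hj e hmem => hcut _ _ _ _ hm (hc _) (hc _) hmem ((hbf _ _ hi hj).trans e)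
  have l1 := cutlt singMask (col L 0) false s0
  have m1 := hb (b := false) s0 (by norm_num : 1 < 6) (by norm_num : 0 < 1) (by decide) (base 1 (by norm_num))
  have m2 := hb (b := false) l1 (by norm_num : 2 < 6) (by norm_num : 1 < 2) (by decide)
    (hb (b := false) s0 (by norm_num : 2 < 6) (by norm_num : 0 < 2) (by decide) (base 2 (by norm_num)))
  have l3 := cutlt singMask (col L 0) true s0
  have m3 := hb (b := false) (cutlt _ (col L 1) false l3) (by norm_num : 3 < 6) (by norm_num : 2 < 3) (by decide)
    (hb (b := false) l3 (by norm_num : 3 < 6) (by norm_num : 1 < 3) (by decide)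
      (hb (b := true) s0 (by norm_num : 3 < 6) (by norm_num : 0 < 3) (by decide) (base 3 (by norm_num))))
  have l41 := cutlt _ (col L 1) true l1
  have m4 := hb (b := false) (cutlt _ (col L 2) false l41) (by norm_num : 4 < 6) (by norm_num : 3 < 4) (by decide)
    (hb (b := false) l41 (by norm_num : 4 < 6) (by norm_num : 2 < 4) (by decide)
      (hb (b := true) l1 (by norm_num : 4 < 6) (by norm_num : 1 < 4) (by decide)
        (hb (b := false) s0 (by norm_num : 4 < 6) (by norm_num : 0 < 4) (by decide) (base 4 (by norm_num)))))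
  have l51 := cutlt _ (col L 1) false l1
  have l52 := cutlt _ (col L 2) true l51
  have m5 := hb (b := false) (cutlt _ (col L 3) false l52) (by norm_num : 5 < 6) (by norm_num : 4 < 5) (by decide)
    (hb (b := false) l52 (by norm_num : 5 < 6) (by norm_num : 3 < 5) (by decide)
      (hb (b := true) l51 (by norm_num : 5 < 6) (by norm_num : 2 < 5) (by decide)
        (hb (b := false) l1 (by norm_num : 5 < 6) (by norm_num : 1 < 5) (by decide)
          (hb (b := false) s0 (by norm_num : 5 < 6) (by norm_num : 0 < 5) (by decide) (base 5 (by norm_num))))))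
  simp only [chkFrom] at hall
  exact hex (P := fun f => goodIso (pk6 (col L 0) (col L 1) (col L 2) (col L 3) (col L 4) f)) (hc 5)
    (hex (P := fun e => allIn _ fun f => goodIso (pk6 (col L 0) (col L 1) (col L 2) (col L 3) e f)) (hc 4)
      (hex (P := fun d => allIn _ fun e => allIn _ fun f => goodIso (pk6 (col L 0) (col L 1) (col L 2) d e f)) (hc 3)
        (hex (P := fun c => allIn _ fun d => allIn _ fun e => allIn _ fun f => goodIso (pk6 (col L 0) (col L 1) c d e f)) (hc 2)
          (hex (hc 1) hall m1) m2) m3) m4) m5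

section Setting

variable {H : Type*} [Group H] {Q : Subgroup H} {z : H} {x w : Fin 3 → H} (st : Setting Q z x w)
include st

theorem Setting.lin_cols (g : H) :
    pk6 (col (st.lin g) 0) (col (st.lin g) 1) (col (st.lin g) 2) (col (st.lin g) 3) (col (st.lin g) 4)
      (col (st.lin g) 5) = st.lin g := by
  simp only [st.col_lin g 0, show (col (st.lin g) 0) = _ from st.col_lin g 0,
    show (col (st.lin g) 1) = _ from st.col_lin g 1, show (col (st.lin g) 2) = _ from st.col_lin g 2,
    show (col (st.lin g) 3) = _ from st.col_lin g 3, show (col (st.lin g) 4) = _ from st.col_lin g 4,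
    show (col (st.lin g) 5) = _ from st.col_lin g 5]
  rfl

theorem Setting.goodIso_lin (g : H) : goodIso (st.lin g) = true := by
  rw [← st.lin_cols g]; exact goodIso_of_isIso (st.isIso_lin g)

theorem Setting.app_lin_mul (g h : H) (u : Fin 64) :
    app (st.lin (g * h)) u = app (st.lin g) (app (st.lin h) u) := by
  have hu : ∀ u : Fin 64, (u : ℕ) &&& 63 = u := by decide
  have h1 := st.app_lin (g * h) ⟨u, by omega⟩
  have h2 := st.app_lin h ⟨u, by omega⟩
  have h3 := st.app_lin g (st.cj h u)
  simp only [hu] at h1 h2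
  rw [h1, h2, h3, st.cj_comp g h ⟨u, by omega⟩]

/-- The new first half. -/
def newX (z : H) (x w : Fin 3 → H) (c : ℕ) : Fin 3 → H := fun i => theta z x w (col c i)

/-- The new second half. -/
def newW (z : H) (x w : Fin 3 → H) (c : ℕ) : Fin 3 → H := fun i => theta z x w (col c (3 + (i : ℕ)))

theorem Setting.theta_sq {u : ℕ} (hu : u < 64) (hq : qf u = false) :
    theta z x w u * theta z x w u = 1 := by
  have h := mulQ_self ⟨u, by omega⟩
  have hm : u &&& 63 = u := by
    rw [show (63 : ℕ) = 2 ^ 6 - 1 from rfl, Nat.and_two_pow_sub_one_eq_mod]; exact Nat.mod_eq_of_lt hu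
  simp only [hm, hq, cond_false] at h
  have := st.frame.theta_mul ⟨u, by omega⟩ ⟨u, by omega⟩
  simp only [h, st.frame.theta_zero] at this
  exact this.symm

theorem Setting.theta_comm {u v : ℕ} (hu : u < 64) (hv : v < 64) :
    theta z x w u * theta z x w v = theta z x w v * theta z x w u * (bif bf u v then z else 1) := by
  have h := mulQ_comm ⟨u, by omega⟩ ⟨v, by omega⟩
  have hm : ∀ u < 64, u &&& 63 = u := fun u hu => by
    rw [show (63 : ℕ) = 2 ^ 6 - 1 from rfl, Nat.and_two_pow_sub_one_eq_mod]; exact Nat.mod_eq_of_lt hu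
  simp only [hm u hu, hm v hv] at h
  have e1 := st.frame.theta_mul ⟨u, by omega⟩ ⟨v, by omega⟩
  have e2 := st.frame.theta_mul ⟨v, by omega⟩ ⟨u, by omega⟩
  have e3 := st.frame.theta_mul ⟨mulQ v u, mulQ_lt ⟨v, by omega⟩ ⟨u, by omega⟩⟩
    ⟨bif bf u v then 64 else 0, by cases bf u v <;> simp⟩
  simp only at e1 e2 e3
  rw [h, e3, e2] at e1
  rw [← e1]
  cases bf u v <;> simp [st.frame.theta_z, st.frame.theta_zero]

theorem Setting.new_setting [Finite H] {c : ℕ} (hc : isIso c = true) :
    Setting Q z (newX z x w c) (newW z x w c) ∧ ∀ n : Fin 128, ∃ k : Fin 128,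
      theta z (newX z x w c) (newW z x w c) n = theta z x w k ∧ (k &&& 63 : ℕ) = app c (n &&& 63 : ℕ) := by
  simp only [isIso, List.all_eq_true, List.mem_range, Bool.and_eq_true, beq_iff_eq, Bool.not_eq_true'] at hc
  have hcl := col_lt c
  have hq : ∀ i, i < 6 → qf (col c i) = false := fun i hi => (hc i hi).1
  have hb : ∀ i j, i < 6 → j < 6 → i ≠ j → bf (col c i) (col c j) = bf (2 ^ i) (2 ^ j) := by
    have hsymm : ∀ u v, bf u v = bf v u := fun u v => Bool.xor_comm _ _
    intro i j hi hj hne
    rcases Nat.lt_or_gt_of_ne hne with h | h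
    · rw [hsymm, (hc j hj).2 i h, hsymm]
    · exact (hc i hi).2 j h
  have hcomm : ∀ i j, i < 6 → j < 6 → bf (2 ^ i) (2 ^ j) = false →
      theta z x w (col c i) * theta z x w (col c j) = theta z x w (col c j) * theta z x w (col c i) := by
    intro i j hi hj e
    rcases eq_or_ne i j with rfl | hne
    · rfl
    · rw [st.theta_comm (hcl _) (hcl _), hb i j hi hj hne, e, cond_false, mul_one]
  have d1 : ∀ i j : Fin 3, bf (2 ^ (i : ℕ)) (2 ^ (j : ℕ)) = false ∧
      bf (2 ^ (3 + (i : ℕ))) (2 ^ (3 + (j : ℕ))) = false ∧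
      bf (2 ^ (3 + (i : ℕ))) (2 ^ (j : ℕ)) = decide (i = j) := by decide +kernel
  have fr : Frame z (newX z x w c) (newW z x w c) := by
    refine ⟨st.frame.zsq, st.frame.zne, st.frame.zc, fun i => st.theta_sq (hcl _) (hq _ (by omega)),
      fun i => st.theta_sq (hcl _) (hq _ (by omega)), fun i j => hcomm _ _ (by omega) (by omega) (d1 i j).1,
      fun i j => hcomm _ _ (by omega) (by omega) (d1 i j).2.1, fun i j => ?_⟩
    show theta z x w (col c (3 + (i : ℕ))) * theta z x w (col c j) = _
    rw [st.theta_comm (hcl _) (hcl _), hb _ _ (by omega) (by omega) (by omega), (d1 i j).2.2]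
    rfl
  have hrel : ∀ n : Fin 128, ∃ k : Fin 128,
      theta z (newX z x w c) (newW z x w c) n = theta z x w k ∧ (k &&& 63 : ℕ) = app c (n &&& 63 : ℕ) := by
    intro n
    induction hn : (n : ℕ) using Nat.strong_induction_on generalizing n with
    | _ v ih =>
      subst hn
      rcases Nat.eq_zero_or_pos (n : ℕ) with h | h
      · exact ⟨0, by rw [h, fr.theta_zero]; exact st.frame.theta_zero.symm, by rw [h]; simp [app]⟩
      · obtain ⟨k, m, hlt, e⟩ := mulQ_pred n h.ne'
        obtain ⟨km, hkm, hkm'⟩ := ih m hlt m rfl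
        obtain ⟨kk, hkk, hkk'⟩ : ∃ kk : Fin 128, theta z (newX z x w c) (newW z x w c) (2 ^ (k : ℕ)) = theta z x w kk ∧
            (kk &&& 63 : ℕ) = app c (if (k : ℕ) < 6 then 2 ^ (k : ℕ) else 0) := by
          rcases (by omega : (k : ℕ) < 6 ∨ (k : ℕ) = 6) with hk | hk
          · refine ⟨⟨col c k, by have := hcl k; omega⟩, ?_, ?_⟩
            · rw [fr.theta_pow k]
              obtain ⟨k, hk7⟩ := k
              simp only at hk
              interval_cases k <;> rfl
            · rw [if_pos hk, app_pow c ⟨k, hk⟩]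
              show col c k &&& 63 = _
              rw [show (63 : ℕ) = 2 ^ 6 - 1 from rfl, Nat.and_two_pow_sub_one_eq_mod]
              exact Nat.mod_eq_of_lt (hcl _)
          · refine ⟨64, ?_, ?_⟩
            · rw [hk, show (2 : ℕ) ^ 6 = 64 from rfl, fr.theta_z]
              exact st.frame.theta_z.symm
            · rw [if_neg (by omega)]
              simp [app]
        refine ⟨⟨mulQ km kk, mulQ_lt km kk⟩, ?_, ?_⟩
        · rw [← e, fr.theta_mul_gen m k, hkm, hkk]
          exact (st.frame.theta_mul km kk).symm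
        · show mulQ km kk &&& 63 = _
          rw [mulQ_low, hkm', hkk', ← e, low_step m k, app_xor]
  refine ⟨⟨fr, st.normal, fun n => ?_, fun q hq' => ?_, st.cent⟩, hrel⟩
  · obtain ⟨k, hk, -⟩ := hrel n; rw [hk]; exact st.mem k
  · let f : Fin 128 → Fin 128 := fun n => (hrel n).choose
    have hinj : Function.Injective f := fun a b hab => fr.theta_inj a b (by
      rw [(hrel a).choose_spec.1, (hrel b).choose_spec.1]
      exact congrArg (fun k : Fin 128 => theta z x w k) hab)
    obtain ⟨k, hk⟩ := st.surj q hq'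
    obtain ⟨n, hn⟩ := Finite.surjective_of_injective hinj k
    exact ⟨n, by rw [(hrel n).choose_spec.1, ← hk, ← hn]⟩

set_option maxHeartbeats 1000000 in
theorem Setting.app_inj {c : ℕ} {x' w' : Fin 3 → H} (st' : Setting Q z x' w')
    (hrel : ∀ n : Fin 128, ∃ k : Fin 128, theta z x' w' n = theta z x w k ∧ (k &&& 63 : ℕ) = app c (n &&& 63 : ℕ))
    {u v : ℕ} (hu : u < 64) (hv : v < 64) (h : app c u = app c v) : u = v := by
  have hm : ∀ u < 64, u &&& 63 = u := fun u hu => by
    rw [show (63 : ℕ) = 2 ^ 6 - 1 from rfl, Nat.and_two_pow_sub_one_eq_mod]; exact Nat.mod_eq_of_lt hu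
  obtain ⟨a, ha, ha'⟩ := hrel ⟨u, by omega⟩
  obtain ⟨b, hb, hb'⟩ := hrel ⟨v, by omega⟩
  simp only [hm u hu, hm v hv] at ha' hb'
  have hsplit : ∀ a b : Fin 128, (a : ℕ) &&& 63 = (b : ℕ) &&& 63 → a = b ∨ (a : ℕ) = mulQ b 64 := by decide +kernel
  rcases hsplit a b (by rw [ha', hb', h]) with e | e
  · exact congrArg Fin.val (st'.frame.theta_inj ⟨u, by omega⟩ ⟨v, by omega⟩ (by rw [ha, hb, e]))
  · have e2 := st.frame.theta_mul b (64 : Fin 128)
    have hv64 : mulQ v 64 < 128 := mulQ_lt ⟨v, by omega⟩ 64
    have h2 : theta z x' w' u = theta z x' w' (mulQ v 64) := by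
      have e3 := st'.frame.theta_mul ⟨v, by omega⟩ (64 : Fin 128)
      simp only [show ((64 : Fin 128) : ℕ) = 64 from rfl, st.frame.theta_z] at e2
      simp only [show ((64 : Fin 128) : ℕ) = 64 from rfl, st'.frame.theta_z] at e3
      simp only at ha hb
      rw [ha, e, e2, e3, hb]
    have h3 := congrArg Fin.val (st'.frame.theta_inj ⟨u, by omega⟩ ⟨_, hv64⟩ h2)
    have h4 : ∀ v : Fin 128, mulQ v 64 &&& 63 = (v : ℕ) &&& 63 := by decide +kernel
    have h5 := h4 ⟨v, by omega⟩
    simp only at h3 h5
    rwa [← h3, hm u hu, hm v hv] at h5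

theorem Setting.lin_change {c : ℕ} {x' w' : Fin 3 → H} (st' : Setting Q z x' w')
    (hrel : ∀ n : Fin 128, ∃ k : Fin 128, theta z x' w' n = theta z x w k ∧ (k &&& 63 : ℕ) = app c (n &&& 63 : ℕ))
    (g : H) (i : Fin 6) : app c (col (st'.lin g) i) = app (st.lin g) (col c i) := by
  have h2 : ∀ i : Fin 6, 2 ^ (i : ℕ) < 128 ∧ 2 ^ (i : ℕ) &&& 63 = 2 ^ (i : ℕ) := by decide
  obtain ⟨a, ha, ha'⟩ := hrel ⟨2 ^ (i : ℕ), (h2 i).1⟩
  obtain ⟨b, hb, hb'⟩ := hrel (st'.cj g (2 ^ (i : ℕ)))
  simp only [(h2 i).2, app_pow] at ha'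
  have e := st'.cj_spec g ⟨2 ^ (i : ℕ), (h2 i).1⟩
  rw [ha, hb] at e
  rw [st'.col_lin, ← hb', ← ha', st.app_lin, st.cj_unique e]

end Setting

/-- The chosen image. -/
def imX (b : Bool) : List ℕ := bif b then imU else imS

theorem imX_nodup : ∀ b, (imX b).Nodup ∧ (imX b).length = 168 := by decide +kernel

/-- The two images in pieces of fourteen. -/
def pieces (b : Bool) : List (List ℕ) :=
  bif b then [[8866962076, 8868944020, 8871089036, 8873070980, 9000990876, 9003268756, 9005396364, 9007379332, 9131201290, 9133109506, 9139462058, 9141632418, 9265303818, 9267507970], [9273638314, 9275957154, 9399572286, 9401759030, 9403699854, 9405755526, 9533674814, 9535862582, 9537990798, 9540194950, 17322616924, 17324745044, 17326697548, 17328825668], [17591024732, 17593234772, 17595299916, 17597215044, 17718977793, 17723142417, 17727236961, 17731665777, 17853228845, 17857475389, 17859354693, 17863668821, 17987297537, 17991660817], [17995792225, 18000079729, 18121548589, 18125698877, 18128024645, 18132197461, 25912583900,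 25914650068, 25916664780, 25918726340, 26046763228, 26048748500, 26051026380, 26053007044], [26308945211, 26311004963, 26317203419, 26319262147, 26443130655, 26445107463, 26449325815, 26455759087, 26577264927, 26579506951, 26583505143, 26590047983, 26711450427, 26713609507], [26719998427, 26722166723, 34498167882, 34500298946, 34506763370, 34508890338, 34630287489, 34634550993, 34638911649, 34643039985, 34764538555, 34766667875, 34772908699, 34775103555], [35035274314, 35037147330, 35043603562, 35045595362, 35167365249, 35171464913, 35175723169, 35179753201, 35301616315, 35303643235, 35309834907, 35311870019, 43088138058, 43090198978], [43096730602, 43098793314, 43220254893, 43224516605, 43226569349, 43230698965, 43354440351, 43356638023, 43360860343, 43367248239, 43490809162, 43492981698, 43499327978, 43501240162], [43757332639, 43759178055, 43763569335, 43769719663, 43891518125, 43895733757, 43897598085, 43901839317, 51678102654, 51680231926, 51682224206, 51684355526, 51810225537, 51814352849], [51818716129,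 51822973361, 51944476575, 51946471495, 51950894199, 51957085103, 52078584193, 52083014609, 52087105505, 52091272625, 52212835231, 52215077959, 52219224183, 52225400751], [52483577982, 52485570038, 52487631950, 52489638342, 60268072830, 60270135542, 60272191182, 60274254150, 60400192941, 60404322045, 60406370501, 60410631061, 60534378427, 60536441699], [60542809435, 60544807299, 60668551611, 60670612835, 60677073755, 60679135107, 60802737069, 60807049469, 60809195205, 60813442453, 60939112830, 60941170422, 60943374542, 60945563462]] else [[8866762884, 8868876420, 8870957444, 8873070980, 9000988804, 9003102340, 9005199748, 9007280516, 9131004162, 9133109506, 9139392898, 9141498242, 9265238274, 9267343618], [9273635202, 9275724162, 9399439622, 9401561350, 9403633798, 9405755526, 9533673734, 9535762694, 9537859718, 9539965062, 17322483780, 17324581188, 17326694468, 17328791876], [17590923332, 17593037124, 17595134020, 17597215044, 17718845697, 17723044097, 17727234369, 17731432769, 17853063429, 17857278213, 17859354693,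 17863569477, 17987297537, 17991495937], [17995690305, 17999880513, 18121515269, 18125697285, 18127794245, 18132000837, 25912418500, 25914515908, 25916629444, 25918726340, 26046632132, 26048745924, 26050826692, 26052939972], [26308780291, 26310873347, 26317169091, 26319262147, 26442998023, 26445107463, 26449289415, 26455593159, 26577232135, 26579308807, 26583503047, 26589814983, 26711449859, 26713542915], [26719834563, 26721935811, 34498166850, 34500264130, 34506563650, 34508660930, 34630287489, 34634481857, 34638680193, 34642874561, 34764505219, 34766602307, 34772906115, 34775003203], [35035041858, 35037147330, 35043438658, 35045527746, 35167166593, 35171365057, 35175559297, 35179749569, 35301384323, 35303477315, 35309768835, 35311870019, 43088101698, 43090198978], [43096498626, 43098595650, 43220222085, 43224416709, 43226501253, 43230695877, 43354439815, 43356537159, 43360727175, 43367018823, 43490742594, 43492848066, 43499131330, 43501236546], [43757101191, 43759178055, 43763372167, 43769684295, 43891318917,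 43895501253, 43897598085, 43901804997, 51678036038, 51680133574, 51682222150, 51684319686, 51810156929, 51814351297], [51818549697, 51822743937, 51944374663, 51946471495, 51950661703, 51956953479, 52078584193, 52082782657, 52086972865, 52091171201, 52212801927, 52214911047, 52219093063, 52225397127], [52483346502, 52485435846, 52487532614, 52489638342, 60267970886, 60270067910, 60272156870, 60274254150, 60400091525, 60404285637, 60406370501, 60410564997, 60534309251, 60536406339], [60542710083, 60544807299, 60668518787, 60670611779, 60676907331, 60679000451, 60802736517, 60806951109, 60809027781, 60813242757, 60939047238, 60941168838, 60943241414, 60945363270]]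

theorem pieces_flatten : ∀ b, (pieces b).flatten = imX b := by decide +kernel

/-- Membership in an increasing list of increasing pieces. -/
def inPieces : List (List ℕ) → ℕ → Bool
  | [], _ => false
  | l :: ls, p => bif Nat.ble p (l.getD 13 0) then l.any (fun q => Nat.beq q p) else inPieces ls p

theorem mem_of_inPieces : ∀ {ls : List (List ℕ)} {p : ℕ}, inPieces ls p = true → p ∈ ls.flatten
  | [], p, h => by simp [inPieces] at h
  | l :: ls, p, h => by
    simp only [inPieces] at h
    cases hb : Nat.ble p (l.getD 13 0) <;> rw [hb] at h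
    · exact List.mem_append_right _ (mem_of_inPieces h)
    · simp only [cond_true, List.any_eq_true, Nat.beq_eq] at h
      obtain ⟨q, hq, rfl⟩ := h
      exact List.mem_append_left _ hq

theorem closedS : (imX false).all (fun p => (imX false).all fun q => inPieces (pieces false) (comp p q)) = true := by
  decide +kernel

theorem closedU : (imX true).all (fun p => (imX true).all fun q => inPieces (pieces true) (comp p q)) = true := by
  decide +kernel

theorem imX_closed {b : Bool} {p q : ℕ} (hp : p ∈ imX b) (hq : q ∈ imX b) : comp p q ∈ imX b := by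
  have h : inPieces (pieces b) (comp p q) = true := by
    cases b
    · exact List.all_eq_true.1 (List.all_eq_true.1 closedS p hp) q hq
    · exact List.all_eq_true.1 (List.all_eq_true.1 closedU p hp) q hq
  rw [← pieces_flatten b]
  exact mem_of_inPieces h

theorem imX_one : ∀ b, one6 ∈ imX b := by decide +kernel

theorem sols_ok : sols.all (fun e => isIso e.2.1 &&
    (List.range 64).all (fun u => Nat.beq (app e.2.2.1 (app e.2.1 u)) u) &&
    (imX e.2.2.2).contains (comp e.2.2.1 (comp s7 e.2.1)) &&
    (imX e.2.2.2).contains (comp e.2.2.1 (comp e.1 e.2.1))) = true := by decide +kernel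

theorem col_one6 : ∀ i : Fin 6, col one6 i = 2 ^ (i : ℕ) := by decide

theorem pk6_cols {L : ℕ} (h : L < 2 ^ 36) : pk6 (col L 0) (col L 1) (col L 2) (col L 3) (col L 4) (col L 5) = L := by
  simp only [col, pk6, Nat.shiftRight_eq_div_pow, show (63 : ℕ) = 2 ^ 6 - 1 from rfl, Nat.and_two_pow_sub_one_eq_mod]
  norm_num
  omega

theorem pk6_lt {a b c d e f : ℕ} (ha : a < 64) (hb : b < 64) (hc : c < 64) (hd : d < 64) (he : e < 64)
    (hf : f < 64) : pk6 a b c d e f < 2 ^ 36 := by
  unfold pk6; norm_num; omega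

theorem comp_lt (L M : ℕ) : comp L M < 2 ^ 36 :=
  pk6_lt (app_lt _ _) (app_lt _ _) (app_lt _ _) (app_lt _ _) (app_lt _ _) (app_lt _ _)

theorem eq_of_cols {L M : ℕ} (hL : L < 2 ^ 36) (hM : M < 2 ^ 36) (h : ∀ i : Fin 6, col L i = col M i) : L = M := by
  rw [← pk6_cols hL, ← pk6_cols hM]
  rw [show col L 0 = _ from h 0, show col L 1 = _ from h 1, show col L 2 = _ from h 2, show col L 3 = _ from h 3,
    show col L 4 = _ from h 4, show col L 5 = _ from h 5]
  rfl

theorem col_comp (L M : ℕ) (i : Fin 6) : col (comp L M) i = app L (col M i) := by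
  rw [comp, col_pk6 (app_lt _ _) (app_lt _ _) (app_lt _ _) (app_lt _ _) (app_lt _ _) (app_lt _ _)]
  fin_cases i <;> rfl

theorem lin_lt {H : Type*} [Group H] {Q : Subgroup H} {z : H} {x w : Fin 3 → H} (st : Setting Q z x w) (g : H) :
    st.lin g < 2 ^ 36 := by
  have h : ∀ n : ℕ, n &&& 63 < 64 := fun n => lt_of_le_of_lt Nat.and_le_right (by norm_num)
  exact pk6_lt (h _) (h _) (h _) (h _) (h _) (h _)

theorem exists_image {H : Type*} [Group H] [Finite H] {Q : Subgroup H} [Q.Normal] {z : H} {x0 w0 : Fin 3 → H}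
    (st0 : Setting Q z x0 w0) (e : H ⧸ Q ≃* SL3) :
    ∃ (b : Bool) (x w : Fin 3 → H) (st : Setting Q z x w),
      (∀ g, st.lin g ∈ imX b) ∧ ∀ p ∈ imX b, ∃ g, st.lin g = p := by
  obtain ⟨σ, hσ⟩ := QuotientGroup.mk_surjective (e.symm s3)
  obtain ⟨τ, hτ⟩ := QuotientGroup.mk_surjective (e.symm t3)
  have key : ∀ g : H, e (g : H ⧸ Q) = 1 → g ∈ Q := fun g hg => by
    rw [MulEquiv.map_eq_one_iff] at hg
    exact (QuotientGroup.eq_one_iff g).1 hg
  have es : e (σ : H ⧸ Q) = s3 := by rw [hσ, e.apply_symm_apply]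
  have et : e (τ : H ⧸ Q) = t3 := by rw [hτ, e.apply_symm_apply]
  have hs7 : σ ^ 7 ∈ Q := key _ (by rw [QuotientGroup.mk_pow, map_pow, es, s3_pow])
  have hs1 : σ ∉ Q := fun h => s3_ne (by rw [← es, (QuotientGroup.eq_one_iff σ).2 h, map_one])
  have ht1 : τ ∉ Q := fun h => t3_ne (by rw [← et, (QuotientGroup.eq_one_iff τ).2 h, map_one])
  -- the element of order seven
  obtain ⟨x1, w1, st1, hS⟩ : ∃ (x1 w1 : Fin 3 → H) (st1 : Setting Q z x1 w1), st1.lin σ = s7 := by
    have hord : ord7 (st0.lin σ) = true := by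
      have h7 : ∀ u : Fin 64, fix7 (st0.lin σ) u = true := fun u => by
        have hc : ∀ k : ℕ, ∀ u : Fin 64, app (st0.lin (σ ^ (k + 1))) u = (app (st0.lin σ))^[k + 1] u := by
          intro k
          induction k with
          | zero => intro u; simp
          | succ k ih =>
            intro u
            rw [pow_succ', st0.app_lin_mul, ih u, Function.iterate_succ_apply' _ (k + 1)]
        have h6 := hc 6 u
        rw [st0.lin_mem hs7] at h6
        have h1 : ∀ u : Fin 64, app one6 u = u := by decide +kernel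
        rw [h1 u] at h6
        show Nat.beq _ _ = true
        rw [Nat.beq_eq]
        exact h6.symm
      have hne : Nat.beq (st0.lin σ) one6 = false := by
        rw [← Bool.not_eq_true, Nat.beq_eq]
        exact fun h => hs1 (st0.mem_of_lin h)
      simp only [ord7, hne, Bool.not_false, Bool.and_true, Bool.and_eq_true]
      exact ⟨⟨⟨⟨⟨h7 1, h7 2⟩, h7 4⟩, h7 8⟩, h7 16⟩, h7 32⟩
    have hg := st0.goodIso_lin σ
    simp only [goodIso, hord, Bool.not_true, Bool.false_or, Bool.and_eq_true, List.any_eq_true] at hg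
    obtain ⟨⟨u, -, hu⟩, -⟩ := hg
    simp only [frameAt, Bool.and_eq_true, Nat.beq_eq] at hu
    obtain ⟨⟨-, hiso⟩, hcomp⟩ := hu
    obtain ⟨st1, hrel⟩ := st0.new_setting hiso
    refine ⟨_, _, st1, eq_of_cols (lin_lt st1 σ) (by decide) fun i => ?_⟩
    refine st0.app_inj st1 hrel (col_lt _ _) (col_lt _ _) ?_
    rw [st0.lin_change st1 hrel, ← col_comp, ← col_comp, hcomp]
  -- the involution
  have hrel7 : rel7 (st1.lin τ) = true := by
    have h1 : st1.lin (τ * τ) = one6 := st1.lin_mem (key _ (by rw [QuotientGroup.mk_mul, map_mul, et, t3_sq]))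
    rw [st1.lin_mul] at h1
    have h3 : st1.lin (σ * τ * (σ * τ * (σ * τ))) = one6 := st1.lin_mem (key _ (by
      simp only [QuotientGroup.mk_mul, map_mul, es, et, st3_pow]))
    have h4 : st1.lin (σ ^ 6 * τ * (σ * τ) * (σ ^ 6 * τ * (σ * τ)) *
        (σ ^ 6 * τ * (σ * τ) * (σ ^ 6 * τ * (σ * τ)))) = one6 := st1.lin_mem (key _ (by
      simp only [QuotientGroup.mk_mul, QuotientGroup.mk_pow, map_mul, map_pow, es, et, comm3_pow]))
    have h6 : st1.lin (σ ^ 6) = s7i := by
      have hd : comp s7 (comp s7 (comp s7 (comp s7 (comp s7 (comp s7 one6))))) = s7i := by decide +kernel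
      simp only [pow_succ', pow_zero, st1.lin_mul, hS, st1.lin_one, hd]
    simp only [st1.lin_mul, hS] at h3
    simp only [st1.lin_mul, hS, h6] at h4
    have hne : Nat.beq (st1.lin τ) one6 = false := by
      rw [← Bool.not_eq_true, Nat.beq_eq]
      exact fun h => ht1 (st1.mem_of_lin h)
    have h0 : app (st1.lin τ) (col (st1.lin τ) 0) = 1 := by
      have h := col_comp (st1.lin τ) (st1.lin τ) 0
      rw [h1] at h
      exact h.symm.trans (col_one6 0)
    simp only [rel7, hne, h0, h1, h3, h4, Bool.not_false, Bool.and_true, Bool.and_eq_true, Nat.beq_eq, and_self]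
  have hmem := st1.goodIso_lin τ
  simp only [goodIso, hrel7, Bool.not_true, Bool.false_or, Bool.and_eq_true, List.contains_iff_mem,
    List.mem_map] at hmem
  obtain ⟨-, ⟨t0, c, ci, b⟩, hin, ht0⟩ := hmem
  simp only at ht0
  have hok := List.all_eq_true.1 sols_ok _ hin
  simp only [Bool.and_eq_true, List.all_eq_true, List.mem_range, Nat.beq_eq, List.contains_iff_mem] at hok
  obtain ⟨⟨⟨hiso, hci⟩, hsX⟩, htX⟩ := hok
  obtain ⟨st, hrel⟩ := st1.new_setting hiso
  have hlin : ∀ g, st.lin g = comp ci (comp (st1.lin g) c) := fun g =>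
    eq_of_cols (lin_lt st g) (comp_lt _ _) fun i => by
      rw [col_comp, col_comp, ← st1.lin_change st hrel, hci _ (col_lt _ _)]
  have hmemX : ∀ g, st.lin g ∈ imX b := by
    let K : Submonoid H :=
      { carrier := {g | st.lin g ∈ imX b}
        one_mem' := by
          rw [Set.mem_setOf_eq, st.lin_one]; exact imX_one b
        mul_mem' := fun {p q} hp hq => by
          rw [Set.mem_setOf_eq, st.lin_mul]
          exact imX_closed hp hq }
    let K' : Subgroup H :=
      { carrier := K
        one_mem' := K.one_mem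
        mul_mem' := fun hp hq => K.mul_mem hp hq
        inv_mem' := fun {g} hg => by
          have h1 : g ^ (orderOf g - 1) * g = 1 := by
            rw [← pow_succ, Nat.sub_add_cancel (orderOf_pos g), pow_orderOf_eq_one]
          rw [← eq_inv_of_mul_eq_one_left h1]
          exact K.pow_mem hg _ }
    have hmK : ∀ g : H, g ∈ K' ↔ st.lin g ∈ imX b := fun g => Iff.rfl
    have hQK : Q ≤ K' := fun q hq => by rw [hmK, st.lin_mem hq]; exact imX_one b
    have hσK : σ ∈ K' := by rw [hmK, hlin, hS]; exact hsX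
    have hτK : τ ∈ K' := by rw [hmK, hlin, ← ht0]; exact htX
    intro g
    have hle : Subgroup.closure ({s3, t3} : Set SL3) ≤
        (K'.map (QuotientGroup.mk' Q)).map e.toMonoidHom := by
      rw [Subgroup.closure_le]
      rintro v (rfl | rfl)
      · exact ⟨_, ⟨σ, hσK, rfl⟩, es⟩
      · exact ⟨_, ⟨τ, hτK, rfl⟩, et⟩
    rw [closure_st] at hle
    obtain ⟨_, ⟨k, hk, rfl⟩, he⟩ := hle (Subgroup.mem_top (e (g : H ⧸ Q)))
    have : k⁻¹ * g ∈ Q := QuotientGroup.eq.1 (e.injective he)
    have hg := K'.mul_mem hk (hQK this)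
    rwa [mul_inv_cancel_left] at hg
  refine ⟨b, _, _, st, hmemX, ?_⟩
  let f : H ⧸ Q → {p // p ∈ imX b} := fun v => ⟨st.lin v.out, hmemX _⟩
  have hinj : Function.Injective f := fun v v' hvv => by
    have h : st.lin v.out = st.lin v'.out := congrArg Subtype.val hvv
    rw [← QuotientGroup.out_eq' v, ← QuotientGroup.out_eq' v', QuotientGroup.eq]
    refine st.mem_of_lin ?_
    rw [st.lin_mul, ← h, ← st.lin_mul, inv_mul_cancel, st.lin_one]
  have hcard : Nat.card (H ⧸ Q) = Nat.card {p // p ∈ imX b} := by
    rw [Nat.card_congr e.toEquiv, Nat.card_eq_fintype_card, Nat.card_eq_fintype_card,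
      Fintype.card_of_subtype (imX b).toFinset (fun _ => List.mem_toFinset),
      List.toFinset_card_of_nodup (imX_nodup b).1, (imX_nodup b).2]
    decide +kernel
  intro p hp
  obtain ⟨v, hv⟩ := ((Nat.bijective_iff_injective_and_card f).2 ⟨hinj, hcard⟩).2 ⟨p, hp⟩
  exact ⟨v.out, congrArg Subtype.val hv⟩

end Cfsg.Agent.Fus.HeUniq
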