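import Cfsg.Agent.Lib.Fus.HeUniq.Fusion
import Cfsg.Agent.Lib.Fus.HeUniq.FrameExists

/-!
# The coordinates of the centralizer of the given involution
-/

set_option autoImplicit false
set_option linter.style.haveILetI false
set_option linter.unusedSectionVars false

namespace Cfsg.Agent.Fus.HeUniq

variable {G : Type*} [Group G] [Finite G] [IsSimpleGroup G]

theorem exists_local (t : G) (ht : orderOf t = 2) (Q : Subgroup (Subgroup.centralizer ({t} : Set G))) [Q.Normal]
    (hQ : Cfsg.IsExtraspecial 2 Q) (hcard : Nat.card Q = 2 ^ 7)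
    (hplus : ∃ E : Subgroup Q, Cfsg.IsElementaryAbelian 2 E ∧ Nat.card E = 2 ^ 4)
    (h2c : Subgroup.centralizer (Q : Set (Subgroup.centralizer ({t} : Set G))) ≤ Q)
    (e : (Subgroup.centralizer ({t} : Set G)) ⧸ Q ≃* Matrix.SpecialLinearGroup (Fin 3) (ZMod 2))
    (hG : Nat.card G = 4030387200)
    (htwo : ∃ x y : G, orderOf x = 2 ∧ orderOf y = 2 ∧ ¬ IsConj x y) :
    ∃ φ : CC t → ℕ, Loc t Q false false φ repsSN rootsSN invTabSN ∧
      (FusedIs t φ [0, 4, 5] ∨ FusedIs t φ [0, 1, 4, 5] ∨ FusedIs t φ [0, 2, 4, 5] ∨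
        FusedIs t φ [0, 1, 2, 4, 5]) := by
  classical
  obtain ⟨E, hE, hE4⟩ := hplus
  have hzQ : zc t ∈ Q := h2c (Subgroup.mem_centralizer_iff.2 fun q _ => (zc_comm q).symm)
  set zq : Q := ⟨zc t, hzQ⟩ with hzq
  have hzc : zq ∈ Subgroup.center Q :=
    Subgroup.mem_center_iff.2 fun q => Subtype.ext (zc_comm (q : CC t)).symm
  have hz1 : zq ≠ 1 := fun h => by
    have h2 : t = 1 := congrArg (fun q : Q => ((q : CC t) : G)) h
    rw [h2, orderOf_one] at ht; omega
  obtain ⟨x, w, fr⟩ := exists_frame hQ hcard hE hE4 hzc hz1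
  have fr' : Frame (zc t) (fun i => (x i : CC t)) (fun i => (w i : CC t)) :=
    { zsq := congrArg Subtype.val fr.zsq
      zne := fun h => hz1 (Subtype.ext h)
      zc := zc_comm
      xsq := fun i => congrArg Subtype.val (fr.xsq i)
      wsq := fun i => congrArg Subtype.val (fr.wsq i)
      xx := fun i j => congrArg Subtype.val (fr.xx i j)
      ww := fun i j => congrArg Subtype.val (fr.ww i j)
      wx := fun i j => by
        have h := congrArg Subtype.val (fr.wx i j)
        cases hb : decide (i = j) <;> simp only [hb, cond_true, cond_false, Subgroup.coe_mul, mul_one] at h ⊢ <;>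
          exact h }
  have hmap : ∀ n, theta (zc t) (fun i => (x i : CC t)) (fun i => (w i : CC t)) n =
      ((theta zq x w n : Q) : CC t) := fun n => by
    have hb : ∀ (g : Q) (c : Bool), ((bpow g c : Q) : CC t) = bpow (g : CC t) c := fun g c => by cases c <;> rfl
    simp only [theta, word, Subgroup.coe_mul, hb, hzq]
  have hinj : Function.Injective (fun n : Fin 128 => theta zq x w n) := fun n m h =>
    fr.theta_inj n m h
  have hbij := (Nat.bijective_iff_injective_and_card _).2 ⟨hinj, by rw [Nat.card_fin, hcard]; rfl⟩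
  have st : Setting Q (zc t) (fun i => (x i : CC t)) (fun i => (w i : CC t)) :=
    { frame := fr'
      normal := inferInstance
      mem := fun n => by rw [hmap]; exact (theta zq x w n).2
      surj := fun q hq => by
        obtain ⟨n, hn⟩ := hbij.2 ⟨q, hq⟩
        exact ⟨n, by rw [hmap]; exact congrArg Subtype.val hn⟩
      cent := h2c }
  obtain ⟨b, tw, φ, co⟩ := exists_coords st e
  have hC : Nat.card (CC t) = 21504 := by
    rw [← Subgroup.card_mul_index Q, Subgroup.index_eq_card, Nat.card_congr e.toEquiv, hcard, card_sl3]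
    norm_num
  cases b <;> cases tw
  · have L : Loc t Q false false φ repsSN rootsSN invTabSN :=
      ⟨hG, ht, hC, inferInstance, hcard, co, rootsSN_ok, tabSN_ok⟩
    exact ⟨φ, L, cases_SN L htwo⟩
  · exact (cases_ST ⟨hG, ht, hC, inferInstance, hcard, co, rootsST_ok, tabST_ok⟩).elim
  · exact (cases_UN ⟨hG, ht, hC, inferInstance, hcard, co, rootsUN_ok, tabUN_ok⟩ htwo).elim
  · exact (cases_UT ⟨hG, ht, hC, inferInstance, hcard, co, rootsUT_ok, tabUT_ok⟩).elim

end Cfsg.Agent.Fus.HeUniq
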