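import Cfsg.Agent.Lib.Fus.HeUniq.Gens
import Cfsg.Agent.Lib.Fus.HeUniq.DataCE
import Cfsg.Agent.Lib.Fus.HeUniq.Setup
import Cfsg.Agent.Lib.Spor.Cos.He.IsSimple

/-!
# The isomorphism with the Held group
-/

set_option autoImplicit false
set_option linter.style.haveILetI false
set_option linter.unusedSectionVars false
set_option maxRecDepth 100000

namespace Cfsg.Agent.Fus.HeUniq

open Cfsg.Agent.Spor.Cos (ev)

theorem ev_comm_word {G : Type*} [Group G] {x y : G} (hx : x * x = 1) (hy : y * y = 1) (h : x * y = y * x) :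
    x * (y * (x * y)) = 1 := by
  rw [h, ← mul_assoc y y, hy, one_mul, hx]

variable {G : Type*} [Group G] [Finite G] [IsSimpleGroup G] {z : G} {Q : Subgroup (CC z)} {φ : CC z → ℕ}
  {a0 : CC z} {a b c f g : G}

set_option maxHeartbeats 2000000 in
/-- The remaining relations, read off in the centralizer of the square of the product of two generators. -/
theorem HeGens.far (S : Sit z Q φ idsF a0) (H : HeGens z a b c f g) :
    (b * c) ^ 3 = 1 ∧ (a * b * c) ^ 3 = (f * g) ^ 2 := by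
  have ff : f * f = 1 := inv_of_ord (S.ord_of_conj S.L.z2 H.fz.symm)
  have gg : g * g = 1 := inv_of_ord (S.ord_of_conj S.L.z2 H.gz.symm)
  set e := (f * g) ^ 2 with he
  have eC : ∀ p : G, p * f = f * p → p * g = g * p → p * e = e * p := fun p h1 h2 =>
    ((Commute.mul_right h1 h2).pow_right 2).eq
  have hfi : f⁻¹ = f := inv_eq_of_mul_eq_one_right ff
  have hgi : g⁻¹ = g := inv_eq_of_mul_eq_one_right gg
  have hei : e⁻¹ = e := inv_eq_of_mul_eq_one_right (by rw [he, ← pow_add]; exact H.fg4)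
  have fe : f * e = e * f := by
    have h : f * e * f⁻¹ = e := by
      calc f * e * f⁻¹ = (g⁻¹ * f⁻¹) ^ 2 := by
            rw [he, hfi, hgi]; simp only [pow_two, ← mul_assoc, ff, one_mul]
        _ = e := by rw [← mul_inv_rev, inv_pow, hei]
    exact mul_inv_eq_iff_eq_mul.1 h
  have ge : g * e = e * g := by
    have h : g * e * g⁻¹ = e := by
      calc g * e * g⁻¹ = (g⁻¹ * f⁻¹) ^ 2 := by
            rw [he, hfi, hgi]; simp only [pow_two, mul_assoc, gg, mul_one]
        _ = e := by rw [← mul_inv_rev, inv_pow, hei]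
    exact mul_inv_eq_iff_eq_mul.1 h
  obtain ⟨k0, hk0⟩ := _root_.isConj_iff.1 H.ez
  have hcz : ∀ (k p : G), k * e * k⁻¹ = z → p * e = e * p → k * p * k⁻¹ ∈ CC z := fun k p hk hp => by
    rw [Subgroup.mem_centralizer_singleton_iff, ← hk]; exact cjg_comm k hp
  set f0 : CC z := ⟨k0 * f * k0⁻¹, hcz k0 f hk0 fe⟩
  have hf0z : IsConj (f0 : G) z := (isConj_cj_iff k0 f z).2 H.fz
  obtain ⟨hf01, hf02⟩ := S.L.conj_inv hf0z
  obtain ⟨t, ht, htw, h, r, hr, hfr⟩ := S.L.exists_rep hf01 hf02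
  have hlt := (S.L.tab_spec.2.1 t ht).1
  have hrz : IsConj (r : G) z := by
    refine IsConj.trans ?_ hf0z
    exact _root_.isConj_iff.2 ⟨(h : G), by rw [hfr]; rfl⟩
  have hfset : fSet idsF t.2.1 = true := (S.hF _ hlt).1 ⟨r, hr, hrz⟩
  set k := (h : G)⁻¹ * k0 with hk
  have hke : k * e * k⁻¹ = z := by
    rw [hk, show (h : G)⁻¹ * k0 * e * ((h : G)⁻¹ * k0)⁻¹ = (h : G)⁻¹ * (k0 * e * k0⁻¹) * h by group, hk0, mul_assoc,
      ← cc_comm h, inv_mul_cancel_left]
  have hkf : (⟨k * f * k⁻¹, hcz k f hke fe⟩ : CC z) = r := by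
    refine Subtype.ext ?_
    show k * f * k⁻¹ = r
    have h2 : k0 * f * k0⁻¹ = (h : G) * r * (h : G)⁻¹ := congrArg Subtype.val hfr
    rw [hk, show (h : G)⁻¹ * k0 * f * ((h : G)⁻¹ * k0)⁻¹ = (h : G)⁻¹ * (k0 * f * k0⁻¹) * h by group, h2]
    group
  have hmk : ∀ {p q : G} (hp : p * e = e * p) (hq : q * e = e * q) (hpq : (p * q) * e = e * (p * q)),
      φ ⟨k * (p * q) * k⁻¹, hcz k _ hke hpq⟩ =
        mulN (φ ⟨k * p * k⁻¹, hcz k _ hke hp⟩) (φ ⟨k * q * k⁻¹, hcz k _ hke hq⟩) := fun hp hq hpq => by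
    rw [← S.L.mulN_eq]
    exact congrArg φ (Subtype.ext (cjg_mul k _ _))
  have hcom : ∀ {p q : G} (hp : p * e = e * p) (hq : q * e = e * q),
      (comN (φ ⟨k * p * k⁻¹, hcz k _ hke hp⟩) (φ ⟨k * q * k⁻¹, hcz k _ hke hq⟩) = true ↔ p * q = q * p) := by
    intro p q hp hq
    rw [S.L.comN_iff, Subtype.ext_iff]
    show k * p * k⁻¹ * (k * q * k⁻¹) = k * q * k⁻¹ * (k * p * k⁻¹) ↔ _
    rw [← cjg_mul, ← cjg_mul, cjg_eq]
  have hone : ∀ {p : G} (hp : p * e = e * p), φ ⟨k * p * k⁻¹, hcz k _ hke hp⟩ = oneC → p = 1 := fun hp h1 => by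
    rw [← S.L.co.map_one] at h1
    exact conj_eq_one_iff.1 (congrArg Subtype.val (S.L.co.inj h1) :)
  have ce : c * e = e * c := eC c H.cf H.cg
  have be : b * e = e * b := eC b H.bf H.bg
  have ae : a * e = e * a := eC a H.af H.ag
  have cae : c * a * e = e * (c * a) := (Commute.mul_left ce ae :)
  have abe : a * b * e = e * (a * b) := (Commute.mul_left ae be :)
  have te : a * b * (a * b) * e = e * (a * b * (a * b)) := (Commute.mul_left abe abe :)
  have fge : f * g * e = e * (f * g) := (Commute.mul_left fe ge :)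
  have e1 : e * e = e * e := rfl
  have bce : b * c * e = e * (b * c) := (Commute.mul_left be ce :)
  have abce : a * b * c * e = e * (a * b * c) := (Commute.mul_left abe ce :)
  have hA : ∀ {p : G} (hp : p * e = e * p), AType z p → φ ⟨k * p * k⁻¹, hcz k _ hke hp⟩ ∈ invsSel idsF false := by
    intro p hp hA
    rw [S.mem_sel]
    have := hA.cj k
    exact ⟨this.1, fun h => absurd h this.2, fun h => Bool.noConfusion h⟩
  have hZ : ∀ {p : G} (hp : p * e = e * p), IsConj p z → φ ⟨k * p * k⁻¹, hcz k _ hke hp⟩ ∈ invsSel idsF true := by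
    intro p hp hZ
    rw [S.mem_sel]
    exact ⟨S.ord_of_conj S.L.z2 (hZ.symm.trans (isConj_cj k p)), fun _ => rfl, fun _ => (isConj_cj_iff k p z).2 hZ⟩
  have hd := chkCE_ok
  simp only [chkCE, List.all_eq_true, List.mem_range, Bool.or_eq_true, Bool.not_eq_true'] at hd
  rcases hd t.2.1 (lt_of_lt_of_le hlt (show repsSN.length ≤ 8 by decide)) with h' | h'
  · rw [hfset] at h'; exact Bool.noConfusion h'
  have hrf : repsSN.getD t.2.1 0 = φ ⟨k * f * k⁻¹, hcz k f hke fe⟩ := by rw [hkf, hr]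
  rw [hrf] at h'
  rcases h' _ (hZ ge H.gz) with h'' | h''
  · exfalso
    rw [← hmk fe ge fge, ← S.L.mulN_eq, show zC0 = φ (zc z) from S.L.co.map_z.symm] at h''
    simp only [← Bool.not_eq_true, Nat.beq_eq] at h''
    refine h'' (congrArg φ (Subtype.ext ?_))
    show k * (f * g) * k⁻¹ * (k * (f * g) * k⁻¹) = z
    rw [← pow_two, conj_pow, ← he, hke]
  have hP : ∀ {p : G} (hp : p * e = e * p), AType z p → p * f = f * p → p * g = g * p →
      φ ⟨k * p * k⁻¹, hcz k _ hke hp⟩ ∈ (invsSel idsF false).filter fun x =>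
        comN x (φ ⟨k * f * k⁻¹, hcz k f hke fe⟩) && comN x (φ ⟨k * g * k⁻¹, hcz k g hke ge⟩) := by
    intro p hp hp1 hpf hpg
    rw [List.mem_filter, Bool.and_eq_true, hcom hp fe, hcom hp ge]
    exact ⟨hA hp hp1, hpf, hpg⟩
  have h3 := h'' _ (hP ae H.a_at H.af H.ag) _ (hP be H.b_at H.bf H.bg) _ (hP ce H.c_at H.cf H.cg)
  simp only [chkTriple, ← hmk ae be abe, ← hmk abe abe te, ← hmk ce ae cae, ← hmk be ce bce,
    ← hmk abe ce abce] at h3
  simp only [Bool.or_eq_true, Bool.not_eq_true', ← Bool.not_eq_true, Bool.and_eq_true, hcom, memC_iff,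
    Nat.beq_eq] at h3
  rcases h3 with ((((h4 | h4) | h4) | h4) | h4) | ⟨h4, h5⟩
  · exfalso
    refine H.ab_ne ?_
    calc a * b * (a * b) = a * b * (b * a) := by rw [← (hcom ae be).1 h4]
      _ = a * (b * b) * a := by group
      _ = 1 := by rw [inv_of_ord H.b_at.1, mul_one, inv_of_ord H.a_at.1]
  · exfalso
    refine h4 ?_
    rw [← S.L.mulN_eq, ← S.L.co.map_one]
    refine congrArg φ (Subtype.ext ?_)
    show k * (a * b * (a * b)) * k⁻¹ * (k * (a * b * (a * b)) * k⁻¹) = 1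
    rw [← cjg_mul, show a * b * (a * b) * (a * b * (a * b)) = (a * b) ^ 4 by
      simp only [pow_succ, pow_zero, one_mul, mul_assoc], H.ab4, mul_one, mul_inv_cancel]
  · exact absurd ((hcom ae ce).2 H.ac) h4
  · exact absurd ((hcom ce te).1 h4) H.c_t
  · exact absurd (hZ cae H.caz) h4
  · rw [← S.L.mulN_eq, ← S.L.mulN_eq, ← S.L.co.map_one] at h4
    rw [← S.L.mulN_eq, ← S.L.mulN_eq, show zC0 = φ (zc z) from S.L.co.map_z.symm] at h5
    have e4 := congrArg Subtype.val (S.L.co.inj h4)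
    have e5 := congrArg Subtype.val (S.L.co.inj h5)
    simp only [Subgroup.coe_mul, Subgroup.coe_one, zc] at e4 e5
    rw [← cjg_mul, ← cjg_mul, conj_eq_one_iff] at e4
    rw [← cjg_mul, ← cjg_mul, ← hke, cjg_eq] at e5
    exact ⟨by rw [← e4, pow_succ, pow_two], by rw [← e5, pow_succ, pow_two]⟩

/-- The involutions give a map from the Held group. -/
theorem HeGens.hom (S : Sit z Q φ idsF a0) (H : HeGens z a b c f g) :
    ∃ π : Cfsg.Spor.He →* G, π (Cfsg.Agent.Spor.Cos.He.g 0) = a := by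
  obtain ⟨hbc, habc⟩ := H.far S
  let σ : ℕ → G := fun s => [a, b, c, z, (f * g) ^ 2, f, g].getD s 1
  have aa : a * a = 1 := inv_of_ord H.a_at.1
  have bb : b * b = 1 := inv_of_ord H.b_at.1
  have cc : c * c = 1 := inv_of_ord H.c_at.1
  have ff : f * f = 1 := inv_of_ord (S.ord_of_conj S.L.z2 H.fz.symm)
  have gg : g * g = 1 := inv_of_ord (S.ord_of_conj S.L.z2 H.gz.symm)
  have zz : z * z = 1 := inv_of_ord S.L.z2
  have ee : (f * g) ^ 2 * (f * g) ^ 2 = 1 := by rw [← pow_add]; exact H.fg4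
  have hi : ∀ s, σ s * σ s = 1 := by
    intro s
    rcases s with _ | _ | _ | _ | _ | _ | _ | s
    exacts [aa, bb, cc, zz, ee, ff, gg, one_mul 1]
  have hcan : ∀ {x : G}, x * x = 1 → ∀ p, x * (x * p) = p := fun h p => by rw [← mul_assoc, h, one_mul]
  have eC : ∀ p : G, p * f = f * p → p * g = g * p → p * (f * g) ^ 2 = (f * g) ^ 2 * p := fun p h1 h2 =>
    ((Commute.mul_right h1 h2).pow_right 2).eq
  have fi : f⁻¹ = f := inv_eq_of_mul_eq_one_right ff
  have gi : g⁻¹ = g := inv_eq_of_mul_eq_one_right gg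
  have hinv : ((f * g) ^ 2)⁻¹ = (f * g) ^ 2 := inv_eq_of_mul_eq_one_right ee
  have fe : f * (f * g) ^ 2 = (f * g) ^ 2 * f := by
    nth_rewrite 2 [← hinv]
    rw [← inv_pow, mul_inv_rev, fi, gi, pow_two, pow_two]
    simp only [mul_assoc, hcan ff, ff, mul_one]
  have ge : g * (f * g) ^ 2 = (f * g) ^ 2 * g := by
    nth_rewrite 1 [← hinv]
    rw [← inv_pow, mul_inv_rev, fi, gi, pow_two, pow_two]
    simp only [mul_assoc, hcan gg, gg, mul_one]
  have cd10 : (c * z) ^ 10 = 1 := by rw [show (10 : ℕ) = 5 + 5 from rfl, pow_add, H.cz5, aa]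
  have hb : ∀ w ∈ Cfsg.Agent.Spor.Cos.He.words, ev σ w = 1 := by
    intro w hw
    simp only [Cfsg.Agent.Spor.Cos.He.words, List.mem_cons, List.not_mem_nil, or_false] at hw
    rcases hw with rfl | rfl | rfl | rfl | rfl | rfl | rfl | rfl | rfl | rfl | rfl | rfl | rfl | rfl | rfl | rfl |
      rfl | rfl | rfl | rfl | rfl | rfl | rfl | rfl | rfl <;>
      simp only [ev, σ, List.getD_cons_zero, List.getD_cons_succ, mul_one]
    · simpa [pow_succ, mul_assoc] using H.ab4
    · exact ev_comm_word aa cc H.ac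
    · exact ev_comm_word aa zz H.az
    · exact ev_comm_word aa ee (eC a H.af H.ag)
    · exact ev_comm_word aa ff H.af
    · exact ev_comm_word aa gg H.ag
    · simpa [pow_succ, mul_assoc] using hbc
    · exact ev_comm_word bb zz H.bz
    · exact ev_comm_word bb ee (eC b H.bf H.bg)
    · exact ev_comm_word bb ff H.bf
    · exact ev_comm_word bb gg H.bg
    · simpa [pow_succ, mul_assoc] using cd10
    · exact ev_comm_word cc ee (eC c H.cf H.cg)
    · exact ev_comm_word cc ff H.cf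
    · exact ev_comm_word cc gg H.cg
    · simpa [pow_succ, mul_assoc] using H.ze3
    · simpa [pow_succ, mul_assoc] using H.zf3
    · simpa [pow_succ, mul_assoc] using H.zg3
    · exact ev_comm_word ee ff fe.symm
    · exact ev_comm_word ee gg ge.symm
    · simpa [pow_succ, mul_assoc] using H.fg4
    · simp only [pow_succ, pow_zero, one_mul, mul_assoc, hcan gg, hcan ff, ff]
    · rw [← habc]; simp only [pow_succ, pow_zero, one_mul, mul_assoc, hcan aa, hcan bb, hcan cc, aa, bb, cc]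
    · rw [← H.cz5]; simp only [pow_succ, pow_zero, one_mul, mul_assoc, hcan cc, hcan zz, cc, zz]
    · simpa [pow_succ, mul_assoc] using H.czfg
  obtain ⟨π, hπ⟩ := Cfsg.Agent.Spor.Cos.He.pres.exists_hom σ hi hb (fun s hs => by
    obtain ⟨j, rfl⟩ := Nat.exists_eq_add_of_le hs
    show [a, b, c, z, (f * g) ^ 2, f, g].getD (7 + j) 1 = 1
    rw [List.getD_eq_default]
    simp)
  exact ⟨π, hπ 0⟩

/-- A group of the order of the Held group with the configuration is isomorphic to it. -/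
theorem FF.iso {v : CC z} (F : FF z Q φ a0 v) : Cfsg.Spor.IsoHe G := by
  obtain ⟨b, c, f, g, H⟩ := F.exists_gens
  obtain ⟨π, hπ⟩ := H.hom F.S
  haveI := Cfsg.Agent.Spor.Cos.He.finite
  haveI := Cfsg.Agent.Spor.Cos.He.isSimple
  have hker : π.ker = ⊥ := by
    refine (MonoidHom.normal_ker π).eq_bot_or_eq_top.resolve_right fun h => ?_
    have : π (Cfsg.Agent.Spor.Cos.He.g 0) = 1 := by
      rw [← MonoidHom.mem_ker, h]; exact Subgroup.mem_top _
    rw [hπ] at this
    have h2 := F.S.a_inv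
    rw [this, orderOf_one] at h2
    omega
  exact ⟨(MulEquiv.ofBijective π ((Nat.bijective_iff_injective_and_card π).2
    ⟨(MonoidHom.ker_eq_bot_iff π).1 hker, by rw [Cfsg.Agent.Spor.Cos.He.card_eq, F.S.L.cardG]⟩)).symm⟩

/-- The uniqueness theorem. -/
theorem held_unique (t : G) (ht : orderOf t = 2) (Q : Subgroup (Subgroup.centralizer ({t} : Set G))) [Q.Normal]
    (hQ : Cfsg.IsExtraspecial 2 Q) (hcard : Nat.card Q = 2 ^ 7)
    (hplus : ∃ E : Subgroup Q, Cfsg.IsElementaryAbelian 2 E ∧ Nat.card E = 2 ^ 4)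
    (h2c : Subgroup.centralizer (Q : Set (Subgroup.centralizer ({t} : Set G))) ≤ Q)
    (e : (Subgroup.centralizer ({t} : Set G)) ⧸ Q ≃* Matrix.SpecialLinearGroup (Fin 3) (ZMod 2))
    (hG : Nat.card G = 4030387200)
    (htwo : ∃ x y : G, orderOf x = 2 ∧ orderOf y = 2 ∧ ¬ IsConj x y ∧
      ∀ z : G, orderOf z = 2 → IsConj z x ∨ IsConj z y) : Cfsg.Spor.IsoHe G := by
  obtain ⟨x, y, hx, hy, hxy, hall⟩ := htwo
  obtain ⟨φ, L, hf⟩ := exists_local t ht Q hQ hcard hplus h2c e hG ⟨x, y, hx, hy, hxy⟩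
  obtain ⟨a, ha, -, -⟩ := L.of_rep (i := 6) (by decide)
  have haC : φ a = aC := ha.trans (by decide +kernel)
  have mk : ∀ ids, ids ∈ patList → FusedIs t φ ids → Sit t Q φ ids a := fun ids hp h =>
    ⟨L, ⟨x, y, hx, hy, hxy, hall⟩, h, hp, haC⟩
  have S : Sit t Q φ idsF a := by
    rcases hf with h | h | h | h
    · have S := mk _ (by simp [patList]) h
      exact (show [0, 4, 5] = idsF from S.full (by simp [partList])) ▸ S
    · have S := mk _ (by simp [patList]) h
      exact (show [0, 1, 4, 5] = idsF from S.full (by simp [partList])) ▸ S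
    · have S := mk _ (by simp [patList]) h
      exact (show [0, 2, 4, 5] = idsF from S.full (by simp [partList])) ▸ S
    · exact mk _ (by simp [patList, idsF]) h
  obtain ⟨v, hv⟩ : ∃ v : CC t, φ v = vC := by
    have h := dataF_v
    simp only [Bool.and_eq_true, memC_iff] at h
    have hT : vC ∈ listT := h.1.1.1.1.1.1.1.1.1.1
    have hl : (elemList false false).filter (fun c => comN c aC) = listT := by simpa using listT_ok
    exact (L.co.range vC).1 (List.mem_filter.1 (hl.symm ▸ hT : vC ∈ _)).1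
  exact FF.iso (a0 := a) ⟨S, hv⟩

end Cfsg.Agent.Fus.HeUniq
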