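import Cfsg.Agent.Lib.Fus.HeUniq.PslData
import Cfsg.Agent.Lib.Classical.SLGroup

/-!
# Generators and candidates in `PSL(3,4)`
-/

set_option autoImplicit false
set_option linter.style.haveILetI false
set_option linter.unusedSectionVars false
set_option maxRecDepth 100000

namespace Cfsg.Agent.Fus.HeUniq.L34

open Cfsg.Agent.Spor.SU32 Cfsg.Agent.Spor.L34Elem Cfsg.Agent.Fus.SuzUniq Cfsg.Agent.Fus.SuzUniq.M9

open Cfsg.Agent.Spor.Cos (ev ev_map ev_mem)

local notation "S" => Matrix.SpecialLinearGroup (Fin 3) F4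
local notation "PS" => Matrix.ProjectiveSpecialLinearGroup (Fin 3) F4

/-- The matrix of nine entries. -/
def toMat (A : M9) : Matrix (Fin 3) (Fin 3) F4 := !![A.a, A.b, A.c; A.d, A.e, A.f; A.g, A.h, A.i]

theorem of_toMat (A : M9) : of (toMat A) = A := rfl

/-- The element of determinant one. -/
def mkD (A : M9) (h : (toMat A).det = 1) : S := ⟨toMat A, h⟩

/-- The element of the special linear group. -/
def mkS (A : M9) : S := if h : (toMat A).det = 1 then mkD A h else 1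

theorem det_of_sq {A : M9} (h : mul A A = sca 1) : (toMat A).det = 1 := by
  have h2 : toMat A * toMat A = 1 := of_inj (by rw [of_mul, of_toMat, h, of_one])
  have h3 := congrArg Matrix.det h2
  rw [Matrix.det_mul, Matrix.det_one] at h3
  have : ∀ c : F4, c * c = 1 → c = 1 := by decide
  exact this _ h3

theorem toM_mk {A : M9} (h : mul A A = sca 1) : toM (mkS A) = A := by
  rw [mkS, dif_pos (det_of_sq h)]
  exact of_toMat A

theorem mk_sq {A : M9} (h : mul A A = sca 1) : mkS A * mkS A = 1 := by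
  refine Subtype.ext (of_inj ?_)
  show toM (mkS A * mkS A) = toM 1
  rw [toM_mul, toM_mk h, h, toM_one]

/-- The image in the projective group. -/
def PP (A : M9) : PS := π (mkS A)

theorem PP_sq {A : M9} (h : mul A A = sca 1) : PP A * PP A = 1 := by
  rw [PP, ← map_mul, mk_sq h, map_one]

theorem PP_inj {A B : M9} (hA : mul A A = sca 1) (hB : mul B B = sca 1) (h : PP A = PP B) : A = B := by
  rw [← toM_mk hA, ← toM_mk hB, lift_unique (mk_sq hA) (mk_sq hB) h]

theorem toM_evW {x : ℕ → M9} (hx : ∀ s, mul (x s) (x s) = sca 1) (w : List ℕ) :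
    toM (ev (fun s => mkS (x s)) w) = evM x w := by
  rw [toM_ev, show (fun s => toM (mkS (x s))) = x from funext fun s => toM_mk (hx s)]

theorem ev_one {x : ℕ → M9} (hx : ∀ s, mul (x s) (x s) = sca 1) (w : List ℕ) :
    ev (fun s => PP (x s)) w = 1 ↔ isSc (evM x w) = true := by
  rw [← toM_evW hx, isSc_iff, ev_map]
  rfl

theorem ev_eq {x : ℕ → M9} (hx : ∀ s, mul (x s) (x s) = sca 1) {w : List ℕ} {A : M9} (hA : mul A A = sca 1)
    (h : eqI (evM x w) A = true) : ev (fun s => PP (x s)) w = PP A := by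
  rw [eqI, ← toM_evW hx, ← toM_mk hA, ← toM_mul, isSc_iff, map_mul, mul_eq_one_iff_eq_inv, ev_map,
    inv_eq_of_mul_eq_one_right (show π (mkS A) * π (mkS A) = 1 from PP_sq hA)] at h
  exact h

theorem mem_inv {A : M9} (h : A ∈ invM) : mul A A = sca 1 := by
  have := inv_ok
  simp only [List.all_eq_true, beq_iff_eq] at this
  exact this A h

theorem base_facts : dM ∈ invM ∧ fM2 ∈ invM ∧ base < 6 := by
  have h := base_ok
  simp only [Bool.and_eq_true, List.contains_iff_mem, Nat.blt_eq] at h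
  exact ⟨h.1.1.1.1.1.1.1.1, h.1.1.1.1.1.1.1.2, h.2⟩

theorem dM_sq : mul dM dM = sca 1 := mem_inv base_facts.1

theorem fM2_sq : mul fM2 fM2 = sca 1 := mem_inv base_facts.2.1

theorem six_mem {A : M9} (h : A ∈ sixM) : A ∈ invM ∧ isCand A = true := by
  rw [← cand_ok, List.mem_filter] at h
  exact h

theorem getD_six_sq (k : ℕ) : mul (sixM.getD k dM) (sixM.getD k dM) = sca 1 := by
  rcases Nat.lt_or_ge k sixM.length with h | h
  · exact mem_inv (six_mem (by rw [List.getD_eq_getElem?_getD, List.getElem?_eq_getElem h]; simp)).1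
  · rw [List.getD_eq_default _ _ h]; exact dM_sq

theorem getD_c_sq (k : ℕ) : mul (cM.getD k dM) (cM.getD k dM) = sca 1 := by
  rcases Nat.lt_or_ge k 6 with h | h
  · have := rel_ok
    simp only [chkRel, List.all_eq_true, List.mem_range, Bool.and_eq_true, beq_iff_eq] at this
    exact (this k h).1.1.1.1.1.1.1.1.1.1.1.2
  · rw [List.getD_eq_default _ _ (le_trans (show cM.length ≤ 6 by decide) h)]; exact dM_sq

theorem genK_sq (k s : ℕ) : mul (genK k s) (genK k s) = sca 1 := by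
  unfold genK
  rcases s with _ | _ | _ | _ | s <;> simp only [List.getD_cons_zero, List.getD_cons_succ, List.getD_nil]
  exacts [dM_sq, fM2_sq, getD_six_sq k, getD_c_sq k, dM_sq]

theorem genS_sq (s : ℕ) : mul (genS s) (genS s) = sca 1 := by
  unfold genS
  rcases s with _ | _ | s <;> simp only [List.cons_append, List.nil_append, List.getD_cons_zero, List.getD_cons_succ]
  exacts [dM_sq, fM2_sq, getD_six_sq s]

theorem genP_sq (k j s : ℕ) : mul (genP k j s) (genP k j s) = sca 1 := by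
  unfold genP
  rcases s with _ | _ | _ | _ | s <;> simp only [List.getD_cons_zero, List.getD_cons_succ, List.getD_nil]
  exacts [dM_sq, fM2_sq, getD_six_sq k, getD_six_sq j, dM_sq]

/-- The generators of a candidate. -/
def pgen (k s : ℕ) : PS := PP (genK k s)

theorem genM_det : ∀ i j : Fin 3, i ≠ j → ∀ c : F4, ∀ n : Fin 12,
    trList.getD n (0, 1, .e) = ((i : ℕ), (j : ℕ), c) →
      toMat (trM i j c) = Matrix.transvection i j c ∧ mul (trM i j c) (trM i j c) = sca 1 := by decide +kernel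

theorem trList_cover : ∀ i j : Fin 3, i ≠ j → ∀ c : F4, c = .e ∨ c = .w →
    ∃ n : Fin 12, trList.getD n (0, 1, .e) = ((i : ℕ), (j : ℕ), c) := by decide +kernel

theorem base_top : Subgroup.closure {x : PS | ∃ s < 4, pgen base s = x} = ⊤ := by
  set K := Subgroup.closure {x : PS | ∃ s < 4, pgen base s = x}
  have hgen : ∀ (i j : Fin 3) (h : i ≠ j) (c : F4), c = .e ∨ c = .w →
      π ⟨Matrix.transvection i j c, Matrix.det_transvection_of_ne i j h c⟩ ∈ K := by
    intro i j h c hc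
    obtain ⟨n, hn⟩ := trList_cover i j h c hc
    obtain ⟨hmat, hsq⟩ := genM_det i j h c n hn
    have ht := tr_ok
    simp only [List.all_eq_true, List.mem_range, Bool.and_eq_true, Nat.blt_eq] at ht
    obtain ⟨he, hw⟩ := ht n n.2
    rw [hn] at he
    have he' := ev_eq (genK_sq base) hsq he
    have hmk : mkS (trM i j c) = ⟨Matrix.transvection i j c, Matrix.det_transvection_of_ne i j h c⟩ := by
      rw [mkS, dif_pos (det_of_sq hsq)]
      exact Subtype.ext hmat
    rw [← hmk, ← PP, ← he']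
    exact ev_mem _ fun s hs => Subgroup.subset_closure ⟨s, hw s hs, rfl⟩
  rw [eq_top_iff]
  intro x hx
  clear hx
  obtain ⟨A, rfl⟩ := QuotientGroup.mk'_surjective (Subgroup.center S) x
  have hA : A ∈ Subgroup.closure (Set.range (Matrix.TransvectionStruct.toSpecialLinearGroup :
      Matrix.TransvectionStruct (Fin 3) F4 → S)) := by rw [Classical.SL_closure_transvections]; trivial
  induction hA using Subgroup.closure_induction with
  | mem w hw =>
    obtain ⟨⟨i, j, h, c⟩, rfl⟩ := hw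
    cases c with
    | o =>
      convert one_mem K using 1
      rw [π_eq_one]
      convert one_mem (Subgroup.center S) using 1
      refine Subtype.ext ?_
      show Matrix.transvection i j (0 : F4) = 1
      exact Matrix.transvection_zero i j
    | e => exact hgen i j h _ (Or.inl rfl)
    | w => exact hgen i j h _ (Or.inr rfl)
    | v =>
      have e : (Matrix.TransvectionStruct.toSpecialLinearGroup ⟨i, j, h, F4.v⟩ : S) =
          @HMul.hMul S S S _ ⟨Matrix.transvection i j F4.e, Matrix.det_transvection_of_ne i j h _⟩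
            ⟨Matrix.transvection i j F4.w, Matrix.det_transvection_of_ne i j h _⟩ := by
        refine Subtype.ext ?_
        show Matrix.transvection i j F4.v = Matrix.transvection i j F4.e * Matrix.transvection i j F4.w
        rw [Matrix.transvection_mul_transvection_same i j h]
        rfl
      have hm := mul_mem (hgen i j h _ (Or.inl rfl)) (hgen i j h _ (Or.inr rfl))
      exact (congrArg (· ∈ K) ((congrArg π e).trans (map_mul π _ _))).mpr hm
  | one => rw [map_one]; exact one_mem _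
  | mul u w _ _ hu hw => rw [map_mul]; exact mul_mem hu hw
  | inv u _ hu => rw [map_inv]; exact inv_mem hu

theorem gen_top (k : ℕ) (hk : k < 6) : Subgroup.closure {x : PS | ∃ s < 4, pgen k s = x} = ⊤ := by
  set K := Subgroup.closure {x : PS | ∃ s < 4, pgen k s = x}
  rw [eq_top_iff, ← base_top, Subgroup.closure_le]
  have hmem : ∀ w : List ℕ, (∀ s ∈ w, s < 4) → ev (fun s => PP (genK k s)) w ∈ K := fun w hw =>
    ev_mem _ fun s hs => Subgroup.subset_closure ⟨s, hw s hs, rfl⟩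
  have hb := baseW_ok
  simp only [List.all_eq_true, List.mem_range, Bool.and_eq_true, Nat.blt_eq] at hb
  obtain ⟨⟨⟨h1, h2⟩, h3⟩, h4⟩ := hb k hk
  rintro x ⟨s, hs, rfl⟩
  interval_cases s
  · exact Subgroup.subset_closure ⟨0, by norm_num, rfl⟩
  · exact Subgroup.subset_closure ⟨1, by norm_num, rfl⟩
  · show PP (sixM.getD base dM) ∈ K
    rw [← ev_eq (genK_sq k) (getD_six_sq base) h1]; exact hmem _ h3
  · show PP (cM.getD base dM) ∈ K
    rw [← ev_eq (genK_sq k) (getD_c_sq base) h2]; exact hmem _ h4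

theorem inv_complete {ξ : PS} (h : orderOf ξ = 2) : ∃ A ∈ invM, ξ = PP A := by
  have hd1 : PP dM ≠ 1 := by
    have hb := base_ok
    simp only [Bool.and_eq_true, Bool.not_eq_true'] at hb
    intro e
    rw [PP, ← isSc_iff, toM_mk dM_sq] at e
    exact Bool.noConfusion (hb.1.1.1.1.2.symm.trans e)
  have hd : orderOf (PP dM) = 2 := orderOf_eq_prime (by rw [pow_two]; exact PP_sq dM_sq) hd1
  obtain ⟨g, rfl⟩ := _root_.isConj_iff.1 (involutions_conj hd h)
  clear h
  have hg : g ∈ Subgroup.closure {x : PS | ∃ s < 4, pgen base s = x} := base_top ▸ Subgroup.mem_top g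
  have key : ∀ s < 4, ∀ A ∈ invM, ∃ B ∈ invM, pgen base s * PP A * (pgen base s)⁻¹ = PP B := by
    intro s hs A hA
    obtain ⟨i, hi, rfl⟩ := List.getElem_of_mem hA
    have hc := clo_ok
    simp only [List.all_eq_true, List.mem_range, Bool.and_eq_true, beq_iff_eq, Nat.blt_eq] at hc
    obtain ⟨hj, he⟩ := hc i hi s hs
    have hgd : invM.getD i dM = invM[i] := by rw [List.getD_eq_getElem?_getD, List.getElem?_eq_getElem hi]; rfl
    rw [hgd] at he
    set j := (cloM.getD i []).getD s 0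
    have hB : invM.getD j dM ∈ invM := by
      rw [List.getD_eq_getElem?_getD, List.getElem?_eq_getElem hj]; simp
    refine ⟨_, hB, ?_⟩
    rw [pgen, inv_eq_of_mul_eq_one_right (PP_sq (genK_sq base s)), PP, PP, PP, ← map_mul, ← map_mul]
    congr 1
    refine Subtype.ext (of_inj ?_)
    show toM (mkS (genK base s) * mkS invM[i] * mkS (genK base s)) = toM (mkS (invM.getD j dM))
    rw [toM_mul, toM_mul, toM_mk (genK_sq base s), toM_mk (mem_inv hA), toM_mk (mem_inv hB), mul_assoc9, he]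
  suffices ∀ A ∈ invM, ∃ B ∈ invM, g * PP A * g⁻¹ = PP B by
    obtain ⟨B, hB, e⟩ := this dM base_facts.1
    exact ⟨B, hB, e⟩
  induction hg using Subgroup.closure_induction_left with
  | one => exact fun A hA => ⟨A, hA, by simp⟩
  | mul_left x hx y _ ih =>
    obtain ⟨s, hs, rfl⟩ := hx
    intro A hA
    obtain ⟨B, hB, e⟩ := ih A hA
    obtain ⟨C, hC, e'⟩ := key s hs B hB
    exact ⟨C, hC, by rw [← e', ← e]; group⟩
  | inv_mul_cancel x hx y _ ih =>
    obtain ⟨s, hs, rfl⟩ := hx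
    intro A hA
    obtain ⟨B, hB, e⟩ := ih A hA
    obtain ⟨C, hC, e'⟩ := key s hs B hB
    refine ⟨C, hC, ?_⟩
    rw [inv_eq_of_mul_eq_one_right (show pgen base s * pgen base s = 1 from PP_sq (genK_sq base s))]
    rw [← e', ← e]; group

/-- The conditions on a candidate for the third generator. -/
def Cand (d f ξ : PS) : Prop :=
  ξ ≠ d ∧ (d * ξ) ^ 3 = 1 ∧ (f * ξ) ^ 4 = 1 ∧ (d * (f * ξ) ^ 2) ^ 3 = 1

theorem isSc_PP {A : S} : π A = 1 ↔ isSc (toM A) = true := (isSc_iff A).symm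

theorem cand_six {ξ : PS} (h2 : orderOf ξ = 2) (h : Cand (PP dM) (PP fM2) ξ) :
    ∃ k < 6, ξ = PP (sixM.getD k dM) := by
  obtain ⟨A, hA, rfl⟩ := inv_complete h2
  have hm : A ∈ sixM := by
    rw [← cand_ok, List.mem_filter]
    refine ⟨hA, ?_⟩
    obtain ⟨hne, h3, h4, h6⟩ := h
    simp only [pow_succ, pow_zero, one_mul, PP, ← map_mul, isSc_PP, toM_mul, toM_mk dM_sq, toM_mk fM2_sq,
      toM_mk (mem_inv hA)] at h3 h4 h6
    simp only [mul_assoc9] at h3 h4 h6
    simp only [isCand, cube, mul_assoc9, Bool.and_eq_true, Bool.not_eq_true', beq_eq_false_iff_ne, h3, h4, h6,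
      and_true]
    exact fun e => hne (by rw [e])
  obtain ⟨k, hk, hk'⟩ := List.getElem_of_mem hm
  refine ⟨k, lt_of_lt_of_le hk (show sixM.length ≤ 6 by decide), ?_⟩
  rw [List.getD_eq_getElem?_getD, List.getElem?_eq_getElem hk, ← hk']; rfl

theorem six_inj {k j : ℕ} (hk : k < 6) (hj : j < 6) (h : PP (sixM.getD k dM) = PP (sixM.getD j dM)) : k = j := by
  have e := PP_inj (getD_six_sq k) (getD_six_sq j) h
  have : ∀ k j : Fin 6, sixM.getD k dM = sixM.getD j dM → k = j := by decide +kernel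
  exact congrArg Fin.val (this ⟨k, hk⟩ ⟨j, hj⟩ e)

/-- The relations of a candidate. -/
theorem rels (k : ℕ) (hk : k < 6) :
    orderOf (PP dM) = 2 ∧ orderOf (PP fM2) = 2 ∧ orderOf (PP (sixM.getD k dM)) = 2 ∧
      orderOf (PP (cM.getD k dM)) = 2 ∧ (PP dM * PP fM2) ^ 3 = 1 ∧ PP fM2 ≠ PP dM ∧
      Cand (PP dM) (PP fM2) (PP (sixM.getD k dM)) ∧ (PP fM2 * PP (sixM.getD k dM)) ^ 2 ≠ 1 ∧
      PP (cM.getD k dM) * PP fM2 = PP fM2 * PP (cM.getD k dM) ∧
      PP (cM.getD k dM) * PP (sixM.getD k dM) = PP (sixM.getD k dM) * PP (cM.getD k dM) ∧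
      (PP (cM.getD k dM) * PP dM) ^ 5 = 1 ∧ PP (cM.getD k dM) ≠ PP dM ∧
      (PP (cM.getD k dM) * PP dM * PP fM2 * PP (sixM.getD k dM)) ^ 2 ≠ 1 ∧
      (PP (cM.getD k dM) * PP dM * PP fM2 * PP (sixM.getD k dM)) ^ 4 = 1 := by
  have hr := rel_ok
  simp only [chkRel, List.all_eq_true, List.mem_range, Bool.and_eq_true, beq_iff_eq, Bool.not_eq_true',
    List.contains_iff_mem] at hr
  obtain ⟨⟨⟨⟨⟨⟨⟨⟨⟨⟨⟨⟨⟨-, -⟩, -⟩, -⟩, g1⟩, c1⟩, fg2⟩, hc⟩, cf⟩, cg⟩, cd5⟩, cdne⟩, x2⟩, x4⟩ := hr k hk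
  have hb := base_ok
  simp only [Bool.and_eq_true, Bool.not_eq_true', beq_eq_false_iff_ne] at hb
  obtain ⟨⟨⟨⟨⟨⟨⟨⟨-, -⟩, -⟩, -⟩, d1⟩, f1⟩, df3⟩, fd⟩, -⟩ := hb
  have sg := getD_six_sq k
  have sc := getD_c_sq k
  simp only [isCand, Bool.and_eq_true, Bool.not_eq_true', beq_eq_false_iff_ne] at hc
  obtain ⟨⟨⟨gd, dg3⟩, fg4⟩, de3⟩ := hc
  have ord : ∀ A : M9, mul A A = sca 1 → isSc A = false → orderOf (PP A) = 2 := fun A h1 h2 =>
    orderOf_eq_prime (by rw [pow_two]; exact PP_sq h1) fun e => by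
      rw [PP, isSc_PP, toM_mk h1, h2] at e; exact Bool.noConfusion e
  refine ⟨ord _ dM_sq d1, ord _ fM2_sq f1, ord _ sg g1, ord _ sc c1, ?_, fun e => fd (PP_inj fM2_sq dM_sq e),
    ⟨fun e => gd (PP_inj sg dM_sq e), ?_, ?_, ?_⟩, ?_, ?_, ?_, ?_, ?_, ?_, ?_⟩
  case refine_6 =>
    rw [PP, PP, ← map_mul, ← map_mul]
    exact congrArg π (Subtype.ext (of_inj (by
      show toM (mkS _ * mkS _) = toM (mkS _ * mkS _)
      rw [toM_mul, toM_mul, toM_mk sc, toM_mk fM2_sq]; exact cf)))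
  case refine_7 =>
    rw [PP, PP, ← map_mul, ← map_mul]
    exact congrArg π (Subtype.ext (of_inj (by
      show toM (mkS _ * mkS _) = toM (mkS _ * mkS _)
      rw [toM_mul, toM_mul, toM_mk sc, toM_mk sg]; exact cg)))
  case refine_9 =>
    intro e
    rw [PP, PP, ← inv_eq_of_mul_eq_one_right (show π (mkS dM) * π (mkS dM) = 1 from PP_sq dM_sq),
      ← mul_eq_one_iff_eq_inv,
      ← map_mul, isSc_PP, toM_mul, toM_mk sc, toM_mk dM_sq, cdne] at e
    exact Bool.noConfusion e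
  all_goals
    simp only [ne_eq, pow_succ, pow_zero, one_mul, PP, ← map_mul, isSc_PP, toM_mul, toM_mk dM_sq, toM_mk fM2_sq,
      toM_mk sg, toM_mk sc, Bool.not_eq_true]
    simp only [cube, fifth, mul_assoc9] at df3 dg3 fg4 de3 fg2 cd5 x2 x4 ⊢
    assumption

theorem move {ξ : PS} (h2 : orderOf ξ = 2) (hne : ξ ≠ PP dM) (h3 : (PP dM * ξ) ^ 3 = 1) :
    ∃ r : PS, r * PP dM = PP dM * r ∧ r * PP fM2 * r⁻¹ = ξ := by
  obtain ⟨A, hA, rfl⟩ := inv_complete h2
  obtain ⟨i, hi, hiA⟩ := List.getElem_of_mem hA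
  have hm := move_ok
  simp only [List.all_eq_true, List.mem_range, Bool.or_eq_true, beq_iff_eq, Bool.not_eq_true', List.any_eq_true,
    Bool.and_eq_true] at hm
  have hgd : invM.getD i dM = A := by rw [List.getD_eq_getElem?_getD, List.getElem?_eq_getElem hi]; exact hiA
  have hm' := hm i hi
  rw [hgd] at hm'
  rcases hm' with (e | e) | ⟨w, -, ⟨hd, hf⟩, -⟩
  · exact absurd (by rw [e]) hne
  · simp only [pow_succ, pow_zero, one_mul, PP, ← map_mul, isSc_PP, toM_mul, toM_mk dM_sq, toM_mk (mem_inv hA)]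
      at h3
    simp only [cube, mul_assoc9] at h3 e
    rw [h3] at e
    exact Bool.noConfusion e
  · refine ⟨π (ev (fun s => mkS (genK base s)) w), ?_, ?_⟩
    · rw [PP, ← map_mul, ← map_mul]
      exact congrArg π (Subtype.ext (of_inj (by
        show toM (_ * _) = toM (_ * _)
        rw [toM_mul, toM_mul, toM_mk dM_sq, toM_evW (genK_sq base)]; exact hd)))
    · rw [PP, PP, mul_inv_eq_iff_eq_mul, ← map_mul, ← map_mul]
      exact congrArg π (Subtype.ext (of_inj (by
        show toM (_ * _) = toM (_ * _)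
        rw [toM_mul, toM_mul, toM_mk (mem_inv hA), toM_mk fM2_sq, toM_evW (genK_sq base)]; exact hf)))

theorem c_word {k j : ℕ} (hk : k < 6) (hj : j < 6) (h1 : j ≠ k) (h2 : j ≠ mate k) :
    ∃ w : List ℕ, (∀ s ∈ w, s < 4) ∧ ev (fun s => PP (genP k j s)) w = PP (cM.getD k dM) := by
  have h := cW_ok
  simp only [List.all_eq_true, List.mem_range, Bool.or_eq_true, Bool.and_eq_true, Nat.beq_eq, Nat.blt_eq] at h
  rcases h k hk j hj with (e | e) | ⟨he, hw⟩
  · exact absurd e h1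
  · exact absurd e h2
  · exact ⟨_, hw, ev_eq (genP_sq k j) (getD_c_sq k) he⟩

set_option synthInstance.maxSize 2000 in
set_option synthInstance.maxHeartbeats 200000 in
theorem fpf_cases : ∀ a : Fin 6, a ≠ 0 → ∀ b : Fin 6, b ≠ 1 ∧ (a = 1 ↔ b = 0) →
    ∀ c : Fin 6, c ≠ 2 ∧ (a = 2 ↔ c = 0) ∧ (b = 2 ↔ c = 1) →
    ∀ d : Fin 6, d ≠ 3 ∧ (a = 3 ↔ d = 0) ∧ (b = 3 ↔ d = 1) ∧ (c = 3 ↔ d = 2) →
    ∀ e : Fin 6, e ≠ 4 ∧ (a = 4 ↔ e = 0) ∧ (b = 4 ↔ e = 1) ∧ (c = 4 ↔ e = 2) ∧ (d = 4 ↔ e = 3) →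
    ∀ f : Fin 6, f ≠ 5 ∧ (a = 5 ↔ f = 0) ∧ (b = 5 ↔ f = 1) ∧ (c = 5 ↔ f = 2) ∧ (d = 5 ↔ f = 3) ∧ (e = 5 ↔ f = 4) →
    [(a : ℕ), (b : ℕ), (c : ℕ), (d : ℕ), (e : ℕ), (f : ℕ)] ∈ fpfList := by decide +kernel

theorem fixed_le (τ : PS ≃* PS) (hd : τ (PP dM) = PP dM) (hf : τ (PP fM2) = PP fM2) (p : Fin 6 → Fin 6)
    (hp : ∀ k : Fin 6, τ (PP (sixM.getD k dM)) = PP (sixM.getD (p k) dM)) (hpp : ∀ k, p (p k) = k)
    (hfree : ∀ k, p k ≠ k) :
    Nat.card {ξ : PS // ξ * ξ = 1 ∧ ξ * PP dM = PP dM * ξ ∧ τ ξ = ξ} ≤ 4 := by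
  classical
  set l := [(p 0 : ℕ), (p 1 : ℕ), (p 2 : ℕ), (p 3 : ℕ), (p 4 : ℕ), (p 5 : ℕ)]
  have hiff : ∀ i j : Fin 6, p i = j ↔ p j = i := fun i j => ⟨fun h => h ▸ hpp i, fun h => h ▸ hpp j⟩
  have hmem : l ∈ fpfList :=
    fpf_cases (p 0) (hfree 0) (p 1) ⟨hfree 1, hiff 0 1⟩ (p 2) ⟨hfree 2, hiff 0 2, hiff 1 2⟩
      (p 3) ⟨hfree 3, hiff 0 3, hiff 1 3, hiff 2 3⟩ (p 4) ⟨hfree 4, hiff 0 4, hiff 1 4, hiff 2 4, hiff 3 4⟩
      (p 5) ⟨hfree 5, hiff 0 5, hiff 1 5, hiff 2 5, hiff 3 5, hiff 4 5⟩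
  have hT : ∀ s < 8, genT l s = (if s < 2 then genS s else sixM.getD (l.getD (s - 2) 0) dM) := by
    intro s hs
    rw [genT]
    interval_cases s
    iterate 2 rfl
    all_goals exact congrArg genS (Nat.add_comm 2 _)
  have hTsq : ∀ s, mul (genT l s) (genT l s) = sca 1 := fun s => by
    rw [genT]; cases Nat.blt s 2 <;> exact genS_sq _
  have himg : ∀ s < 8, τ (PP (genS s)) = PP (genT l s) := by
    intro s hs
    rw [hT s hs]
    interval_cases s
    · exact hd
    · exact hf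
    · exact hp 0
    · exact hp 1
    · exact hp 2
    · exact hp 3
    · exact hp 4
    · exact hp 5
  have hfew := fixed_few
  simp only [List.all_eq_true, Nat.ble_eq] at hfew
  refine le_trans ?_ (hfew l hmem)
  refine le_trans ?_ (List.toFinset_card_le _)
  rw [← Nat.card_eq_finsetCard]
  have hw := fixW_ok
  simp only [Bool.and_eq_true, List.all_eq_true, List.any_eq_true, Bool.or_eq_true, Bool.not_eq_true',
    Nat.blt_eq, beq_eq_false_iff_ne] at hw
  obtain ⟨⟨hlt, hcov⟩, hone⟩ := hw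
  have hex : ∀ ξ : {ξ : PS // ξ * ξ = 1 ∧ ξ * PP dM = PP dM * ξ ∧ τ ξ = ξ},
      ∃ w ∈ fixW, ev (fun s => PP (genS s)) w = ξ.1 := by
    rintro ⟨ξ, h1, h2, -⟩
    rcases eq_or_ne ξ 1 with rfl | hne
    · obtain ⟨w, hw, hw'⟩ := hone
      exact ⟨w, hw, (ev_one genS_sq w).2 hw'⟩
    · obtain ⟨A, hA, rfl⟩ := inv_complete (orderOf_eq_prime (by rw [pow_two]; exact h1) hne)
      rcases hcov A hA with e | ⟨w, hw, hw'⟩
      · exfalso
        apply e
        have h3 : mkS A * mkS dM = mkS dM * mkS A :=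
          lift_comm (mk_sq (mem_inv hA)) (mk_sq dM_sq) (by simpa [PP] using h2)
        have h4 := congrArg toM h3
        rwa [toM_mul, toM_mul, toM_mk (mem_inv hA), toM_mk dM_sq] at h4
      · exact ⟨w, hw, ev_eq genS_sq (mem_inv hA) hw'⟩
  choose w hwm hwe using hex
  refine Nat.card_le_card_of_injective (fun ξ => ⟨w ξ, List.mem_toFinset.2 (List.mem_filter.2 ⟨hwm ξ, ?_⟩)⟩)
    fun x y h => Subtype.ext (by rw [← hwe x, ← hwe y, show w x = w y from congrArg Subtype.val h])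
  have h2 : τ (ev (fun s => PP (genS s)) (w ξ)) = ev (fun s => PP (genT l s)) (w ξ) := by
    have hgen : ∀ u : List ℕ, (∀ s ∈ u, s < 8) →
        τ (ev (fun s => PP (genS s)) u) = ev (fun s => PP (genT l s)) u := by
      intro u hu
      induction u with
      | nil => exact map_one τ
      | cons s u ih =>
        show τ (PP (genS s) * ev _ u) = PP (genT l s) * ev _ u
        rw [map_mul, himg s (hu s (List.mem_cons_self ..)), ih fun t ht => hu t (List.mem_cons_of_mem _ ht)]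
    exact hgen _ (hlt _ (hwm ξ))
  rw [hwe ξ, ξ.2.2.2, ← hwe ξ] at h2
  simp only [PP] at h2
  rw [← ev_map, ← ev_map] at h2
  obtain ⟨c, hc, e⟩ := center_scalar ((QuotientGroup.eq (s := Subgroup.center S)).1 h2)
  have e' : toM (ev (fun s => mkS (genT l s)) (w ξ)) = mul (sca c) (toM (ev (fun s => mkS (genS s)) (w ξ))) := by
    rw [sca_comm, ← of_scalar c, show of (c • (1 : Matrix (Fin 3) (Fin 3) F4)) =
      toM ((ev (fun s => mkS (genS s)) (w ξ))⁻¹ * ev (fun s => mkS (genT l s)) (w ξ)) by rw [toM, e],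
      ← toM_mul, mul_inv_cancel_left]
  rw [toM_evW hTsq, toM_evW genS_sq] at e'
  simp only [Bool.or_eq_true, beq_iff_eq, e', ← mul_assoc9]
  have hscal : ∀ c : F4, c ^ 3 = 1 → c = 1 ∨ mul (sca F4.w) (sca c) = sca 1 ∨ mul (sca F4.v) (sca c) = sca 1 := by
    decide +kernel
  rcases hscal c hc with rfl | h | h
  · exact Or.inl (Or.inl (one_mul9 _).symm)
  · exact Or.inl (Or.inr (by rw [h, one_mul9]))
  · exact Or.inr (by rw [h, one_mul9])

end Cfsg.Agent.Fus.HeUniq.L34
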