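import Cfsg.Agent.Lib.Fus.HeUniq.WH
import Cfsg.Agent.Lib.Fus.HeUniq.PslFacts

/-!
# Lifts of involutions of the linear group
-/

set_option autoImplicit false
set_option linter.style.haveILetI false
set_option linter.unusedSectionVars false
set_option maxRecDepth 100000

namespace Cfsg.Agent.Fus.HeUniq

open Cfsg.Agent.Spor.SU32 Cfsg.Agent.Spor.L34Elem L34

local notation "PS" => Matrix.ProjectiveSpecialLinearGroup (Fin 3) F4

variable {G : Type*} [Group G] [Finite G] [IsSimpleGroup G] {z : G} {Q : Subgroup (CC z)} {φ : CC z → ℕ}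
  {a v : CC z}

/-- A projection of the centralizer of the four group on the linear group. -/
structure Th (F : FF z Q φ a v) (θ : WW a v →* PS) : Prop where
  surj : Function.Surjective θ
  one : ∀ w : WW a v, θ w = 1 ↔ InV a v (w : G)
  zval : θ ⟨z, F.zW⟩ = PP dM

variable {F : FF z Q φ a v}

theorem FF.exists_theta (F : FF z Q φ a v) : ∃ θ : WW a v →* PS, Th F θ := by
  obtain ⟨e⟩ := F.X_iso
  have hd : orderOf (PP dM) = 2 := (rels 0 (by norm_num)).1
  obtain ⟨g, hg⟩ := _root_.isConj_iff.1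
    (involutions_conj ((e.orderOf_eq (pr a v ⟨z, F.zW⟩)).trans F.prz_inv) hd)
  refine ⟨((MulAut.conj g).toMonoidHom.comp e.toMonoidHom).comp (pr a v), ?_, fun w => ?_, hg⟩
  · exact ((MulAut.conj g).surjective.comp e.surjective).comp (QuotientGroup.mk'_surjective _)
  · show MulAut.conj g (e (pr a v w)) = 1 ↔ _
    rw [map_eq_one_iff _ (MulAut.conj g).injective, map_eq_one_iff _ e.injective, F.pr_one]

theorem FF.IsX_ord {x : G} (F : FF z Q φ a v) (h : IsX a v x) : orderOf x = 2 :=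
  F.S.ord_of_conj F.S.L.z2 h.2.1.symm

theorem FF.X_inv {x : G} (F : FF z Q φ a v) (h : IsX a v x) : x⁻¹ = x :=
  inv_eq_of_mul_eq_one_right (F.X_sq h)

namespace Th

variable {θ : WW a v →* PS} (H : Th F θ)
include H

theorem eq_iff {x y : WW a v} : θ x = θ y ↔ InV a v ((x : G)⁻¹ * y) := by
  rw [← inv_mul_eq_one, ← map_inv, ← map_mul, H.one]
  rfl

theorem z_ord : orderOf (θ ⟨z, F.zW⟩) = 2 := by rw [H.zval]; exact (rels 0 (by norm_num)).1

theorem ord {x : G} (h : IsX a v x) : orderOf (θ ⟨x, h.1⟩) = 2 := by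
  refine orderOf_eq_prime (by rw [pow_two, ← map_mul, H.one]; exact Or.inl (F.X_sq h)) ?_
  exact fun e => F.X_notV h ((H.one _).1 e)

theorem inj {x y : G} (hx : IsX a v x) (hy : IsX a v y) (e : θ ⟨x, hx.1⟩ = θ ⟨y, hy.1⟩) : x = y := by
  have h := F.X_unique (H.eq_iff.1 e) hx (by simpa using hy)
  exact inv_mul_eq_one.1 h

theorem lift {ξ : PS} (h : orderOf ξ = 2) : ∃ (x : G) (hx : IsX a v x), θ ⟨x, hx.1⟩ = ξ := by
  obtain ⟨⟨x, hxW⟩, rfl⟩ := H.surj ξ
  have hnV : ¬ InV a v x := fun hV => by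
    rw [(H.one ⟨x, hxW⟩).2 hV, orderOf_one] at h
    omega
  have hsq : InV a v (x * x) := by
    refine (H.one (⟨x, hxW⟩ * ⟨x, hxW⟩)).1 ?_
    rw [map_mul, ← pow_two, ← h, pow_orderOf_eq_one]
  obtain ⟨k, hk, hX, -⟩ := F.X_exists hxW hnV hsq
  refine ⟨x * k, hX, H.eq_iff.2 ?_⟩
  show InV a v ((x * k)⁻¹ * x)
  rw [mul_inv_rev, mul_assoc, inv_mul_cancel, mul_one, inv_eq_of_mul_eq_one_right (F.InV_sq hk)]
  exact hk

theorem comm {x : G} (hx : IsX a v x) {w : G} (hw : w ∈ WW a v)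
    (e : θ ⟨w, hw⟩ * θ ⟨x, hx.1⟩ = θ ⟨x, hx.1⟩ * θ ⟨w, hw⟩) : w * x = x * w := by
  have h := H.inj (F.X_cj hx hw) hx ?_
  · exact mul_inv_eq_iff_eq_mul.1 h
  · show θ (⟨w, hw⟩ * ⟨x, hx.1⟩ * ⟨w, hw⟩⁻¹) = _
    rw [map_mul, map_mul, map_inv, e, mul_inv_cancel_right]

theorem cube {x y : G} (hx : IsX a v x) (hy : IsX a v y) (e : (θ ⟨x, hx.1⟩ * θ ⟨y, hy.1⟩) ^ 3 = 1) :
    (x * y) ^ 3 = 1 := by
  rw [← map_mul, ← map_pow, H.one] at e
  have hk : InV a v ((x * y) ^ 3) := e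
  refine F.X_unique hk hx ?_
  rw [show x * (x * y) ^ 3 = x * x * y * x * y * x * y by simp only [pow_succ, pow_zero, one_mul, mul_assoc], F.X_sq hx, one_mul,
    show y * x * y * x * y = (y * x) * y * (x * y) by group,
    show x * y = (y * x)⁻¹ by rw [mul_inv_rev, F.X_inv hx, F.X_inv hy]]
  exact F.X_cj hy (mul_mem hy.1 hx.1)

theorem fifth {x y : G} (hx : IsX a v x) (hy : IsX a v y) (e : (θ ⟨x, hx.1⟩ * θ ⟨y, hy.1⟩) ^ 5 = 1) :
    (x * y) ^ 5 = 1 := by
  rw [← map_mul, ← map_pow, H.one] at e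
  have hk : InV a v ((x * y) ^ 5) := e
  refine F.X_unique hk hx ?_
  rw [show x * (x * y) ^ 5 = x * x * y * x * y * x * y * x * y * x * y by
    simp only [pow_succ, pow_zero, one_mul, mul_assoc], F.X_sq hx, one_mul,
    show y * x * y * x * y * x * y * x * y = (y * x * y * x) * y * (x * y * x * y) by group,
    show x * y * x * y = (y * x * y * x)⁻¹ by
      simp only [mul_inv_rev, F.X_inv hx, F.X_inv hy, mul_assoc]]
  exact F.X_cj hy (mul_mem (mul_mem (mul_mem hy.1 hx.1) hy.1) hx.1)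

/-- Only the four group centralises `z` and an element rotating it with order three. -/
theorem cent_small {f : G} (hf : IsX a v f) (hne : f ≠ z) (h3 : (z * f) ^ 3 = 1) {w : G} (hw : w ∈ WW a v)
    (hwz : w * z = z * w) (hwf : w * f = f * w) : InV a v w := by
  obtain ⟨k, hk⟩ := F.X_cent_two F.z_X ⟨w, Subgroup.mem_inf.2 ⟨hw, Subgroup.mem_centralizer_singleton_iff.2 hwz⟩⟩
  have hk' : w ^ 2 ^ k = 1 := congrArg Subtype.val hk
  clear hk
  induction k generalizing w with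
  | zero => rw [pow_zero, pow_one] at hk'; exact Or.inl hk'
  | succ k ih =>
    have h2 : InV a v (w * w) := ih (mul_mem hw hw) (by rw [mul_assoc, hwz, ← mul_assoc, hwz, mul_assoc])
      (by rw [mul_assoc, hwf, ← mul_assoc, hwf, mul_assoc]) (by rw [← pow_two, ← pow_mul, ← pow_succ', hk'])
    by_contra hnV
    obtain ⟨j, hj, hX, -⟩ := F.X_exists hw hnV h2
    have hcz : z * (w * j) = w * j * z := by
      rw [← mul_assoc, ← hwz, mul_assoc, F.V_comm hj F.zW, ← mul_assoc]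
    have hcf : f * (w * j) = w * j * f := by
      rw [← mul_assoc, ← hwf, mul_assoc, F.V_comm hj hf.1, ← mul_assoc]
    have hzf : z * f ∈ WW a v ⊓ CC (w * j) := Subgroup.mem_inf.2 ⟨mul_mem F.zW hf.1,
      Subgroup.mem_centralizer_singleton_iff.2 (by rw [mul_assoc, hcf, ← mul_assoc, hcz, mul_assoc])⟩
    obtain ⟨n, hn⟩ := F.X_cent_two hX ⟨_, hzf⟩
    have hn' : (z * f) ^ 2 ^ n = 1 := congrArg Subtype.val hn
    have h1 : z * f = 1 := by
      rw [← orderOf_eq_one_iff]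
      exact Nat.dvd_one.1 ((Nat.Coprime.pow_left n (by norm_num : Nat.Coprime 2 3)) ▸
        Nat.dvd_gcd (orderOf_dvd_of_pow_eq_one hn') (orderOf_dvd_of_pow_eq_one h3))
    exact hne (mul_left_cancel (h1.trans (F.X_sq F.z_X).symm))

end Th

end Cfsg.Agent.Fus.HeUniq
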