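import Cfsg.Agent.Lib.Fus.HeUniq.Model
import Cfsg.Agent.Lib.Fus.HeUniq.Image
import Cfsg.Agent.Lib.Fus.HeUniq.Split

/-!
# Facts about the tables of the models
-/

set_option autoImplicit false
set_option linter.style.haveILetI false
set_option linter.unusedSectionVars false
set_option maxRecDepth 100000

namespace Cfsg.Agent.Fus.HeUniq

/-- The centraliser of the central involution among the permutations. -/
abbrev C16 : Type := Subgroup.centralizer ({z16} : Set (Equiv.Perm (Fin 16)))

/-- The frame of the model of `Q`. -/
def zC : C16 := ⟨z16, Subgroup.mem_centralizer_singleton_iff.2 rfl⟩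

/-- The frame of the model of `Q`. -/
def xC (i : Fin 3) : C16 := ⟨x16 i, Subgroup.mem_centralizer_singleton_iff.2 (z16_comm_gens.2.2.1 i).symm⟩

/-- The frame of the model of `Q`. -/
def wC (i : Fin 3) : C16 := ⟨w16 i, Subgroup.mem_centralizer_singleton_iff.2 (z16_comm_gens.2.2.2 i).symm⟩

theorem gens16 : (∀ i, x16 i * x16 i = 1) ∧ (∀ i, w16 i * w16 i = 1) ∧ (∀ i j, x16 i * x16 j = x16 j * x16 i) ∧
    (∀ i j, w16 i * w16 j = w16 j * w16 i) ∧
    (∀ i j, w16 i * x16 j = x16 j * w16 i * (bif decide (i = j) then z16 else 1)) := by decide +kernel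

theorem fr16 : Frame zC xC wC := by
  obtain ⟨hzz, hz1, -, -⟩ := z16_comm_gens
  obtain ⟨hx, hw, hxx, hww, hwx⟩ := gens16
  refine ⟨Subtype.ext hzz, fun h => hz1 (congrArg Subtype.val h), fun g => ?_, fun i => Subtype.ext (hx i),
    fun i => Subtype.ext (hw i), fun i j => Subtype.ext (hxx i j), fun i j => Subtype.ext (hww i j), fun i j => ?_⟩
  · exact Subtype.ext (Subgroup.mem_centralizer_singleton_iff.1 g.2).symm
  · refine Subtype.ext ?_
    have h := hwx i j
    cases hd : decide (i = j) <;> rw [hd] at h <;> exact h

theorem qel_eq (n : ℕ) : ((theta zC xC wC n : C16) : Equiv.Perm (Fin 16)) = qel n := by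
  have hb : ∀ (g : C16) (b : Bool), ((bpow g b : C16) : Equiv.Perm (Fin 16)) = bpow (g : Equiv.Perm (Fin 16)) b :=
    fun g b => by cases b <;> rfl
  simp only [theta, word, qel, Subgroup.coe_mul, hb]
  rfl

theorem qel_mul (n m : Fin 128) : qel (mulQ n m) = qel n * qel m := by
  rw [← qel_eq, fr16.theta_mul, Subgroup.coe_mul, qel_eq, qel_eq]

theorem qel_inj {n m : Fin 128} (h : qel n = qel m) : n = m :=
  fr16.theta_inj n m (Subtype.ext (by rw [qel_eq, qel_eq, h]))

theorem qel_zero : qel 0 = 1 := by rw [← qel_eq, fr16.theta_zero]; rfl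

theorem qel_z : qel 64 = z16 := by rw [← qel_eq, fr16.theta_z]; rfl

/-- The representative over an image element. -/
def repP (b : Bool) (j : ℕ) : Equiv.Perm (Fin 16) := permOf ((repList b).getD j (0, 0))

/-- The second component over an image element. -/
def covP (b tw : Bool) (j : ℕ) : Equiv.Perm (Fin 16) := permOf ((covList b tw).getD j (0, 0))

theorem enc_one : enc 1 = 18364758544493064720 := by decide +kernel

/-- A code and its inverse give a permutation with this code. -/
def okCode (c : ℕ × ℕ) : Bool := Nat.beq (mul16 c.2 c.1) 18364758544493064720 &&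
  Nat.beq (mul16 c.1 c.2) 18364758544493064720 && Nat.blt c.1 (16 ^ 16) && Nat.blt c.2 (16 ^ 16)

theorem tables_ok : ∀ b tw, ((repList b).all okCode && (covList b tw).all okCode && okCode m1c &&
    Nat.beq (repList b).length 168 && Nat.beq (covList b tw).length 168) = true := by decide +kernel

/-- The representatives act as their image. -/
def chkRep (b : Bool) (j : ℕ) : Bool :=
  (List.range 6).all fun i =>
    let r := ((repList b).getD j (0, 0)).1
    let k := col ((imX b).getD j 0) i
    let v := mul16 r (enc (qel (2 ^ i)))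
    Nat.beq v (mul16 (enc (qel k)) r) || Nat.beq v (mul16 (enc (qel (k + 64))) r)

theorem rep_ok : ∀ b, (List.range 168).all (chkRep b) = true := by decide +kernel

/-- The second components along the spanning tree. -/
def chkCov (b tw : Bool) (j : ℕ) : Bool :=
  (genList b).all fun g =>
    let x := comp ((imX b).getD j 0) ((imX b).getD g 0)
    let k := (imX b).idxOf x
    let v := mul16 ((covList b tw).getD j (0, 0)).1 ((covList b tw).getD g (0, 0)).1
    let w := ((covList b tw).getD k (0, 0)).1
    Nat.beq v w || Nat.beq v (mul16 w (bif tw then m1c.1 else 18364758544493064720))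

theorem cov_ok : ∀ b tw, (List.range 168).all (chkCov b tw) = true := by decide +kernel

/-- The predecessors generate. -/
def chkPred (b : Bool) (j : ℕ) : Bool :=
  let p := (predList b).getD j (0, 0)
  (Nat.beq ((imX b).getD j 0) one6 || ((genList b).contains p.2 &&
    Nat.beq (comp ((imX b).getD p.1 0) ((imX b).getD p.2 0)) ((imX b).getD j 0))) &&
  Nat.beq ((imX b).getD ((fun i => ((predList b).getD i (0, 0)).1)^[16] j) 0) one6

theorem pred_ok : ∀ b, (List.range 168).all (chkPred b) = true := by decide +kernel

/-- The second components commute with the central involution, and are canonical. -/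
def chkCanon (b tw : Bool) (j : ℕ) : Bool :=
  let q := ((covList b tw).getD j (0, 0)).1
  let c := bif tw then m1c.1 else 18364758544493064720
  Nat.beq (mul16 q c) (mul16 c q) && Nat.blt (dig q 0) (dig q 1) &&
    (!tw || (!Nat.blt (dig (mul16 q c) 0) (dig (mul16 q c) 1) && Nat.beq (mul16 c c) 18364758544493064720))

theorem canon_ok : ∀ b tw, (List.range 168).all (chkCanon b tw) = true := by decide +kernel

/-- In the twisted models involutions of the image have second components of order four. -/
def chkTwist (b : Bool) (j : ℕ) : Bool :=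
  let x := (imX b).getD j 0
  let q := ((covList b true).getD j (0, 0)).1
  !Nat.beq (comp x x) one6 || Nat.beq x one6 || Nat.beq (mul16 q q) m1c.1

theorem twist_ok : ∀ b, (List.range 168).all (chkTwist b) = true := by decide +kernel

theorem cent_data : (∀ p : Fin 16, ∃ n : Fin 128, qel n 0 = p) ∧
    (∀ q : Fin 16, (∀ i : Fin 3, qel (2 ^ (3 + (i : ℕ))) q = q) → q = qel 0 0 ∨ q = qel 64 0) ∧
    (∀ i : Fin 3, qel (2 ^ (3 + (i : ℕ))) 0 = 0) := by decide +kernel

theorem inv_class : ∀ A : SL3, A * A = 1 → A ≠ 1 → ∃ C : SL3, C * A = u3 * C := by decide +kernel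

end Cfsg.Agent.Fus.HeUniq
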