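import Cfsg.Agent.Lib.Fus.HeUniq.Lifts
import Cfsg.Agent.Lib.Fus.HeUniq.DataY

/-!
# An outer involution fixing the first two generators
-/

set_option autoImplicit false
set_option linter.style.haveILetI false
set_option linter.unusedSectionVars false
set_option maxRecDepth 100000

namespace Cfsg.Agent.Fus.HeUniq

open Cfsg.Agent.Spor.SU32 Cfsg.Agent.Spor.L34Elem L34

local notation "PS" => Matrix.ProjectiveSpecialLinearGroup (Fin 3) F4

variable {G : Type*} [Group G] [Finite G] [IsSimpleGroup G] {z : G} {Q : Subgroup (CC z)} {φ : CC z → ℕ}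
  {a v : CC z} (F : FF z Q φ a v)
include F

theorem FF.V_ne : (v : G) * a ≠ v ∧ (v : G) ≠ 1 := by
  refine ⟨fun e => ?_, fun e => ?_⟩
  · have h := F.S.a_inv; rw [mul_eq_left.1 e, orderOf_one] at h; omega
  · have h := F.v_props.2.1.1; rw [e, orderOf_one] at h; omega

theorem FF.cj_W {h w : G} (hh : h * a = a * h) (hw : w ∈ WW a v) : h * w * h⁻¹ ∈ WW a v := by
  have ha : h * a * h⁻¹ = a := by rw [hh, mul_inv_cancel_right]
  have h1 := cjg_comm h (F.mem_W.1 hw).1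
  rw [ha] at h1
  refine F.mem_W.2 ⟨h1, ?_⟩
  have h2 := cjg_comm h (F.mem_W.1 hw).2
  rcases F.H_cases hh with e | e <;> rw [e] at h2
  · exact h2
  · calc h * w * h⁻¹ * v = h * w * h⁻¹ * ((v : G) * a) * a := by
          rw [mul_assoc _ ((v : G) * a), mul_assoc (v : G) a a, F.aa, mul_one]
      _ = (v : G) * a * (h * w * h⁻¹) * a := by rw [h2]
      _ = (v : G) * (a * a) * (h * w * h⁻¹) := by rw [mul_assoc _ (h * w * h⁻¹) (a : G), h1]; group
      _ = (v : G) * (h * w * h⁻¹) := by rw [F.aa, mul_one]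

theorem FF.cj_X {h x : G} (hh : h * a = a * h) (hx : IsX a v x) : IsX a v (h * x * h⁻¹) := by
  refine ⟨F.cj_W hh hx.1, (isConj_cj_iff h x z).2 hx.2.1, ?_⟩
  have := hx.2.2.cj h
  rwa [cjg_mul, show h * (a : G) * h⁻¹ = a by rw [hh, mul_inv_cancel_right]] at this

/-- An involution centralising `a` but not `v` is not conjugate to `z`. -/
theorem FF.outer_atype {x : G} (hx2 : x * x = 1) (hxa : x * a = a * x) (hxv : x * v ≠ v * x) : AType z x := by
  classical
  haveI : Fact (Nat.Prime 2) := ⟨Nat.prime_two⟩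
  have hx1 : x ≠ 1 := fun e => hxv (by rw [e, one_mul, mul_one])
  obtain ⟨h, hh, hT'⟩ := F.S.to_T (P := Subgroup.zpowers x)
    (IsPGroup.of_card (n := 1) (by rw [Nat.card_zpowers, orderOf_eq_prime (by rw [pow_two]; exact hx2) hx1, pow_one]))
    (Subgroup.zpowers_le.2 (Subgroup.mem_centralizer_singleton_iff.2 hxa))
  have hT := hT' x (Subgroup.mem_zpowers x)
  have hha := Subgroup.mem_centralizer_singleton_iff.1 hh
  set x' := h * x * h⁻¹ with hx'
  have hout : x' * v ≠ v * x' := by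
    intro hc
    have hw : x' ∈ WW a v := F.mem_W.2 ⟨by
      have := cjg_comm h hxa
      rwa [show h * (a : G) * h⁻¹ = a by rw [hha, mul_inv_cancel_right]] at this, hc⟩
    have hi : h⁻¹ * a = a * h⁻¹ := (Commute.inv_left hha :)
    have := F.cj_W hi hw
    rw [hx', show h⁻¹ * (h * x * h⁻¹) * h⁻¹⁻¹ = x by group] at this
    exact hxv (F.mem_W.1 this).2
  have hs := sqT_ok
  simp only [Bool.and_eq_true, beq_iff_eq, List.all_eq_true, Nat.beq_eq] at hs
  obtain ⟨e, he, hec⟩ := List.mem_map.1 (hs.1 ▸ (F.S.mem_T _).1 hT : φ (tc hT) ∈ sqT.map Prod.fst)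
  have he2 : e.2 = oneC := by
    rw [← F.S.oneT]
    have h1 : e.2 = φ (tc (mul_mem hT hT)) := by rw [F.S.mulT hT hT, ← hec]; exact (hs.2 e he).symm
    rw [h1, F.S.tc_inj, hx', ← cjg_mul, hx2, mul_one, mul_inv_cancel]
  have hd := dataF_outer
  simp only [List.all_eq_true, Bool.or_eq_true, Bool.and_eq_true, Bool.not_eq_true', memC_iff, ← Bool.not_eq_true,
    Nat.beq_eq] at hd
  have hA : AType z x' := by
    rcases hd e he with (h' | h') | h'
    · exfalso; apply hout; rw [hec, ← F.vcode] at h'; exact (F.S.commT hT F.vT).1 h'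
    · exact absurd he2 h'
    · exact (F.aF_iff hT).2 (hec ▸ h'.1)
  have h2 := hA.cj h⁻¹
  rwa [hx', show h⁻¹ * (h * x * h⁻¹) * h⁻¹⁻¹ = x by group] at h2

/-- The code of an outer involution of `T` is listed with a rotation. -/
theorem FF.outer_rot {y : G} (hy : y ∈ TT a) (hy2 : y * y = 1) (hyv : y * v ≠ v * y) :
    ∃ p ∈ rotT, p.1 = φ (tc hy) := by
  have hs := sqT_ok
  simp only [Bool.and_eq_true, beq_iff_eq, List.all_eq_true, Nat.beq_eq] at hs
  obtain ⟨e, he, hec⟩ := List.mem_map.1 (hs.1 ▸ (F.S.mem_T _).1 hy : φ (tc hy) ∈ sqT.map Prod.fst)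
  have he2 : e.2 = oneC := by
    have h1 : e.2 = φ (tc (mul_mem hy hy)) := by rw [F.S.mulT hy hy, ← hec]; exact (hs.2 e he).symm
    rw [h1, ← F.S.oneT, F.S.tc_inj, hy2]
  have hd := dataF_outer
  simp only [List.all_eq_true, Bool.or_eq_true, Bool.and_eq_true, Bool.not_eq_true', List.any_eq_true,
    ← Bool.not_eq_true, Nat.beq_eq] at hd
  rcases hd e he with (h' | h') | ⟨-, p, hp, hpe⟩
  · exfalso; apply hyv; rw [hec, ← F.vcode] at h'; exact (F.S.commT hy F.vT).1 h'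
  · exact absurd he2 h'
  · exact ⟨p, hp, hpe.trans hec⟩

omit F in
/-- An outer involution fixing the first two generators. -/
structure YY (a v : CC z) (f y : G) : Prop where
  mem : y ∈ TT a
  sq : y * y = 1
  swap : y * v * y⁻¹ = (v : G) * a
  fix : y * f * y⁻¹ = f

omit F in
theorem YY.fa {f y : G} (Y : YY a v f y) : y * a = a * y :=
  Subgroup.mem_centralizer_singleton_iff.1 (Subgroup.mem_inf.1 Y.mem).2

omit F in
theorem YY.fz {f y : G} (Y : YY a v f y) : y * z = z * y :=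
  Subgroup.mem_centralizer_singleton_iff.1 (Subgroup.mem_inf.1 Y.mem).1

omit F in
theorem YY.ff {f y : G} (Y : YY a v f y) : y * f = f * y := mul_inv_eq_iff_eq_mul.1 Y.fix

theorem FF.Y_out {f y : G} (Y : YY a v f y) : y * v ≠ v * y := fun e => by
  have h := Y.swap
  rw [e, mul_inv_cancel_right] at h
  exact F.V_ne.1 h.symm

/-- Existence of the outer involution. -/
theorem FF.exists_Y {θ : WW a v →* PS} (H : Th F θ) {f : G} (hf : IsX a v f)
    (hfv : θ ⟨f, hf.1⟩ = PP fM2) : ∃ y, YY a v f y := by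
  obtain ⟨y0, hy0, -, hyv⟩ := F.exists_y0
  have hy0a := Subgroup.mem_centralizer_singleton_iff.1 (F.S.T_le hy0)
  have hy0z := Subgroup.mem_centralizer_singleton_iff.1 (Subgroup.mem_inf.1 hy0).1
  obtain ⟨hd2, hf2, -, -, hdf3, hfd, -⟩ := rels 0 (by norm_num)
  have hzf : (z * f) ^ 3 = 1 := H.cube F.z_X hf (by rw [H.zval, hfv]; exact hdf3)
  have hfz : f ≠ z := fun e => hfd (by rw [← hfv, ← H.zval]; exact congrArg θ (Subtype.ext e))
  set u := y0 * f * y0⁻¹ with hu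
  have huX : IsX a v u := F.cj_X hy0a hf
  have hzy : y0 * z * y0⁻¹ = z := by rw [hy0z, mul_inv_cancel_right]
  have hzu : (z * u) ^ 3 = 1 := by
    rw [hu, show z * (y0 * f * y0⁻¹) = y0 * (z * f) * y0⁻¹ by rw [cjg_mul, hzy], conj_pow, hzf, mul_one,
      mul_inv_cancel]
  obtain ⟨r', hr1, hr2⟩ := move (H.ord huX) (fun e => hfz (by
      have := H.inj huX F.z_X (e.trans H.zval.symm)
      rw [hu] at this
      exact (cjg_eq y0 f z).1 (this.trans hzy.symm)))
    (by rw [← H.zval, ← map_mul, ← map_pow, H.one]; exact Or.inl hzu)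
  obtain ⟨⟨r, hrW⟩, rfl⟩ := H.surj r'
  have hrz : r * z = z * r := H.comm F.z_X hrW (by rw [H.zval]; exact hr1)
  have hru : r * f * r⁻¹ = u := H.inj (F.X_cj hf hrW) huX (by
    rw [← hr2, ← hfv, ← map_inv, ← map_mul, ← map_mul]; rfl)
  set y1 := r⁻¹ * y0 with hy1
  obtain ⟨hra, hrv⟩ := F.mem_W.1 hrW
  have hrT : r ∈ TT a := Subgroup.mem_inf.2 ⟨Subgroup.mem_centralizer_singleton_iff.2 hrz,
    Subgroup.mem_centralizer_singleton_iff.2 hra⟩
  have hy1T : y1 ∈ TT a := mul_mem (inv_mem hrT) hy0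
  have hfix : y1 * f * y1⁻¹ = f := by
    rw [hy1, show r⁻¹ * y0 * f * (r⁻¹ * y0)⁻¹ = r⁻¹ * (y0 * f * y0⁻¹) * r by group, ← hu, ← hru]; group
  have hswap : y1 * v * y1⁻¹ = (v : G) * a := by
    rw [hy1, show r⁻¹ * y0 * v * (r⁻¹ * y0)⁻¹ = r⁻¹ * (y0 * v * y0⁻¹) * r by group, hyv, mul_assoc,
      ← F.V_comm (Or.inr (Or.inr (Or.inr rfl))) hrW, inv_mul_cancel_left]
  have hy1a := Subgroup.mem_centralizer_singleton_iff.1 (F.S.T_le hy1T)
  have hy1z := Subgroup.mem_centralizer_singleton_iff.1 (Subgroup.mem_inf.1 hy1T).1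
  have ha1 : y1 * a * y1⁻¹ = a := by rw [hy1a, mul_inv_cancel_right]
  have hswap2 : y1 * ((v : G) * a) * y1⁻¹ = v := by rw [cjg_mul, hswap, ha1, mul_assoc, F.aa, mul_one]
  have hsqW : y1 * y1 ∈ WW a v := F.mem_W.2 ⟨by rw [mul_assoc, hy1a, ← mul_assoc, hy1a, mul_assoc], by
    refine mul_inv_eq_iff_eq_mul.1 ?_
    rw [show y1 * y1 * v * (y1 * y1)⁻¹ = y1 * (y1 * v * y1⁻¹) * y1⁻¹ by group, hswap, hswap2]⟩
  have hy1f := mul_inv_eq_iff_eq_mul.1 hfix
  have hV := H.cent_small hf hfz hzf hsqW (by rw [mul_assoc, hy1z, ← mul_assoc, hy1z, mul_assoc])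
    (by rw [mul_assoc, hy1f, ← mul_assoc, hy1f, mul_assoc])
  have hfixV : y1 * (y1 * y1) * y1⁻¹ = y1 * y1 := by group
  rcases hV with e | e | e | e
  · exact ⟨y1, hy1T, e, hswap, hfix⟩
  · refine ⟨y1 * v, mul_mem hy1T F.vT, ?_, ?_, ?_⟩
    · rw [show y1 * v * (y1 * v) = y1 * v * y1⁻¹ * (y1 * y1) * v by group, hswap, e, mul_assoc (v : G) a a, F.aa,
        mul_one, F.vv]
    · rw [show y1 * v * v * (y1 * v)⁻¹ = y1 * v * y1⁻¹ by group, hswap]
    · rw [show y1 * v * f * (y1 * v)⁻¹ = y1 * ((v : G) * f * (v : G)⁻¹) * y1⁻¹ by group, ← (F.mem_W.1 hf.1).2,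
        mul_inv_cancel_right, hfix]
  · rw [e, hswap] at hfixV; exact absurd hfixV F.V_ne.1
  · rw [e, hswap2] at hfixV; exact absurd hfixV.symm F.V_ne.1

end Cfsg.Agent.Fus.HeUniq
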