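import Cfsg.Agent.Lib.Fus.HeUniq.ModelFacts
import Cfsg.Agent.Lib.Fus.HeUniq.Split

/-!
# The centraliser is one of four models
-/

set_option autoImplicit false
set_option linter.style.haveILetI false
set_option linter.unusedSectionVars false
set_option maxRecDepth 100000

namespace Cfsg.Agent.Fus.HeUniq

/-- The code of an element of the model of `Q`. -/
def qcode (n : ℕ) : ℕ := pair16 (enc (qel n)) (enc 1)

/-- Coordinates of a group in one of the models. -/
structure Coords (H : Type*) [Group H] (Q : Subgroup H) (z : H) (b tw : Bool) (φ : H → ℕ) : Prop where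
  inj : Function.Injective φ
  map_mul : ∀ g h, φ (g * h) = mulM (φ g) (φ h)
  range : ∀ c, c ∈ elemList b tw ↔ ∃ g, φ g = c
  map_z : φ z = qcode 64
  map_Q : ∀ g, g ∈ Q ↔ ∃ n : Fin 128, φ g = qcode n

theorem getD_mem {α : Type*} {l : List α} {j : ℕ} {d : α} (h : j < l.length) : l.getD j d ∈ l := by
  rw [List.getD_eq_getElem _ _ h]; exact List.getElem_mem h

theorem permOf_code {c : ℕ × ℕ} (h : okCode c = true) : enc (permOf c) = c.1 := by
  simp only [okCode, Bool.and_eq_true, Nat.beq_eq, Nat.blt_eq] at h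
  obtain ⟨⟨⟨h1, h2⟩, h3⟩, h4⟩ := h
  have key : ∀ i : Fin 16, dig c.2 (dig c.1 i) = i ∧ dig c.1 (dig c.2 i) = i := fun i => by
    have e : ∀ a b : ℕ, mul16 a b = 18364758544493064720 → dig a (dig b i) = i := fun a b hab => by
      have h5 := congrArg (fun t => dig t (i : ℕ)) hab
      rw [mul16_eq, dig_packN 16 _ (fun j => dig_lt _ _) i i.2, ← enc_one, dig_enc] at h5
      simpa using h5
    exact ⟨e _ _ h1, e _ _ h2⟩
  rw [permOf, dif_pos key]
  have hdig : ∀ i : Fin 16, dig (packN 16 fun i => dig c.1 i) i = dig c.1 i :=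
    fun i => dig_packN 16 _ (fun j => dig_lt _ _) i i.2
  show packN 16 (fun i => dig c.1 (Fin.ofNat 16 i : Fin 16)) = c.1
  rw [packN_congr 16 _ (fun i => dig c.1 i) fun i hi => by rw [show ((Fin.ofNat 16 i : Fin 16) : ℕ) = i from Nat.mod_eq_of_lt hi]]
  have : ∀ (n c : ℕ), c < 16 ^ n → packN n (fun i => dig c i) = c := by
    intro n
    induction n with
    | zero => intro c hc; simp [packN] at hc ⊢; omega
    | succ n ih =>
      intro c hc
      have hd : ∀ i, dig c (i + 1) = dig (c / 16) i := fun i => by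
        show c >>> (4 * (i + 1)) &&& 15 = (c / 16) >>> (4 * i) &&& 15
        rw [Nat.shiftRight_eq_div_pow, Nat.shiftRight_eq_div_pow, Nat.div_div_eq_div_mul, mul_add, pow_add]
        ring_nf
      simp only [packN, hd]
      rw [ih (c / 16) (by rw [pow_succ] at hc; omega)]
      have h0 : dig c 0 = c % 16 := by
        show c >>> (4 * 0) &&& 15 = _
        rw [Nat.shiftRight_eq_div_pow, show (15 : ℕ) = 2 ^ 4 - 1 from rfl, Nat.and_two_pow_sub_one_eq_mod]
        norm_num
      rw [h0]
      norm_num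
      omega
  exact this 16 c.1 h3

theorem enc_repP {b : Bool} {j : ℕ} (hj : j < 168) : enc (repP b j) = ((repList b).getD j (0, 0)).1 := by
  have h := tables_ok b false
  simp only [Bool.and_eq_true, List.all_eq_true, Nat.beq_eq] at h
  exact permOf_code (h.1.1.1.1 _ (getD_mem (by rw [h.1.2]; exact hj)))

theorem enc_covP {b tw : Bool} {j : ℕ} (hj : j < 168) : enc (covP b tw j) = ((covList b tw).getD j (0, 0)).1 := by
  have h := tables_ok b tw
  simp only [Bool.and_eq_true, List.all_eq_true, Nat.beq_eq] at h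
  exact permOf_code (h.1.1.1.2 _ (getD_mem (by rw [h.2]; exact hj)))

theorem enc_m1 : enc (permOf m1c) = m1c.1 := by
  have h := tables_ok false false
  simp only [Bool.and_eq_true] at h
  exact permOf_code h.1.1.2

theorem enc_cz (tw : Bool) : enc (cz tw) = bif tw then m1c.1 else 18364758544493064720 := by
  cases tw
  · exact enc_one
  · exact enc_m1

theorem cent_qel {m : Equiv.Perm (Fin 16)} (h : ∀ n : Fin 128, m * qel n = qel n * m) :
    m = qel 0 ∨ m = qel 64 := by
  obtain ⟨htr, hfix, h0⟩ := cent_data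
  have hm0 : m 0 = qel 0 0 ∨ m 0 = qel 64 0 := hfix _ fun i => by
    have e := h ⟨2 ^ (3 + (i : ℕ)), lt_of_le_of_lt (Nat.pow_le_pow_right (by norm_num) (by omega : 3 + (i : ℕ) ≤ 6)) (by norm_num)⟩
    have := congrArg (fun p : Equiv.Perm (Fin 16) => p 0) e
    simp only [Equiv.Perm.mul_apply, h0 i] at this
    exact this.symm
  have hc : ∀ k : Fin 128, (k : ℕ) = 0 ∨ (k : ℕ) = 64 → ∀ n : Fin 128, qel k * qel n = qel n * qel k := by
    intro k hk n
    rw [← qel_mul, ← qel_mul]
    congr 1
    have e : ∀ n : Fin 128, mulQ 0 n = mulQ n 0 ∧ mulQ 64 n = mulQ n 64 := by decide +kernel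
    rcases hk with e' | e' <;> rw [e'] <;> [exact (e n).1; exact (e n).2]
  have key : ∀ k : Fin 128, ((k : ℕ) = 0 ∨ (k : ℕ) = 64) → m 0 = qel k 0 → m = qel k := by
    intro k hk hk0
    refine Equiv.ext fun p => ?_
    obtain ⟨n, rfl⟩ := htr p
    have h1 := congrArg (fun q : Equiv.Perm (Fin 16) => q 0) (h n)
    have h2 := congrArg (fun q : Equiv.Perm (Fin 16) => q 0) (hc k hk n)
    simp only [Equiv.Perm.mul_apply] at h1 h2
    rw [h1, h2, hk0]
  rcases hm0 with e | e
  · exact Or.inl (key ⟨0, by norm_num⟩ (Or.inl rfl) e)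
  · exact Or.inr (key ⟨64, by norm_num⟩ (Or.inr rfl) e)

/-- A second component of an image element. -/
def qOf (b tw : Bool) (p : ℕ) : Equiv.Perm (Fin 16) := covP b tw ((imX b).idxOf p)

theorem idx_lt {b : Bool} {p : ℕ} (hp : p ∈ imX b) : (imX b).idxOf p < 168 := by
  rw [← (imX_nodup b).2]; exact List.idxOf_lt_length_iff.2 hp

theorem getD_idx {b : Bool} {p : ℕ} (hp : p ∈ imX b) : (imX b).getD ((imX b).idxOf p) 0 = p := by
  rw [List.getD_eq_getElem _ _ (List.idxOf_lt_length_iff.2 hp), List.getElem_idxOf]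

theorem idx_getD {b : Bool} {j : ℕ} (hj : j < 168) : (imX b).idxOf ((imX b).getD j 0) = j := by
  rw [List.getD_eq_getElem _ _ (by rw [(imX_nodup b).2]; exact hj)]
  exact (imX_nodup b).1.idxOf_getElem _ _

theorem cz_sq (tw : Bool) : cz tw * cz tw = 1 := by
  cases tw
  · exact one_mul 1
  · refine enc_inj ?_
    rw [← mul16_enc, enc_cz, enc_one]
    have h := List.all_eq_true.1 (canon_ok false true) 0 (by simp)
    simp only [chkCanon, Bool.and_eq_true, Bool.or_eq_true, Bool.not_true, Bool.false_eq_true, false_or,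
      Nat.beq_eq] at h
    exact h.2.2

theorem covP_cz {b tw : Bool} {j : ℕ} (hj : j < 168) : covP b tw j * cz tw = cz tw * covP b tw j := by
  refine enc_inj ?_
  rw [← mul16_enc, ← mul16_enc, enc_cz, enc_covP hj]
  have h := List.all_eq_true.1 (canon_ok b tw) j (List.mem_range.2 hj)
  simp only [chkCanon, Bool.and_eq_true, Nat.beq_eq] at h
  exact h.1.1

theorem qOf_one (b tw : Bool) : qOf b tw one6 = 1 := by
  refine enc_inj ?_
  rw [qOf, enc_covP (idx_lt (imX_one b)), enc_one]
  cases b <;> cases tw <;> decide +kernel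

theorem qOf_mul (b tw : Bool) {p q : ℕ} (hp : p ∈ imX b) (hq : q ∈ imX b) :
    ∃ s : Bool, qOf b tw p * qOf b tw q = qOf b tw (comp p q) * bpow (cz tw) s := by
  have hcomp : ∀ L M v, app (comp L M) v = app L (app M v) := by
    intro L M v
    have hb : ∀ (bb : Bool) (c : ℕ), app L (bif bb then c else 0) = bif bb then app L c else 0 := fun bb c => by
      cases bb <;> simp [app]
    conv_rhs => arg 2; rw [app]
    simp only [app_xor, hb]
    rw [app]
    simp only [show col (comp L M) 0 = _ from col_comp L M 0, show col (comp L M) 1 = _ from col_comp L M 1,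
      show col (comp L M) 2 = _ from col_comp L M 2, show col (comp L M) 3 = _ from col_comp L M 3,
      show col (comp L M) 4 = _ from col_comp L M 4, show col (comp L M) 5 = _ from col_comp L M 5]
    rfl
  have hassoc : ∀ L M N, comp (comp L M) N = comp L (comp M N) := fun L M N =>
    eq_of_cols (comp_lt _ _) (comp_lt _ _) fun i => by rw [col_comp, col_comp, col_comp, hcomp]
  have hcqX : ∀ {r : ℕ}, r ∈ imX b → ∀ s, bpow (cz tw) s * qOf b tw r = qOf b tw r * bpow (cz tw) s :=
    fun hr s => by cases s <;> simp [bpow, qOf, covP_cz (idx_lt hr)]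
  have hone : ∀ r ∈ imX b, comp r one6 = r := by
    cases b <;> decide +kernel
  let S : Set ℕ := {q | q ∈ imX b ∧ ∀ p ∈ imX b, ∃ s : Bool, qOf b tw p * qOf b tw q = qOf b tw (comp p q) * bpow (cz tw) s}
  have hmulS : ∀ {q r}, q ∈ S → r ∈ S → comp q r ∈ S := by
    rintro q r ⟨hq, Hq⟩ ⟨hr, Hr⟩
    refine ⟨imX_closed hq hr, fun p hp => ?_⟩
    obtain ⟨s1, e1⟩ := Hr q hq
    obtain ⟨s2, e2⟩ := Hq p hp
    obtain ⟨s3, e3⟩ := Hr _ (imX_closed hp hq)
    have hzz : ∀ a c : Bool, bpow (cz tw) a * bpow (cz tw) c = bpow (cz tw) (a ^^ c) := fun a c => by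
      cases a <;> cases c <;> simp [bpow, cz_sq]
    refine ⟨s3 ^^ s2 ^^ s1, ?_⟩
    have e1' : qOf b tw (comp q r) = qOf b tw q * qOf b tw r * bpow (cz tw) s1 := by
      rw [e1, mul_assoc, hzz, Bool.xor_self]; simp [bpow]
    rw [← hassoc, e1', ← mul_assoc, ← mul_assoc, e2, mul_assoc (qOf b tw _) (bpow _ s2), hcqX hr, ← mul_assoc,
      e3, mul_assoc, mul_assoc, hzz, hzz, Bool.xor_assoc]
  have hgen : ∀ g ∈ genList b, g < 168 := by cases b <;> decide
  have hgS : ∀ g ∈ genList b, (imX b).getD g 0 ∈ S := by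
    intro g hg
    refine ⟨getD_mem (by rw [(imX_nodup b).2]; exact hgen g hg), fun p hp => ?_⟩
    have h := List.all_eq_true.1 (cov_ok b tw) _ (List.mem_range.2 (idx_lt hp))
    simp only [chkCov, List.all_eq_true, Bool.or_eq_true, Nat.beq_eq, getD_idx hp] at h
    have hk := idx_lt (imX_closed hp (getD_mem (l := imX b) (d := 0) (by rw [(imX_nodup b).2]; exact hgen g hg)))
    have hv := h g hg
    rw [← enc_covP (idx_lt hp), ← enc_covP (hgen g hg), ← enc_covP hk, ← enc_cz tw, mul16_enc, mul16_enc] at hv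
    rw [qOf, qOf, idx_getD (hgen g hg)]
    rcases hv with hv | hv
    · exact ⟨false, by rw [show bpow (cz tw) false = 1 from rfl, mul_one]; exact enc_inj hv⟩
    · exact ⟨true, enc_inj hv⟩
  have hall : ∀ k j, j < 168 → (imX b).getD ((fun i => ((predList b).getD i (0, 0)).1)^[k] j) 0 = one6 →
      (imX b).getD j 0 ∈ S := by
    have hS1 : one6 ∈ S := ⟨imX_one b, fun p hp => ⟨false, by rw [qOf_one, hone p hp]; rfl⟩⟩
    intro k
    induction k with
    | zero => intro j hj h; simp only [Function.iterate_zero, id_eq] at h; exact h ▸ hS1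
    | succ k ih =>
      intro j hj h
      rw [Function.iterate_succ_apply] at h
      have hc := List.all_eq_true.1 (pred_ok b) j (List.mem_range.2 hj)
      simp only [chkPred, Bool.and_eq_true, Bool.or_eq_true, Nat.beq_eq, List.contains_iff_mem] at hc
      rcases hc.1 with e | ⟨hg, e⟩
      · rw [e]; exact hS1
      · have hp1 : ((predList b).getD j (0, 0)).1 < 168 := by
          have hl : ∀ b, (predList b).length = 168 ∧ ∀ e ∈ predList b, e.1 < 168 := by decide +kernel
          exact (hl b).2 _ (getD_mem (by rw [(hl b).1]; exact hj))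
        rw [← e]
        exact hmulS (ih _ hp1 h) (hgS _ hg)
  have hqS : q ∈ S := by
    have hc := List.all_eq_true.1 (pred_ok b) _ (List.mem_range.2 (idx_lt hq))
    simp only [chkPred, Bool.and_eq_true, Nat.beq_eq] at hc
    have := hall 16 _ (idx_lt hq) hc.2
    rwa [getD_idx hq] at this
  exact hqS.2 p hp

section Main

attribute [local irreducible] qel mulQ theta mul16 enc

variable {H : Type*} [Group H] [Finite H] {Q : Subgroup H} {z : H} {x w : Fin 3 → H} (st : Setting Q z x w)
include st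

/-- A permutation inducing the same map as an element. -/
def IsOver (g : H) (m : Equiv.Perm (Fin 16)) : Prop := ∀ n : Fin 128, m * qel n = qel (st.cj g n) * m

theorem Setting.over_mul {g h : H} {m m' : Equiv.Perm (Fin 16)} (h1 : IsOver st g m) (h2 : IsOver st h m') :
    IsOver st (g * h) (m * m') := fun n => by
  rw [mul_assoc, h2 n, ← mul_assoc, h1, mul_assoc, st.cj_comp]

theorem Setting.over_theta (n : Fin 128) : IsOver st (theta z x w n) (qel n) := fun k => by
  have e1 := st.cj_spec (theta z x w n) k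
  rw [mul_inv_eq_iff_eq_mul, ← st.frame.theta_mul, ← st.frame.theta_mul] at e1
  have e2 := st.frame.theta_inj ⟨_, mulQ_lt n k⟩ ⟨_, mulQ_lt (st.cj (theta z x w n) k) n⟩ e1
  rw [← qel_mul, ← qel_mul, show mulQ n k = mulQ (st.cj (theta z x w n) k) n from congrArg Fin.val e2]

theorem Setting.over_z16 : IsOver st (1 : H) z16 := fun n => by
  rw [st.cj_unique (show (1 : H) * theta z x w n * 1⁻¹ = theta z x w n by group), ← qel_z]
  show qel ((⟨64, by norm_num⟩ : Fin 128) : ℕ) * qel n = qel n * qel ((⟨64, by norm_num⟩ : Fin 128) : ℕ)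
  rw [← qel_mul, ← qel_mul]
  congr 1
  have e : ∀ n : Fin 128, mulQ 64 n = mulQ n 64 := by decide +kernel
  exact e n

theorem Setting.over_z : IsOver st z 1 := fun n => by
  rw [one_mul, mul_one, st.cj_unique (k := n) (by rw [st.frame.zc, mul_inv_cancel_right])]

theorem Setting.exists_over {b : Bool} (hX : ∀ g, st.lin g ∈ imX b) (g : H) :
    ∃ n : Fin 128, IsOver st g (repP b ((imX b).idxOf (st.lin g)) * qel n) := by
  set j := (imX b).idxOf (st.lin g) with hjdef
  have hj : j < 168 := idx_lt (hX g)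
  have hp2 : ∀ i : Fin 6, 2 ^ (i : ℕ) < 128 := by decide
  have hr := List.all_eq_true.1 (rep_ok b) j (List.mem_range.2 hj)
  simp only [chkRep, List.all_eq_true, List.mem_range, Bool.or_eq_true, Nat.beq_eq] at hr
  rw [hjdef, getD_idx (hX g), ← hjdef] at hr
  -- the signs
  have hs : ∀ i : Fin 6, ∃ s : Bool, repP b j * qel (mulQ (2 ^ (i : ℕ)) (bif s then 64 else 0)) =
      qel (st.cj g (2 ^ (i : ℕ))) * repP b j := by
    intro i
    have hcol := st.col_lin g i
    have hlt : col (st.lin g) i < 64 := col_lt _ _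
    obtain ⟨k, hk, hkk⟩ : ∃ k : Fin 128, (k : ℕ) &&& 63 = col (st.lin g) i ∧
        repP b j * qel (2 ^ (i : ℕ)) = qel k * repP b j := by
      have h64 : ∀ u : Fin 64, ((u : ℕ) + 64) &&& 63 = u ∧ (u : ℕ) &&& 63 = u := by decide +kernel
      have hi := hr i i.2
      rw [← enc_repP hj, mul16_enc, mul16_enc, mul16_enc] at hi
      rcases hi with e | e
      · exact ⟨⟨_, by omega⟩, (h64 ⟨_, hlt⟩).2, enc_inj e⟩
      · exact ⟨⟨col (st.lin g) i + 64, by omega⟩, (h64 ⟨_, hlt⟩).1, enc_inj e⟩
    have hcases : ∀ k c : Fin 128, (k : ℕ) &&& 63 = (c : ℕ) &&& 63 → k = c ∨ (c : ℕ) = mulQ k 64 := by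
      decide +kernel
    rcases hcases k (st.cj g (2 ^ (i : ℕ))) (hk.trans hcol) with e | e
    · refine ⟨false, ?_⟩
      rw [cond_false, mulQ_zero ⟨_, hp2 i⟩, hkk, e]
    · refine ⟨true, ?_⟩
      have hz := fr16
      have hzc : repP b j * qel 64 = qel 64 * repP b j := by
        have hcm : ∀ j < 168, ∀ b : Bool, Nat.beq (mul16 ((repList b).getD j (0, 0)).1 (enc z16))
            (mul16 (enc z16) ((repList b).getD j (0, 0)).1) = true := by decide +kernel
        have h := hcm j hj b
        rw [Nat.beq_eq, ← enc_repP hj, mul16_enc, mul16_enc] at h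
        rw [qel_z]
        exact enc_inj h
      rw [cond_true, e, show qel (mulQ (2 ^ (i : ℕ)) 64) = _ from qel_mul ⟨_, hp2 i⟩ 64,
        show qel (mulQ k 64) = _ from qel_mul k 64, ← mul_assoc, hkk, mul_assoc,
        show qel ((64 : Fin 128) : ℕ) = qel 64 from rfl, hzc, ← mul_assoc]
  choose s hs using hs
  obtain ⟨e, he⟩ : ∃ e : Fin 64, ∀ i : Fin 6, Nat.testBit e i = s i := by
    have : ∀ f : Fin 6 → Bool, ∃ e : Fin 64, ∀ i : Fin 6, Nat.testBit e i = f i := by decide +kernel
    exact this s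
  obtain ⟨n, hn⟩ := mulQ_inner e
  refine ⟨n, ?_⟩
  have hgenI : ∀ i : Fin 6, repP b j * qel n * qel (2 ^ (i : ℕ)) =
      qel (st.cj g (2 ^ (i : ℕ))) * (repP b j * qel n) := by
    intro i
    have h1 := hn i
    rw [he i] at h1
    have hsum : ∀ i : Fin 6, ∀ s : Bool,
        2 ^ (i : ℕ) + (bif s then 64 else 0) = mulQ (2 ^ (i : ℕ)) (bif s then 64 else 0) := by decide +kernel
    have hlt : mulQ (2 ^ (i : ℕ)) (bif s i then 64 else 0) < 128 :=
      mulQ_lt ⟨_, hp2 i⟩ ⟨_, by cases s i <;> simp⟩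
    rw [hsum] at h1
    rw [mul_assoc, show qel n * qel (2 ^ (i : ℕ)) = _ from (qel_mul n ⟨_, hp2 i⟩).symm, h1,
      show qel (mulQ _ n) = _ from qel_mul ⟨_, hlt⟩ n, ← mul_assoc, hs i, mul_assoc]
  intro k
  induction hk : (k : ℕ) using Nat.strong_induction_on generalizing k with
  | _ v ih =>
    subst hk
    rcases Nat.eq_zero_or_pos (k : ℕ) with h0 | h0
    · have : st.cj g 0 = (0 : Fin 128) := st.cj_unique (n := (0 : Fin 128)) (by
        show g * theta z x w 0 * g⁻¹ = theta z x w 0
        rw [st.frame.theta_zero]; group)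
      rw [h0, this]
      show _ * qel 0 = qel 0 * _
      rw [qel_zero, mul_one, one_mul]
    · obtain ⟨a, k', hlt, e'⟩ := mulQ_pred k h0.ne'
      have ha2 : (2 : ℕ) ^ (a : ℕ) < 128 := lt_of_le_of_lt (Nat.pow_le_pow_right (by norm_num) (by omega : (a : ℕ) ≤ 6)) (by norm_num)
      have hga : repP b j * qel n * qel (2 ^ (a : ℕ)) = qel (st.cj g (2 ^ (a : ℕ))) * (repP b j * qel n) := by
        rcases (by omega : (a : ℕ) < 6 ∨ (a : ℕ) = 6) with ha | ha
        · exact hgenI ⟨a, ha⟩
        · rw [ha, show (2 : ℕ) ^ 6 = 64 from rfl, st.cj_z]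
          show _ = qel 64 * _
          have hzc : ∀ j < 168, ∀ b : Bool, Nat.beq (mul16 ((repList b).getD j (0, 0)).1 (enc z16))
              (mul16 (enc z16) ((repList b).getD j (0, 0)).1) = true := by decide +kernel
          have h := hzc j hj b
          rw [Nat.beq_eq, ← enc_repP hj, mul16_enc, mul16_enc] at h
          have hn64 : qel n * qel 64 = qel 64 * qel n := by
            show qel n * qel ((64 : Fin 128) : ℕ) = qel ((64 : Fin 128) : ℕ) * qel n
            rw [← qel_mul, ← qel_mul]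
            congr 1
            have e : ∀ n : Fin 128, mulQ n 64 = mulQ 64 n := by decide +kernel
            exact e n
          rw [mul_assoc, hn64, ← mul_assoc, qel_z, enc_inj h, mul_assoc]
      rw [← e', show qel (mulQ k' (2 ^ (a : ℕ))) = _ from qel_mul k' ⟨_, ha2⟩, ← mul_assoc, ih k' hlt k' rfl,
        mul_assoc, show qel ((⟨2 ^ (a : ℕ), ha2⟩ : Fin 128) : ℕ) = qel (2 ^ (a : ℕ)) from rfl, hga, ← mul_assoc,
        ← qel_mul, show st.cj g (mulQ k' (2 ^ (a : ℕ))) = _ from st.cj_mul g k' ⟨_, ha2⟩]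

theorem Setting.over_unique {g : H} {m m' : Equiv.Perm (Fin 16)} (h : IsOver st g m) (h' : IsOver st g m') :
    ∃ s : Bool, m' = m * bpow z16 s := by
  have hc : ∀ n : Fin 128, (m⁻¹ * m') * qel n = qel n * (m⁻¹ * m') := fun n => by
    rw [mul_assoc, h' n, ← mul_assoc, show qel (st.cj g n) = m * qel n * m⁻¹ by rw [h n, mul_inv_cancel_right]]
    group
  rcases cent_qel hc with e | e
  · exact ⟨false, by rw [show bpow z16 false = qel 0 from qel_zero.symm, ← e, mul_inv_cancel_left]⟩
  · exact ⟨true, by rw [show bpow z16 true = qel 64 from qel_z.symm, ← e, mul_inv_cancel_left]⟩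

theorem Setting.lin_z : st.lin z = one6 := st.lin_mem (by
  have := st.mem 64
  rwa [show theta z x w ((64 : Fin 128) : ℕ) = z from st.frame.theta_z] at this)

theorem Setting.z_mem : z ∈ Q := by
  have := st.mem 64
  rwa [show theta z x w ((64 : Fin 128) : ℕ) = z from st.frame.theta_z] at this

variable (b tw : Bool) (hX : ∀ g, st.lin g ∈ imX b)

/-- The elements with the pairs over them. -/
def pairs : Submonoid (H × Equiv.Perm (Fin 16) × Equiv.Perm (Fin 16)) where
  carrier := {d | IsOver st d.1 d.2.1 ∧ ∃ s : Bool, d.2.2 = qOf b tw (st.lin d.1) * bpow (cz tw) s ∧ st.lin d.1 ∈ imX b}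
  one_mem' := ⟨fun n => by
      show (1 : Equiv.Perm (Fin 16)) * qel n = qel (st.cj 1 n) * 1
      rw [one_mul, mul_one, st.cj_unique (k := n) (by group)],
    false, by rw [Prod.fst_one, st.lin_one, qOf_one]; rfl, by rw [Prod.fst_one, st.lin_one]; exact imX_one b⟩
  mul_mem' := by
    rintro ⟨g, m, q⟩ ⟨g', m', q'⟩ ⟨h1, s, hq, hg⟩ ⟨h2, s', hq', hg'⟩
    refine ⟨st.over_mul h1 h2, ?_⟩
    simp only [Prod.fst_mul, Prod.snd_mul] at hq hq' hg hg' ⊢
    obtain ⟨s'', e⟩ := qOf_mul b tw hg hg'
    refine ⟨s'' ^^ (s ^^ s'), ?_, ?_⟩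
    · have hzz : ∀ a c : Bool, bpow (cz tw) a * bpow (cz tw) c = bpow (cz tw) (a ^^ c) := fun a c => by
        cases a <;> cases c <;> simp [bpow, cz_sq]
      have hc : bpow (cz tw) s * qOf b tw (st.lin g') = qOf b tw (st.lin g') * bpow (cz tw) s := by
        cases s <;> simp [bpow, qOf, covP_cz (idx_lt hg')]
      rw [hq, hq', st.lin_mul, mul_assoc, ← mul_assoc (bpow _ s), hc, ← hzz s'' (s ^^ s'), ← hzz s s',
        ← mul_assoc (qOf b tw (comp _ _)), ← e]
      simp only [mul_assoc]
    · rw [st.lin_mul]; exact imX_closed hg hg'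

/-- The same as a subgroup. -/
def pairGroup : Subgroup (H × Equiv.Perm (Fin 16) × Equiv.Perm (Fin 16)) where
  toSubmonoid := pairs st b tw
  inv_mem' := fun {d} hd => by
    have h1 : d ^ (orderOf d - 1) * d = 1 := by
      rw [← pow_succ, Nat.sub_add_cancel (orderOf_pos d), pow_orderOf_eq_one]
    rw [← eq_inv_of_mul_eq_one_left h1]
    exact (pairs st b tw).pow_mem hd _

/-- The pairs over `Q` to be killed. -/
def qPairs : Subgroup (H × Equiv.Perm (Fin 16) × Equiv.Perm (Fin 16)) where
  carrier := {d | ∃ n : Fin 128, ∃ s : Bool, d = (theta z x w n, qel n * bpow z16 (tw && s), bpow (cz tw) (tw && s))}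
  one_mem' := ⟨0, false, by
    rw [Bool.and_false]
    simp only [show ((0 : Fin 128) : ℕ) = 0 from rfl, qel_zero, st.frame.theta_zero, bpow, cond_false, mul_one]; rfl⟩
  mul_mem' := by
    rintro _ _ ⟨n, s, rfl⟩ ⟨k, s', rfl⟩
    refine ⟨⟨mulQ n k, mulQ_lt n k⟩, s ^^ s', ?_⟩
    have hc : ∀ a, bpow z16 a * qel k = qel k * bpow z16 a := by
      intro a
      cases a
      · simp [bpow]
      · show z16 * qel k = qel k * z16
        rw [← qel_z]
        show qel ((64 : Fin 128) : ℕ) * qel k = qel k * qel ((64 : Fin 128) : ℕ)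
        rw [← qel_mul, ← qel_mul]
        congr 1
        have e : ∀ n : Fin 128, mulQ 64 n = mulQ n 64 := by decide +kernel
        exact e k
    have hzz : ∀ a c : Bool, bpow z16 a * bpow z16 c = bpow z16 (a ^^ c) := fun a c => by
      cases a <;> cases c <;> simp [bpow, z16_comm_gens.1]
    have hcc : ∀ a c : Bool, bpow (cz tw) a * bpow (cz tw) c = bpow (cz tw) (a ^^ c) := fun a c => by
      cases a <;> cases c <;> simp [bpow, cz_sq]
    refine Prod.ext (st.frame.theta_mul n k).symm (Prod.ext ?_ ?_)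
    · show qel n * bpow z16 (tw && s) * (qel k * bpow z16 (tw && s')) = qel (mulQ n k) * bpow z16 (tw && (s ^^ s'))
      rw [mul_assoc, ← mul_assoc (bpow z16 _), hc, mul_assoc, hzz, ← mul_assoc, ← qel_mul, Bool.and_xor_distrib_left]
    · show bpow (cz tw) _ * bpow (cz tw) _ = bpow (cz tw) _
      rw [hcc, Bool.and_xor_distrib_left]
  inv_mem' := by
    rintro _ ⟨n, s, rfl⟩
    obtain ⟨d, hd⟩ := mulQ_div n ⟨0, by norm_num⟩
    refine ⟨d, s, ?_⟩
    refine inv_eq_of_mul_eq_one_right (Prod.ext ?_ (Prod.ext ?_ ?_))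
    · show theta z x w n * theta z x w d = 1
      rw [← st.frame.theta_mul, hd]; exact st.frame.theta_zero
    · show qel n * bpow z16 (tw && s) * (qel d * bpow z16 (tw && s)) = 1
      have hc : bpow z16 (tw && s) * qel d = qel d * bpow z16 (tw && s) := by
        cases tw && s
        · simp [bpow]
        · show z16 * qel d = qel d * z16
          rw [← qel_z]
          show qel ((64 : Fin 128) : ℕ) * qel d = qel d * qel ((64 : Fin 128) : ℕ)
          rw [← qel_mul, ← qel_mul]
          congr 1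
          have e : ∀ n : Fin 128, mulQ 64 n = mulQ n 64 := by decide +kernel
          exact e d
      have hsq : bpow z16 (tw && s) * bpow z16 (tw && s) = 1 := by
        cases tw && s <;> simp [bpow, z16_comm_gens.1]
      rw [mul_assoc, ← mul_assoc (bpow z16 _), hc, mul_assoc, hsq, mul_one, ← qel_mul, hd]
      exact qel_zero
    · show bpow (cz tw) _ * bpow (cz tw) _ = 1
      cases tw && s <;> simp [bpow, cz_sq]

include hX

theorem pair_mem {g : H} {m : Equiv.Perm (Fin 16)} (h : IsOver st g m) (s : Bool) :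
    (g, m, qOf b tw (st.lin g) * bpow (cz tw) s) ∈ pairGroup st b tw := ⟨h, s, rfl, hX g⟩

theorem z_pair_mem : (z, (1 : Equiv.Perm (Fin 16)), (1 : Equiv.Perm (Fin 16))) ∈ pairGroup st b tw := by
  have h := pair_mem st b tw hX st.over_z false
  rwa [st.lin_z, qOf_one, show bpow (cz tw) false = 1 from rfl, mul_one] at h

theorem qPairs_le : qPairs st tw ≤ pairGroup st b tw := by
  rintro _ ⟨n, s, rfl⟩
  refine ⟨?_, tw && s, ?_, hX _⟩
  · show IsOver st (theta z x w n) (qel n * bpow z16 (tw && s))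
    cases tw && s
    · simpa [bpow] using st.over_theta n
    · have := st.over_mul (st.over_theta n) st.over_z16
      rwa [mul_one] at this
  · show bpow (cz tw) (tw && s) = qOf b tw (st.lin (theta z x w n)) * bpow (cz tw) (tw && s)
    rw [st.lin_mem (st.mem n), qOf_one, one_mul]

theorem pairs_conj {d e : H × Equiv.Perm (Fin 16) × Equiv.Perm (Fin 16)} (hd : d ∈ pairGroup st b tw)
    (he : e ∈ qPairs st tw) : d * e * d⁻¹ ∈ qPairs st tw := by
  obtain ⟨g, m, q⟩ := d
  obtain ⟨n, s, rfl⟩ := he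
  obtain ⟨hov, s', hq, hg⟩ := hd
  simp only at hov hq hg
  refine ⟨st.cj g n, s, Prod.ext (st.cj_spec g n) (Prod.ext ?_ ?_)⟩
  · show m * (qel n * bpow z16 (tw && s)) * m⁻¹ = qel (st.cj g n) * bpow z16 (tw && s)
    have hz : m * bpow z16 (tw && s) = bpow z16 (tw && s) * m := by
      cases tw && s
      · simp [bpow]
      · have h := hov 64
        rw [show ((64 : Fin 128) : ℕ) = 64 from rfl, st.cj_z] at h
        show m * z16 = z16 * m
        rwa [show qel ((64 : Fin 128) : ℕ) = z16 from qel_z, qel_z] at h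
    rw [← mul_assoc, hov n, mul_assoc (qel _) m, hz, ← mul_assoc, mul_inv_cancel_right]
  · show q * bpow (cz tw) (tw && s) * q⁻¹ = bpow (cz tw) (tw && s)
    have hc : q * bpow (cz tw) (tw && s) = bpow (cz tw) (tw && s) * q := by
      rw [hq]
      cases tw && s <;> cases s' <;> simp [bpow, qOf]
      · exact covP_cz (idx_lt hg)
      · rw [covP_cz (idx_lt hg), mul_assoc, covP_cz (idx_lt hg)]
    rw [hc, mul_inv_cancel_right]

variable [Q.Normal] (e : H ⧸ Q ≃* SL3)
include e

theorem ker_cases {d : H × Equiv.Perm (Fin 16) × Equiv.Perm (Fin 16)} (hd : d ∈ pairGroup st b tw)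
    (h : d.1 ∈ Q) : d ∈ qPairs st tw ∨ d * (z, 1, 1) ∈ qPairs st tw := by
  obtain ⟨g, m, q⟩ := d
  obtain ⟨hov, s, hq, -⟩ := hd
  simp only at hov hq h
  obtain ⟨n, rfl⟩ := st.surj g h
  obtain ⟨i, rfl⟩ := st.over_unique (st.over_theta n) hov
  rw [st.lin_mem (st.mem n), qOf_one, one_mul] at hq
  subst hq
  have hqq : qel n * z16 = qel (mulQ n 64) := by rw [← qel_z]; exact (qel_mul n 64).symm
  have hn64 : theta z x w n * z = theta z x w (mulQ n 64) := by
    have e1 := st.frame.theta_mul n 64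
    rw [show ((64 : Fin 128) : ℕ) = 64 from rfl, st.frame.theta_z] at e1
    exact e1.symm
  cases tw
  · have hcz : bpow (cz false) s = 1 := by cases s <;> rfl
    cases i
    · exact Or.inl ⟨n, false, by simp [bpow, cz]⟩
    · refine Or.inr ⟨⟨mulQ n 64, mulQ_lt n 64⟩, false, Prod.ext hn64 (Prod.ext ?_ ?_)⟩
      · show qel n * z16 * 1 = qel (mulQ n 64) * 1
        rw [hqq]
      · show bpow (cz false) s * 1 = 1
        rw [mul_one, hcz]
  · by_cases his : i = s
    · subst his; exact Or.inl ⟨n, i, by simp⟩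
    · refine Or.inr ⟨⟨mulQ n 64, mulQ_lt n 64⟩, s, Prod.ext hn64 (Prod.ext ?_ ?_)⟩
      · show qel n * bpow z16 i * 1 = qel (mulQ n 64) * bpow z16 (true && s)
        have hs : i = !s := by cases i <;> cases s <;> simp_all
        subst hs
        cases s
        · simp [bpow, hqq]
        · simp [bpow, ← hqq, mul_assoc, z16_comm_gens.1]
      · show bpow (cz true) s * 1 = bpow (cz true) (true && s)
        rw [mul_one, Bool.true_and]

/-- The squares of pairs over involutions of the image lie in `qPairs`. -/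
def SqOK : Prop := ∀ d ∈ pairGroup st b tw, d.1 ∉ Q → d.1 * d.1 ∈ Q → d * d ∈ qPairs st tw

theorem exists_coords_of (hsur : ∀ p ∈ imX b, ∃ g, st.lin g = p) (hsq : SqOK st b tw) :
    ∃ φ : H → ℕ, Coords H Q z b tw φ := by
  classical
  set D := pairGroup st b tw
  let N : Subgroup D := (qPairs st tw).subgroupOf D
  haveI : N.Normal := ⟨fun n hn d => by
    rw [Subgroup.mem_subgroupOf] at hn ⊢
    exact pairs_conj st b tw hX d.2 hn⟩
  let π0 : D →* SL3 := (e.toMonoidHom.comp (QuotientGroup.mk' Q)).comp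
    ((MonoidHom.fst H (Equiv.Perm (Fin 16) × Equiv.Perm (Fin 16))).comp D.subtype)
  have hπ1 : ∀ d : D, π0 d = 1 ↔ d.1.1 ∈ Q := fun d => by
    show e ((d.1.1 : H) : H ⧸ Q) = 1 ↔ _
    rw [MulEquiv.map_eq_one_iff, QuotientGroup.eq_one_iff]
  have hN : N ≤ π0.ker := fun d hd => by
    rw [MonoidHom.mem_ker, hπ1]
    obtain ⟨n, s, hns⟩ := Subgroup.mem_subgroupOf.1 hd
    rw [hns]; exact st.mem n
  let π := QuotientGroup.lift N π0 hN
  let z1 : D := ⟨_, z_pair_mem st b tw hX⟩
  have hmk : ∀ d d' : D, (d : D ⧸ N) = d' ↔ (d : H × Equiv.Perm (Fin 16) × Equiv.Perm (Fin 16))⁻¹ * d' ∈ qPairs st tw :=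
    fun d d' => by rw [QuotientGroup.eq, Subgroup.mem_subgroupOf]; rfl
  obtain ⟨ψ, hψ⟩ := exists_char (zb := (z1 : D ⧸ N)) (by
      intro g
      obtain ⟨d, rfl⟩ := QuotientGroup.mk_surjective g
      rw [← QuotientGroup.mk_mul, ← QuotientGroup.mk_mul]
      congr 1
      exact Subtype.ext (Prod.ext (st.frame.zc _) (Prod.ext ((one_mul _).trans (mul_one _).symm) ((one_mul _).trans (mul_one _).symm))))
    (by
      rw [← QuotientGroup.mk_mul, show z1 * z1 = 1 from Subtype.ext (Prod.ext st.frame.zsq (Prod.ext (one_mul _) (one_mul _)))]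
      rfl)
    (by
      rw [Ne, QuotientGroup.eq_one_iff, Subgroup.mem_subgroupOf]
      rintro ⟨n, s, hns⟩
      simp only [z1, Prod.mk.injEq] at hns
      obtain ⟨h1, h2, h3⟩ := hns
      have hn : n = (64 : Fin 128) := st.frame.theta_inj _ _ (h1.symm.trans st.frame.theta_z.symm)
      subst hn
      rw [show ((64 : Fin 128) : ℕ) = 64 from rfl, qel_z] at h2
      cases hts : tw && s <;> rw [hts] at h2 h3
      · exact z16_comm_gens.2.1 (by simpa [bpow] using h2.symm)
      · have hne : permOf m1c ≠ 1 := by decide +kernel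
        cases tw
        · simp at hts
        · exact hne h3.symm)
    π (fun M => by
      obtain ⟨g, hg⟩ := QuotientGroup.mk_surjective (e.symm M)
      obtain ⟨n, hn⟩ := st.exists_over hX g
      refine ⟨((⟨_, pair_mem st b tw hX hn false⟩ : D) : D ⧸ N), ?_⟩
      show e (g : H ⧸ Q) = M
      rw [hg, e.apply_symm_apply])
    (fun g => by
      obtain ⟨d, rfl⟩ := QuotientGroup.mk_surjective g
      show π0 d = 1 ↔ _
      rw [hπ1]
      constructor
      · intro h
        rcases ker_cases st b tw hX e d.2 h with h' | h'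
        · exact Or.inl ((QuotientGroup.eq_one_iff _).2 h')
        · refine Or.inr ?_
          rw [hmk]
          have hzz : ((z, 1, 1) : H × Equiv.Perm (Fin 16) × Equiv.Perm (Fin 16))⁻¹ = (z, 1, 1) :=
            inv_eq_of_mul_eq_one_right (Prod.ext st.frame.zsq (Prod.ext (one_mul _) (one_mul _)))
          have h2 := (qPairs st tw).inv_mem h'
          rw [mul_inv_rev, hzz] at h2
          have hcomm : ((z, 1, 1) : H × Equiv.Perm (Fin 16) × Equiv.Perm (Fin 16)) * d.1⁻¹ = d.1⁻¹ * (z, 1, 1) :=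
            Prod.ext (st.frame.zc _) (Prod.ext ((one_mul _).trans (mul_one _).symm) ((one_mul _).trans (mul_one _).symm))
          rwa [hcomm] at h2
      · rintro (h | h)
        · rw [← hπ1]; exact hN ((QuotientGroup.eq_one_iff _).1 h)
        · rw [hmk] at h
          obtain ⟨n, s, hns⟩ := h
          have h1 := congrArg Prod.fst hns
          simp only [Prod.fst_mul, Prod.fst_inv, z1] at h1
          have := Q.mul_mem (st.z_mem) (Q.inv_mem (show d.1.1⁻¹ * z ∈ Q from h1 ▸ st.mem n))
          simpa using this)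
    (fun g => by
      obtain ⟨d, rfl⟩ := QuotientGroup.mk_surjective g
      intro h1 h2
      rw [← QuotientGroup.mk_mul, QuotientGroup.eq_one_iff, Subgroup.mem_subgroupOf]
      refine hsq _ d.2 (fun h => h2 ((hπ1 d).2 h)) ?_
      have h3 : π0 (d * d) = 1 := by rw [map_mul]; exact h1
      exact (hπ1 _).1 h3)
  let ψ' : D →* Multiplicative (ZMod 2) := ψ.comp (QuotientGroup.mk' N)
  have hψN : ∀ d : D, (d : H × Equiv.Perm (Fin 16) × Equiv.Perm (Fin 16)) ∈ qPairs st tw → ψ' d = 1 := fun d hd => by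
    show ψ (d : D ⧸ N) = 1
    rw [(QuotientGroup.eq_one_iff _).2 (Subgroup.mem_subgroupOf.2 hd), map_one]
  have two : ∀ a c : Multiplicative (ZMod 2), a ≠ 1 → c ≠ 1 → a * c = 1 := by decide
  -- the flip
  have hflip : (1, z16, (1 : Equiv.Perm (Fin 16))) ∈ D := by
    have h := pair_mem st b tw hX st.over_z16 false
    rwa [st.lin_one, qOf_one, show bpow (cz tw) false = 1 from rfl, mul_one] at h
  let fl : D := ⟨_, hflip⟩
  have hfl : ψ' fl ≠ 1 := by
    have hq : ((fl * z1 : D) : H × Equiv.Perm (Fin 16) × Equiv.Perm (Fin 16)) ∈ qPairs st tw :=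
      ⟨64, false, Prod.ext (by simp [fl, z1, show ((64 : Fin 128) : ℕ) = 64 from rfl, st.frame.theta_z])
        (Prod.ext (by simp [fl, z1, bpow, show ((64 : Fin 128) : ℕ) = 64 from rfl, qel_z]) (by simp [fl, z1, bpow]))⟩
    have := hψN _ hq
    rw [map_mul] at this
    intro h
    rw [h, one_mul] at this
    exact hψ this
  have hex : ∀ g : H, ∃ m, ∃ hm : IsOver st g m, ψ' ⟨_, pair_mem st b tw hX hm false⟩ = 1 := by
    intro g
    obtain ⟨n, hn⟩ := st.exists_over hX g
    by_cases h : ψ' ⟨_, pair_mem st b tw hX hn false⟩ = 1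
    · exact ⟨_, hn, h⟩
    · have hn' : IsOver st g (repP b ((imX b).idxOf (st.lin g)) * qel n * z16) := by
        have := st.over_mul hn st.over_z16
        rwa [mul_one] at this
      refine ⟨_, hn', ?_⟩
      have := two _ _ h hfl
      rw [← map_mul] at this
      convert this using 2
      exact Subtype.ext (Prod.ext (by simp [fl]) (Prod.ext rfl (by simp [fl])))
  have huniq : ∀ {g : H} {m m' : Equiv.Perm (Fin 16)} (hm : IsOver st g m) (hm' : IsOver st g m'),
      ψ' ⟨_, pair_mem st b tw hX hm false⟩ = 1 → ψ' ⟨_, pair_mem st b tw hX hm' false⟩ = 1 → m = m' := by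
    intro g m m' hm hm' h h'
    obtain ⟨s, rfl⟩ := st.over_unique hm hm'
    cases s
    · simp [bpow]
    · exfalso
      have he : (⟨_, pair_mem st b tw hX hm' false⟩ : D) = ⟨_, pair_mem st b tw hX hm false⟩ * fl :=
        Subtype.ext (Prod.ext (by simp [fl]) (Prod.ext rfl (by simp [fl])))
      rw [he, map_mul, h, one_mul] at h'
      exact hfl h'
  choose m hm hψm using hex
  let φ : H → ℕ := fun g => pair16 (enc (m g)) (enc (qOf b tw (st.lin g)))
  have hQm : ∀ n : Fin 128, m (theta z x w n) = qel n := fun n => by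
    refine huniq (hm _) (st.over_theta n) (hψm _) ?_
    exact hψN _ ⟨n, false, by simp [bpow, st.lin_mem (st.mem n), qOf_one]⟩
  have hφQ : ∀ n : Fin 128, φ (theta z x w n) = qcode n := fun n => by
    show pair16 _ _ = _
    rw [hQm, st.lin_mem (st.mem n), qOf_one]; rfl
  have hmul : ∀ g h, φ (g * h) = mulM (φ g) (φ h) := by
    intro g h
    show pair16 _ _ = canonC (mul16 (fst16 (pair16 _ _)) (fst16 (pair16 _ _))) (mul16 (snd16 (pair16 _ _)) (snd16 (pair16 _ _)))
    rw [fst16_pair (enc_lt _), fst16_pair (enc_lt _), snd16_pair (enc_lt _), snd16_pair (enc_lt _), mul16_enc, mul16_enc]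
    obtain ⟨s, hs⟩ := qOf_mul b tw (hX g) (hX h)
    rw [← st.lin_mul] at hs
    have hov := st.over_mul (hm g) (hm h)
    have hprod := congrArg₂ (· * ·) (hψm g) (hψm h)
    simp only [← map_mul, one_mul] at hprod
    have hj := idx_lt (hX (g * h))
    have hcan := List.all_eq_true.1 (canon_ok b tw) _ (List.mem_range.2 hj)
    simp only [chkCanon, Bool.and_eq_true, Bool.or_eq_true, Bool.not_eq_true', Nat.beq_eq] at hcan
    rw [← enc_covP hj, ← enc_cz, mul16_enc] at hcan
    have hb : bpow (cz tw) s = 1 ∨ (s = true ∧ tw = true) := by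
      cases s
      · exact Or.inl rfl
      · cases tw
        · exact Or.inl rfl
        · exact Or.inr ⟨rfl, rfl⟩
    rcases hb with hb | ⟨rfl, rfl⟩
    · rw [hb, mul_one] at hs
      rw [hs, canonC, show enc (qOf b tw (st.lin (g * h))) = enc (covP b tw _) from rfl, hcan.1.2, cond_true,
        huniq (hm (g * h)) hov (hψm _) ?_]
      rw [← hprod]
      congr 1
      refine Subtype.ext (Prod.ext rfl (Prod.ext rfl ?_))
      simp [bpow, hs]
    · have hs' : qOf b true (st.lin g) * qOf b true (st.lin h) = covP b true ((imX b).idxOf (st.lin (g * h))) * cz true := by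
        rw [hs]; rfl
      have hflt : Nat.blt (dig (enc (qOf b true (st.lin g) * qOf b true (st.lin h))) 0)
          (dig (enc (qOf b true (st.lin g) * qOf b true (st.lin h))) 1) = false := by
        rw [hs']
        rcases hcan.2 with h0 | h0
        · simp at h0
        · exact h0.1
      rw [canonC, hflt, cond_false, flipC, show m1c.1 = enc (cz true) from (enc_cz true).symm, mul16_enc, mul16_enc,
        hs', mul_assoc (covP b true _) (cz true) (cz true), cz_sq, mul_one]
      have hov' : IsOver st (g * h) (m g * m h * z16) := by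
        have := st.over_mul hov st.over_z16
        rwa [mul_one] at this
      rw [huniq (hm (g * h)) hov' (hψm _) ?_]
      · rfl
      · have hd : ((1, z16, cz true) : H × Equiv.Perm (Fin 16) × Equiv.Perm (Fin 16)) ∈ qPairs st true :=
          ⟨0, true, Prod.ext st.frame.theta_zero.symm (Prod.ext (by simp [bpow, show ((0 : Fin 128) : ℕ) = 0 from rfl, qel_zero]) (by simp [bpow]))⟩
        have := hψN ⟨_, qPairs_le st b true hX hd⟩ hd
        rw [← mul_one (ψ' _)]
        conv_rhs => rw [← hprod]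
        rw [← this, ← map_mul]
        congr 1
        · refine Subtype.ext (Prod.ext (by simp) (Prod.ext ?_ ?_))
          · show m g * m h * z16 * z16 = m g * m h
            rw [mul_assoc _ z16, z16_comm_gens.1, mul_one]
          · show qOf b true (st.lin (g * h)) * bpow (cz true) false * cz true = _
            simp [bpow, hs']
            rfl
  have hinj : Function.Injective φ := fun g h hgh => by
    have h1 := congrArg snd16 hgh
    have h2 := congrArg fst16 hgh
    simp only [φ, snd16_pair (enc_lt _), fst16_pair (enc_lt _)] at h1 h2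
    have hm2 := enc_inj h2
    have hq2 := enc_inj h1
    have hover : IsOver st (g⁻¹ * h) 1 := fun n => by
      have hh := hm h n
      rw [← hm2] at hh
      have hg := hm g (st.cj (g⁻¹ * h) n)
      rw [← st.cj_comp, mul_inv_cancel_left, ← hh] at hg
      rw [one_mul, mul_one]
      exact (mul_left_cancel hg).symm
    have hQ' : g⁻¹ * h ∈ Q := by
      refine st.mem_of_lin (eq_of_cols (lin_lt st _) (by decide) fun i => ?_)
      have h6 : ∀ i : Fin 6, 2 ^ (i : ℕ) < 128 ∧ 2 ^ (i : ℕ) &&& 63 = 2 ^ (i : ℕ) := by decide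
      have h7 := hover ⟨_, (h6 i).1⟩
      rw [one_mul, mul_one] at h7
      rw [st.col_lin, ← qel_inj h7, col_one6, (h6 i).2]
    obtain ⟨n, hn⟩ := st.surj _ hQ'
    rw [← hn] at hover
    obtain ⟨s, hs⟩ := st.over_unique hover (st.over_theta n)
    rw [one_mul] at hs
    have hn' : (n : ℕ) = 0 ∨ (n : ℕ) = 64 := by
      cases s
      · exact Or.inl (congrArg Fin.val (qel_inj (m := 0) (hs.trans qel_zero.symm)))
      · exact Or.inr (congrArg Fin.val (qel_inj (m := 64) (hs.trans qel_z.symm)))
    rcases hn' with h0 | h0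
    · rw [h0, st.frame.theta_zero] at hn
      exact eq_of_inv_mul_eq_one hn.symm
    · exfalso
      rw [h0, st.frame.theta_z] at hn
      have hh : h = g * z := by rw [hn, mul_inv_cancel_left]
      have he : (⟨_, pair_mem st b tw hX (hm h) false⟩ : D) = ⟨_, pair_mem st b tw hX (hm g) false⟩ * z1 :=
        Subtype.ext (Prod.ext hh (Prod.ext (by simp [z1, hm2]) (by simp [z1, hq2])))
      have := hψm h
      rw [he, map_mul, hψm g, one_mul] at this
      exact hψ this
  have hmemE : ∀ g, φ g ∈ elemList b tw := by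
    intro g
    obtain ⟨n, hn⟩ := st.exists_over hX g
    obtain ⟨s, hs⟩ := st.over_unique hn (hm g)
    obtain ⟨k, hk⟩ : ∃ k : Fin 128, m g = repP b ((imX b).idxOf (st.lin g)) * qel k := by
      cases s
      · exact ⟨n, by rw [hs]; simp [bpow]⟩
      · exact ⟨⟨mulQ n 64, mulQ_lt n 64⟩, by
          rw [hs, show qel (mulQ n 64) = _ from qel_mul n 64, mul_assoc,
            show qel ((64 : Fin 128) : ℕ) = z16 from qel_z]; rfl⟩
    have hj := idx_lt (hX g)
    simp only [elemList, List.mem_flatten, List.mem_map, List.mem_range]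
    refine ⟨_, ⟨_, hj, rfl⟩, ?_⟩
    simp only [qelList, List.map_map, List.mem_map, List.mem_range]
    refine ⟨k, k.2, ?_⟩
    show pair16 _ _ = pair16 (enc (m g)) (enc (covP b tw _))
    rw [hk, ← enc_repP hj, mul16_enc, enc_covP hj]
  refine ⟨φ, hinj, hmul, fun c => ⟨fun hc => ?_, ?_⟩, ?_, fun g => ⟨fun hg => ?_, ?_⟩⟩
  · by_contra hno
    haveI := Fintype.ofFinite H
    have hsub : Finset.univ.image φ ⊆ (elemList b tw).toFinset.erase c := fun v hv => by
      obtain ⟨g, -, rfl⟩ := Finset.mem_image.1 hv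
      exact Finset.mem_erase.2 ⟨fun h => hno ⟨g, h⟩, List.mem_toFinset.2 (hmemE g)⟩
    have h1 := Finset.card_le_card hsub
    rw [Finset.card_image_of_injective _ hinj, Finset.card_univ,
      Finset.card_erase_of_mem (List.mem_toFinset.2 hc)] at h1
    have h2 := List.toFinset_card_le (elemList b tw)
    have h3 : (elemList b tw).length = 21504 := by
      have hl : ∀ (l : List ℕ) (f : ℕ → List ℕ), (∀ a, (f a).length = 128) → (l.map f).flatten.length = 128 * l.length := by
        intro l f hf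
        induction l with
        | nil => rfl
        | cons a l ih => simp [List.flatten_cons, hf, ih]; omega
      rw [elemList, hl _ _ fun a => by simp [qelList]]
      simp
    have hcQ : Nat.card Q = 128 := by
      let f : Fin 128 → Q := fun n => ⟨_, st.mem n⟩
      have hf : Function.Bijective f := ⟨fun a c h => st.frame.theta_inj a c (congrArg Subtype.val h),
        fun q => by obtain ⟨n, hn⟩ := st.surj q q.2; exact ⟨n, Subtype.ext hn⟩⟩
      rw [← Nat.card_congr (Equiv.ofBijective f hf), Nat.card_eq_fintype_card, Fintype.card_fin]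
    have h4 : Fintype.card H = 21504 := by
      rw [← Nat.card_eq_fintype_card, ← Subgroup.card_mul_index Q, hcQ, Subgroup.index_eq_card,
        Nat.card_congr e.toEquiv, card_sl3]
    omega
  · rintro ⟨g, rfl⟩; exact hmemE g
  · have := hφQ 64
    rwa [show ((64 : Fin 128) : ℕ) = 64 from rfl, st.frame.theta_z] at this
  · obtain ⟨n, rfl⟩ := st.surj g hg
    exact ⟨n, hφQ n⟩
  · rintro ⟨n, hn⟩
    rw [← hφQ n] at hn
    rw [hinj hn]; exact st.mem n

omit hX e

theorem sq_dichotomy (hX : ∀ g, st.lin g ∈ imX b) (e : H ⧸ Q ≃* SL3) :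
    SqOK st b false ∨ SqOK st b true := by
  classical
  by_cases h : SqOK st b false
  · exact Or.inl h
  refine Or.inr ?_
  unfold SqOK at h
  push Not at h
  obtain ⟨d0, hd0, hd0Q, hd0s, hd0n⟩ := h
  intro d hd hdQ hds
  have inQ : ∀ g, g ∈ Q ↔ e (g : H ⧸ Q) = 1 := fun g => by rw [MulEquiv.map_eq_one_iff, QuotientGroup.eq_one_iff]
  -- conjugate images
  have hdne : e (d.1 : H ⧸ Q) ≠ 1 := fun h => hdQ ((inQ _).2 h)
  have hd0ne : e (d0.1 : H ⧸ Q) ≠ 1 := fun h => hd0Q ((inQ _).2 h)
  obtain ⟨C, hC⟩ := inv_class (e (d.1 : H ⧸ Q)) (by rw [← map_mul, ← QuotientGroup.mk_mul]; exact (inQ _).1 hds) hdne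
  obtain ⟨C0, hC0⟩ := inv_class (e (d0.1 : H ⧸ Q)) (by rw [← map_mul, ← QuotientGroup.mk_mul]; exact (inQ _).1 hd0s) hd0ne
  obtain ⟨c, hc⟩ := QuotientGroup.mk_surjective (e.symm (C⁻¹ * C0))
  obtain ⟨n, hn⟩ := st.exists_over hX c
  have hcm := pair_mem st b false hX hn false
  set cd : H × Equiv.Perm (Fin 16) × Equiv.Perm (Fin 16) := (c, _, _) with hcd
  -- the untwisted pair over `d.1`
  have hd' := pair_mem st b false hX (hd.1) false
  set d' : H × Equiv.Perm (Fin 16) × Equiv.Perm (Fin 16) := (d.1, d.2.1, _) with hd'def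
  have hk : (cd * d0 * cd⁻¹)⁻¹ * d' ∈ pairGroup st b false :=
    (pairGroup st b false).mul_mem ((pairGroup st b false).inv_mem
      ((pairGroup st b false).mul_mem ((pairGroup st b false).mul_mem hcm hd0) ((pairGroup st b false).inv_mem hcm))) hd'
  have hkQ : ((cd * d0 * cd⁻¹)⁻¹ * d').1 ∈ Q := by
    rw [inQ]
    simp only [Prod.fst_mul, Prod.fst_inv, QuotientGroup.mk_mul, QuotientGroup.mk_inv, map_mul, map_inv, hcd, hd'def]
    rw [hc, e.apply_symm_apply]
    have h1 : e (d.1 : H ⧸ Q) = C⁻¹ * u3 * C := by rw [mul_assoc, ← hC, inv_mul_cancel_left]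
    have h2 : e (d0.1 : H ⧸ Q) = C0⁻¹ * u3 * C0 := by rw [mul_assoc, ← hC0, inv_mul_cancel_left]
    rw [h1, h2]; group
  have hdd' : d' * d' ∉ qPairs st false := by
    intro hin
    apply hd0n
    set k := (cd * d0 * cd⁻¹)⁻¹ * d'
    have e1 : d' = cd * d0 * cd⁻¹ * k := (mul_inv_cancel_left _ _).symm
    have hz2 : ∀ v : H × Equiv.Perm (Fin 16) × Equiv.Perm (Fin 16), v * (z, 1, 1) = (z, 1, 1) * v := fun v =>
      Prod.ext (st.frame.zc _).symm (Prod.ext ((mul_one _).trans (one_mul _).symm) ((mul_one _).trans (one_mul _).symm))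
    have hzz : ((z, 1, 1) : H × Equiv.Perm (Fin 16) × Equiv.Perm (Fin 16)) * (z, 1, 1) = 1 :=
      Prod.ext st.frame.zsq (Prod.ext (one_mul _) (one_mul _))
    set c0 := cd * d0 * cd⁻¹ with hc0
    have hkey : c0 * c0 ∈ qPairs st false := by
      rw [e1] at hin
      have hc0m : c0 ∈ pairGroup st b false :=
        (pairGroup st b false).mul_mem ((pairGroup st b false).mul_mem hcm hd0) ((pairGroup st b false).inv_mem hcm)
      rcases ker_cases st b false hX e hk hkQ with hk' | hk'
      · have hconj := pairs_conj st b false hX hc0m hk'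
        have h2 : c0 * c0 = (c0 * k * c0⁻¹)⁻¹ * (c0 * k * (c0 * k)) * k⁻¹ := by group
        rw [h2]
        exact (qPairs st false).mul_mem ((qPairs st false).mul_mem ((qPairs st false).inv_mem hconj) hin) ((qPairs st false).inv_mem hk')
      · set zz : H × Equiv.Perm (Fin 16) × Equiv.Perm (Fin 16) := (z, 1, 1)
        have hconj := pairs_conj st b false hX hc0m hk'
        have hk2 : k * zz * zz = k := by rw [mul_assoc, hzz, mul_one]
        have h3 : c0 * k * (c0 * k) = c0 * (k * zz) * (c0 * (k * zz)) := by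
          conv_lhs => rw [← hk2]
          calc c0 * (k * zz * zz) * (c0 * (k * zz * zz))
              = c0 * (k * zz) * (zz * c0) * (k * zz) * zz := by group
            _ = c0 * (k * zz) * (c0 * zz) * (k * zz) * zz := by rw [hz2 c0]
            _ = c0 * (k * zz) * c0 * (zz * (k * zz)) * zz := by group
            _ = c0 * (k * zz) * c0 * ((k * zz) * zz) * zz := by rw [hz2 (k * zz)]
            _ = c0 * (k * zz) * (c0 * (k * zz)) * (zz * zz) := by group
            _ = _ := by rw [hzz, mul_one]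
        rw [h3] at hin
        have h2 : c0 * c0 = (c0 * (k * zz) * c0⁻¹)⁻¹ * (c0 * (k * zz) * (c0 * (k * zz))) * (k * zz)⁻¹ := by group
        rw [h2]
        exact (qPairs st false).mul_mem ((qPairs st false).mul_mem ((qPairs st false).inv_mem hconj) hin) ((qPairs st false).inv_mem hk')
    have h4 := pairs_conj st b false hX ((pairGroup st b false).inv_mem hcm) hkey
    rwa [hc0, show cd⁻¹ * (cd * d0 * cd⁻¹ * (cd * d0 * cd⁻¹)) * (cd⁻¹)⁻¹ = d0 * d0 by group] at h4
  -- squares in the twisted model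
  have hsq' := ker_cases st b false hX e ((pairGroup st b false).mul_mem hd' hd') (by
    show (d' * d').1 ∈ Q
    exact hds)
  rcases hsq' with h' | h'
  · exact absurd h' hdd'
  obtain ⟨g, mg, q⟩ := d
  obtain ⟨hov, s, hq, hg⟩ := hd
  simp only at hov hq hg hds hdQ
  obtain ⟨n, t, hnt⟩ := h'
  simp only [hd'def, Prod.mk_mul_mk, Prod.mk.injEq, Bool.false_and, show bpow z16 false = 1 from rfl, mul_one] at hnt
  obtain ⟨hn1, hn2, -⟩ := hnt
  have hqq : q * q = cz true := by
    have h1 : st.lin g ≠ one6 := fun h => hdQ (st.mem_of_lin h)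
    have h2 : comp (st.lin g) (st.lin g) = one6 := by rw [← st.lin_mul]; exact st.lin_mem hds
    have h := List.all_eq_true.1 (twist_ok b) _ (List.mem_range.2 (idx_lt hg))
    simp only [chkTwist, getD_idx hg, Bool.or_eq_true, Bool.not_eq_true', Nat.beq_eq] at h
    rcases h with (h | h) | h
    · rw [h2] at h; simp at h
    · exact absurd h h1
    · rw [← enc_covP (idx_lt hg), mul16_enc, ← enc_m1] at h
      rw [hq]
      have hc := covP_cz (b := b) (tw := true) (idx_lt hg)
      cases s
      · simp only [bpow, cond_false, qOf, mul_one]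
        exact enc_inj h
      · simp only [bpow, cond_true, qOf]
        rw [mul_assoc, ← mul_assoc (cz true), ← hc, mul_assoc, cz_sq, mul_one]
        exact enc_inj h
  refine ⟨⟨mulQ n 64, mulQ_lt n 64⟩, true, Prod.ext ?_ (Prod.ext ?_ ?_)⟩
  · show g * g = theta z x w (mulQ n 64)
    have e1 := st.frame.theta_mul n 64
    rw [show ((64 : Fin 128) : ℕ) = 64 from rfl, st.frame.theta_z] at e1
    rw [e1, ← hn1, mul_assoc, st.frame.zsq, mul_one]
  · show mg * mg = qel (mulQ n 64) * bpow z16 (true && true)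
    rw [show qel (mulQ n 64) = _ from qel_mul n 64, show qel ((64 : Fin 128) : ℕ) = z16 from qel_z, hn2]
    simp [bpow, mul_assoc, z16_comm_gens.1]
  · show q * q = bpow (cz true) (true && true)
    rw [hqq]; rfl

end Main

theorem exists_coords {H : Type*} [Group H] [Finite H] {Q : Subgroup H} [Q.Normal] {z : H} {x0 w0 : Fin 3 → H}
    (st0 : Setting Q z x0 w0) (e : H ⧸ Q ≃* SL3) : ∃ (b tw : Bool) (φ : H → ℕ), Coords H Q z b tw φ := by
  obtain ⟨b, x, w, st, hX, hsur⟩ := exists_image st0 e
  rcases sq_dichotomy st b hX e with h | h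
  · exact ⟨b, false, exists_coords_of st b false hX e hsur h⟩
  · exact ⟨b, true, exists_coords_of st b true hX e hsur h⟩

end Cfsg.Agent.Fus.HeUniq
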