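import Cfsg.Agent.Lib.Fus.HeUniq.Sit
import Cfsg.Agent.Lib.Fus.HeUniq.DataP

/-!
# The conjugates of `z` with translate conjugate to `z`
-/

set_option autoImplicit false
set_option linter.style.haveILetI false
set_option linter.unusedSectionVars false
set_option maxRecDepth 100000

namespace Cfsg.Agent.Fus.HeUniq

variable {G : Type*} [Group G]

/-- An element of `T` in the centralizer of `z`. -/
def tc {z : G} {a : CC z} {x : G} (hx : x ∈ TT a) : CC z := ⟨x, (Subgroup.mem_inf.1 hx).1⟩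

theorem memC_iff {l : List ℕ} {c : ℕ} : memC l c = true ↔ c ∈ l := by
  simp [memC, List.any_eq_true]

/-- The conjugates of `z` in the centralizer of `a` whose translate by `a` is one as well. -/
def InD (z a q : G) : Prop := q * a = a * q ∧ IsConj z q ∧ IsConj z (q * a)

theorem InD.cj {z a q : G} (h : InD z a q) {g : G} (hg : g * a = a * g) : InD z a (g * q * g⁻¹) := by
  have ha : g * a * g⁻¹ = a := by rw [hg, mul_inv_cancel_right]
  refine ⟨?_, h.2.1.trans (isConj_cj g q), ?_⟩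
  · have := cjg_comm g h.1
    rwa [ha] at this
  · have := h.2.2.trans (isConj_cj g (q * a))
    rwa [cjg_mul, ha] at this

variable [Finite G] [IsSimpleGroup G] {z : G} {Q : Subgroup (CC z)} {φ : CC z → ℕ}
  {ids : List ℕ} {a : CC z} (S : Sit z Q φ ids a)
include S

theorem Sit.zT_iff {x : G} (hx : x ∈ TT a) : IsConj x z ↔ φ (tc hx) ∈ zT ids := by
  have h := invT_ok
  simp only [Bool.and_eq_true, List.all_eq_true, beq_iff_eq, Nat.beq_eq] at h
  obtain ⟨⟨hfst, hcls⟩, -⟩ := h
  have hm : φ (tc hx) ∈ listT := (S.mem_T (tc hx)).1 hx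
  have hfS : ∀ c, fSet ids c = true ↔ (Nat.beq c 7 || ids.any fun i => Nat.beq i c) = true := fun c => Iff.rfl
  show IsConj ((tc hx : CC z) : G) z ↔ _
  rw [S.cls, zT, List.mem_map]
  constructor
  · intro hf
    have hinv := S.L.conj_inv ((S.cls (tc hx)).2 hf)
    have : φ (tc hx) ∈ invT.map Prod.fst := by
      rw [← hfst, List.mem_filter]
      refine ⟨hm, ?_⟩
      have e := S.L.phi_inv hinv.1 hinv.2
      rw [← mulM_eq (S.L.co.mem _) (S.L.co.mem _), e.1, e.2]; rfl
    obtain ⟨e, he, hec⟩ := List.mem_map.1 this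
    refine ⟨e, List.mem_filter.2 ⟨he, ?_⟩, hec⟩
    rw [← hcls e he, hec]; exact (hfS _).1 hf
  · rintro ⟨e, he, hec⟩
    rw [List.mem_filter] at he
    rw [← hec, hcls e he.1]; exact he.2

theorem Sit.aT : (a : G) ∈ TT a := by
  rw [mem_TT]; exact ⟨a.2, rfl⟩

theorem Sit.mulT {x y : G} (hx : x ∈ TT a) (hy : y ∈ TT a) :
    φ (tc (mul_mem hx hy)) = mulN (φ (tc hx)) (φ (tc hy)) := S.L.mulN_eq (tc hx) (tc hy)

theorem Sit.commT {x y : G} (hx : x ∈ TT a) (hy : y ∈ TT a) :
    comN (φ (tc hx)) (φ (tc hy)) = true ↔ x * y = y * x := by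
  rw [S.L.comN_iff, Subtype.ext_iff]; rfl

theorem Sit.kT_iff {x : G} (hx : x ∈ TT a) : InD z a x ↔ φ (tc hx) ∈ kT ids := by
  have e : mulN (φ (tc hx)) aC = φ (tc (mul_mem hx S.aT)) := by
    rw [S.mulT hx S.aT, show tc S.aT = a from rfl, S.code]
  rw [kT, List.mem_filter, memC_iff, e, ← S.zT_iff hx, ← S.zT_iff]
  exact ⟨fun h => ⟨h.2.1.symm, h.2.2.symm⟩,
    fun h => ⟨(Subgroup.mem_centralizer_singleton_iff.1 (S.T_le hx)), h.1.symm, h.2.symm⟩⟩

variable (hp : ids ∈ partList)
include hp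

theorem Sit.k_comm {x y : G} (hx : x ∈ TT a) (hy : y ∈ TT a) (dx : InD z a x) (dy : InD z a y) :
    x * y = y * x := by
  have h := zT_ok
  simp only [List.all_eq_true, Bool.and_eq_true] at h
  exact (S.commT hx hy).1 ((h ids hp).1 _ ((S.kT_iff hx).1 dx) _ ((S.kT_iff hy).1 dy))

theorem Sit.z_meets_k {x : G} (hx : x ∈ TT a) (hz : IsConj x z) :
    ∃ k : G, k ∈ TT a ∧ InD z a k ∧ k * x = x * k := by
  have h := zT_ok
  simp only [List.all_eq_true, Bool.and_eq_true, List.any_eq_true] at h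
  obtain ⟨c, hc, hcc⟩ := (h ids hp).2 _ ((S.zT_iff hx).1 hz)
  have hcT : c ∈ listT := by
    obtain ⟨e, he, rfl⟩ := List.mem_map.1 (List.mem_filter.1 hc).1
    have h2 := invT_ok
    simp only [Bool.and_eq_true, beq_iff_eq] at h2
    have h3 : e.1 ∈ invT.map Prod.fst := List.mem_map.2 ⟨e, (List.mem_filter.1 he).1, rfl⟩
    rw [← h2.1.1, List.mem_filter] at h3
    exact h3.1
  have hl : (elemList false false).filter (fun c => comN c aC) = listT := by simpa using listT_ok
  obtain ⟨k, rfl⟩ := (S.L.co.range c).1 (List.mem_filter.1 (hl.symm ▸ hcT : c ∈ _)).1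
  have hk : (k : G) ∈ TT a := (S.mem_T k).2 hcT
  exact ⟨k, hk, (S.kT_iff hk).2 hc, (S.commT hk hx).1 hcc⟩

omit hp in
/-- Two elements centralising a commuting conjugate of `z` are carried into `T` together. -/
theorem Sit.into_T {y : G} (hy : y * a = a * y) (hyz : IsConj y z) :
    ∃ h : G, h * a = a * h ∧ ∀ x : G, x * a = a * x → x * y = y * x → h * x * h⁻¹ ∈ TT a := by
  obtain ⟨h, hh, hhP⟩ := S.to_T (S.pair_two hyz (IsConj.refl (a : G)) hy) inf_le_right
  exact ⟨h, Subgroup.mem_centralizer_singleton_iff.1 hh, fun x hxa hxy => hhP x (Subgroup.mem_inf.2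
    ⟨Subgroup.mem_centralizer_singleton_iff.2 hxy, Subgroup.mem_centralizer_singleton_iff.2 hxa⟩)⟩

theorem Sit.d_comm {x w y : G} (dx : InD z a x) (dw : InD z a w) (hy : y * a = a * y) (hyz : IsConj y z)
    (h1 : x * y = y * x) (h2 : w * y = y * w) : x * w = w * x := by
  obtain ⟨h, ha, hh⟩ := S.into_T hy hyz
  have := S.k_comm hp (hh x dx.1 h1) (hh w dw.1 h2) (dx.cj ha) (dw.cj ha)
  rwa [← cjg_mul, ← cjg_mul, cjg_eq] at this

theorem Sit.d_trans {x y w : G} (dx : InD z a x) (dy : InD z a y) (dw : InD z a w)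
    (h1 : x * y = y * x) (h2 : y * w = w * y) : x * w = w * x :=
  S.d_comm hp dx dw dy.1 dy.2.1.symm h1 h2.symm

/-- The classes of commuting elements are the conjugates of the one in `T`. -/
theorem Sit.class_T {k x : G} (hk : k ∈ TT a) (dk : InD z a k) (dx : InD z a x) (h : x * k = k * x) :
    x ∈ TT a := by
  classical
  set D0 := {w : G // InD z a w ∧ w * k = k * w}
  obtain ⟨g, ga, hg⟩ := S.into_T (Subgroup.mem_centralizer_singleton_iff.1 (S.T_le hk)) dk.2.1.symm
  let f : D0 → {w : G // w ∈ TT a ∧ InD z a w} := fun w =>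
    ⟨g * w.1 * g⁻¹, hg w.1 w.2.1.1 w.2.2, w.2.1.cj ga⟩
  let i : {w : G // w ∈ TT a ∧ InD z a w} → D0 := fun w => ⟨w.1, w.2.2, S.k_comm hp w.2.1 hk w.2.2 dk⟩
  have hf : Function.Injective f := fun u v e => Subtype.ext ((cjg_eq g u.1 v.1).1 (congrArg Subtype.val e))
  have hi : Function.Injective i := fun u v e => Subtype.ext (congrArg Subtype.val e :)
  obtain ⟨w, hw⟩ := ((Nat.bijective_iff_injective_and_card i).2 ⟨hi,
    le_antisymm (Nat.card_le_card_of_injective i hi) (Nat.card_le_card_of_injective f hf)⟩).2 ⟨x, dx, h⟩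
  have hwx : w.1 = x := congrArg Subtype.val hw
  exact hwx ▸ w.2.1

/-- A conjugate of `z` in the centralizer normalising a class commutes with a member of it. -/
theorem Sit.fix_meets {q x : G} (hq : q * a = a * q) (hqz : IsConj q z) (dx : InD z a x)
    (hfix : q * x * q⁻¹ * x = x * (q * x * q⁻¹)) :
    ∃ k : G, InD z a k ∧ k * x = x * k ∧ k * q = q * k := by
  classical
  set M := Subgroup.closure {w : G | InD z a w ∧ w * x = x * w}
  set N := Subgroup.normalizer ((M : Set G))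
  have hqq : q * q = 1 := by
    obtain ⟨g, rfl⟩ := _root_.isConj_iff.1 hqz.symm
    rw [← cjg_mul, S.L.zz]; group
  have hqN : q ∈ N := by
    rw [Subgroup.mem_normalizer_iff]
    have key : ∀ m ∈ M, q * m * q⁻¹ ∈ M := by
      intro m hm
      induction hm using Subgroup.closure_induction with
      | mem w hw =>
        refine Subgroup.subset_closure ⟨hw.1.cj hq, ?_⟩
        have h1 := cjg_comm q hw.2
        exact S.d_trans hp (hw.1.cj hq) (dx.cj hq) dx h1 hfix
      | one => simp [M.one_mem]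
      | mul u v _ _ hu hv => rw [cjg_mul]; exact mul_mem hu hv
      | inv u _ hu => simpa [mul_assoc] using inv_mem hu
    intro m
    refine ⟨key m, fun h => ?_⟩
    have := key _ h
    rwa [show q * (q * m * q⁻¹) * q⁻¹ = (q * q) * m * (q * q)⁻¹ by group, hqq, one_mul, inv_one, mul_one] at this
  obtain ⟨g, ga, hg⟩ := S.into_T dx.1 dx.2.1.symm
  have hMg : M ≤ (TT a).comap (MulAut.conj g).toMonoidHom := by
    rw [Subgroup.closure_le]
    exact fun w hw => hg w hw.1.1 hw.2
  have hMp : IsPGroup 2 M := by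
    refine IsPGroup.to_le ?_ hMg
    exact S.T_two.comap_of_injective _ (MulAut.conj g).injective
  have hMa : M ≤ CC (a : G) := by
    rw [Subgroup.closure_le]
    exact fun w hw => Subgroup.mem_centralizer_singleton_iff.2 hw.1.1
  have hqp : IsPGroup 2 (Subgroup.zpowers q) := IsPGroup.of_card (n := 1) (by
    rw [Nat.card_zpowers, pow_one]
    obtain ⟨k, hk⟩ := _root_.isConj_iff.1 hqz.symm
    rw [← hk, ← S.L.z2]; exact (MulAut.conj k).orderOf_eq z)
  have hsup : IsPGroup 2 (M ⊔ Subgroup.zpowers q : Subgroup G) :=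
    hMp.to_sup_of_normal_left' hqp (Subgroup.zpowers_le.2 hqN)
  obtain ⟨t, ta, ht⟩ := S.to_T hsup (sup_le hMa (Subgroup.zpowers_le.2 (Subgroup.mem_centralizer_singleton_iff.2 hq)))
  have ta' := Subgroup.mem_centralizer_singleton_iff.1 ta
  have hqT := ht q (le_sup_right (α := Subgroup G) (Subgroup.mem_zpowers q))
  have hxT := ht x (le_sup_left (α := Subgroup G) (Subgroup.subset_closure ⟨dx, rfl⟩))
  obtain ⟨k, hkT, dk, hkq⟩ := S.z_meets_k hp hqT ((isConj_cj_iff t q z).2 hqz)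
  have ta2 : t⁻¹ * a = a * t⁻¹ := (Commute.inv_left ta').eq
  refine ⟨t⁻¹ * k * t, ?_, ?_, ?_⟩
  · have := dk.cj ta2
    rwa [inv_inv] at this
  · have := cjg_comm t⁻¹ (S.k_comm hp hkT hxT dk (dx.cj ta'))
    simpa [mul_assoc] using this
  · have := cjg_comm t⁻¹ hkq
    simpa [mul_assoc] using this

/-- An element fixing a class outside `T` is not conjugate to `z`. -/
theorem Sit.stab_free {q x : G} (hqT : q ∈ TT a) (dx : InD z a x) (hxT : x ∉ TT a)
    (hfix : q * x * q⁻¹ * x = x * (q * x * q⁻¹)) : ¬ IsConj q z := by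
  intro hqz
  have hq := Subgroup.mem_centralizer_singleton_iff.1 (S.T_le hqT)
  obtain ⟨k, dk, hkx, hkq⟩ := S.fix_meets hp hq hqz dx hfix
  obtain ⟨k', hk'T, dk', hk'q⟩ := S.z_meets_k hp hqT hqz
  have h1 : k * k' = k' * k := S.d_comm hp dk dk' hq hqz hkq hk'q
  exact hxT (S.class_T hp hk'T dk' dx (S.d_trans hp dx dk dk' hkx.symm h1))

end Cfsg.Agent.Fus.HeUniq
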