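import Cfsg.Agent.Lib.Fus.HeUniq.PartOrbit
import Cfsg.Agent.Lib.Fus.HeUniq.Beta

/-!
# The partial fusion patterns do not occur
-/

set_option autoImplicit false
set_option linter.style.haveILetI false
set_option linter.unusedSectionVars false
set_option maxRecDepth 100000

namespace Cfsg.Agent.Fus.HeUniq

variable {G : Type*} [Group G] [Finite G] [IsSimpleGroup G] {z : G} {Q : Subgroup (CC z)} {φ : CC z → ℕ}
  {ids : List ℕ} {a : CC z} (S : Sit z Q φ ids a)
include S

theorem Sit.fused_H : Nat.card {x : G // x * a = a * x ∧ IsConj z x} * 21504 =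
    (invsSel ids false).length * Nat.card (CC (a : G)) := by
  have h := S.count_H (fun _ _ => True) (fun _ _ _ _ => trivial) (fun _ => true) (fun _ _ _ => by simp)
  rw [List.filter_true] at h
  rw [invsSel]
  refine Eq.trans ?_ h
  congr 1
  exact Nat.card_congr (Equiv.subtypeEquivRight fun x => ⟨fun h => ⟨h.1, h.2, trivial⟩, fun h => ⟨h.1, h.2.1⟩⟩)

theorem Sit.alpha_mem {p : G × G} (h1 : IsConj z p.1) (h2 : IsConj (a : G) p.2) (h3 : Root (a : G) p.1 p.2) :
    p.1 * a = a * p.1 ∧ p.2 * a = a * p.2 :=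
  root_comm (S.ord_of_conj S.L.z2 h1) (S.ord_of_conj S.a_inv h2) S.a_inv h3

variable (hp : ids ∈ partList)
include hp

omit hp in
theorem Sit.kT_len : (kT [0, 4, 5]).length = 6 ∧ (kT [0, 1, 4, 5]).length = 30 ∧
    (kT [0, 2, 4, 5]).length = 30 := by decide +kernel

/-- There is a single class. -/
theorem Sit.one_orbit {k : ℕ} (hk : (kT ids).length = k) (c : ℕ)
    (hc : c ≤ 84 * (partners ids 0).length + 14 * (partners ids 4).length) (N : ℕ)
    (hN : ∀ n, n * k * 256 * c ≤ 4030387200 → n ≤ N)
    (hdec : ∀ j ≤ N / 64, (64 * j + 1) * k * 256 ∣ 4030387200 → j = 0) :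
    Nat.card (CC (a : G)) = k * 256 := by
  obtain ⟨n, hn, hD⟩ := S.orbit_count hp
  have hH : Nat.card (CC (a : G)) = n * k * 256 := by rw [← S.card_D hp, hD, hk]
  have hle : n * k * 256 * c ≤ 4030387200 := by
    rw [← S.L.cardG, S.order, ← hH]
    calc Nat.card (CC (a : G)) * c ≤ Nat.card (CC (a : G)) * nPairs z (a : G) z :=
          Nat.mul_le_mul_left _ (hc.trans S.beta_ge)
      _ ≤ _ := by rw [Nat.mul_comm]; exact Nat.le_add_right _ _
  have hdvd : Nat.card (CC (a : G)) ∣ 4030387200 := S.L.cardG ▸ Subgroup.card_subgroup_dvd_card _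
  have hn' := hN n hle
  obtain ⟨j, rfl⟩ : ∃ j, n = 64 * j + 1 := ⟨n / 64, by omega⟩
  rw [hH] at hdvd
  rw [hH, hdec j (by omega) hdvd]
  ring

omit hp in
theorem Sit.part_small (h045 : ids = [0, 4, 5]) : False := by
  have hp : ids ∈ partList := h045 ▸ (List.mem_cons_self ..)
  have hH : Nat.card (CC (a : G)) = 6 * 256 := by
    refine S.one_orbit hp (h045 ▸ S.kT_len.1) (84 * 33 + 14 * 72) ?_ 694 (fun n hn => by omega)
      (by decide +kernel)
    have h1 := beta_data.2.2.1 ids S.pat
    have h2 := beta_data.2.2.2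
    subst h045
    omega
  have hF := S.fused_H
  have hbeta := S.beta_le
  rw [hH] at hF
  have hord := S.order
  rw [hH, S.L.cardG, S.L.cardC] at hord
  have hA : nPairs z (a : G) a ≤ Nat.card {x : G // x * a = a * x ∧ IsConj z x} * Nat.card (CC (a : G)) := by
    rw [← Nat.card_prod, nPairs]
    refine Nat.card_le_card_of_injective (fun p => (⟨p.1.1, (S.alpha_mem p.2.1 p.2.2.1 p.2.2.2).1, p.2.1⟩,
      ⟨p.1.2, Subgroup.mem_centralizer_singleton_iff.2 (S.alpha_mem p.2.1 p.2.2.1 p.2.2.2).2⟩)) ?_
    intro p q h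
    simp only [Prod.mk.injEq, Subtype.mk.injEq] at h
    exact Subtype.ext (Prod.ext h.1 h.2)
  rw [hH] at hA
  have e1 : (invsSel ids true).length = 113 ∧ (invsSel ids false).length = 462 := by
    rw [h045]; exact ⟨sel_data.1, sel_data.2.1⟩
  rw [e1.2] at hF
  rw [e1.1, e1.2] at hbeta
  generalize nPairs z (a : G) z = β at hord hbeta
  generalize nPairs z (a : G) a = α at hord hA
  generalize Nat.card {x : G // x * a = a * x ∧ IsConj z x} = f at hF hA
  omega

omit hp in
theorem Sit.part_big (h : ids = [0, 1, 4, 5] ∨ ids = [0, 2, 4, 5]) : False := by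
  classical
  have hp : ids ∈ partList := by rcases h with rfl | rfl <;> simp [partList]
  have hlen : (kT ids).length = 30 ∧ (invsSel ids true).length = 281 ∧ (invsSel ids false).length = 294 := by
    rcases h with rfl | rfl
    · exact ⟨S.kT_len.2.1, sel_data.2.2.1, sel_data.2.2.2.1⟩
    · exact ⟨S.kT_len.2.2, sel_data.2.2.2.2.1, sel_data.2.2.2.2.2.1⟩
  have hH : Nat.card (CC (a : G)) = 30 * 256 :=
    S.one_orbit hp hlen.1 (84 * 33) (by have := beta_data.2.2.1 ids S.pat; omega) 189 (fun n hn => by omega)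
      (by decide +kernel)
  have heT : (eT ids).length = 64 ∧ ((zT ids).filter (memC (eT ids))).length = 45 ∧
      (∀ c ∈ eT ids, mulN c c = oneC) ∧ ∀ y ∈ invT, y.1 ∈ eT ids ∨
        (((eT ids).map (mulN y.1)).filter fun c => memC (invT.map Prod.fst) c).length ≤ 16 := by
    have h2 := eT_ok
    simp only [List.all_eq_true, Bool.and_eq_true, Bool.or_eq_true, Nat.beq_eq, Nat.ble_eq, memC_iff] at h2
    have := h2 ids (by rcases h with rfl | rfl <;> simp)
    exact ⟨this.1.1.1, this.1.1.2, this.1.2, this.2⟩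
  -- all the special conjugates are in `T`
  have hDT : ∀ q, InD z a q → q ∈ TT a := by
    obtain ⟨n, -, hD⟩ := S.orbit_count hp
    have hc := S.card_D hp
    rw [hH] at hc
    rw [hlen.1] at hD
    have hn1 : Nat.card {q : G // InD z a q} = 30 := by omega
    intro q hq
    obtain ⟨g, ga, hg⟩ := S.into_T hq.1 hq.2.1.symm
    have hT : 30 ≤ Nat.card {x : G // x ∈ TT a ∧ InD z a x} := by
      have hnd : (kT ids).Nodup := by
        have : ∀ l ∈ partList, (kT l).Nodup := by decide +kernel
        exact this ids hp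
      rw [← hlen.1, ← List.toFinset_card_of_nodup hnd, ← Nat.card_eq_finsetCard]
      have hex : ∀ c : {c // c ∈ (kT ids).toFinset}, ∃ u : CC z, φ u = c.1 ∧ (u : G) ∈ TT a := fun c => by
        have hc' := List.mem_toFinset.1 c.2
        have h2 := invT_ok
        simp only [Bool.and_eq_true, beq_iff_eq] at h2
        obtain ⟨e, he, hec⟩ := List.mem_map.1 (List.mem_filter.1 hc').1
        have h3 : e.1 ∈ invT.map Prod.fst := List.mem_map.2 ⟨e, (List.mem_filter.1 he).1, rfl⟩
        rw [← h2.1.1, List.mem_filter, hec] at h3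
        have hl : (elemList false false).filter (fun c => comN c aC) = listT := by simpa using listT_ok
        obtain ⟨u, hu⟩ := (S.L.co.range _).1 (List.mem_filter.1 (hl.symm ▸ h3.1 : c.1 ∈ _)).1
        exact ⟨u, hu, (S.mem_T u).2 (hu ▸ h3.1)⟩
      choose u hu huT using hex
      refine Nat.card_le_card_of_injective (fun c => ⟨(u c : G), huT c,
        (S.kT_iff (huT c)).2 (show φ (u c) ∈ _ from (hu c).symm ▸ List.mem_toFinset.1 c.2)⟩) fun c d e => ?_
      have : u c = u d := Subtype.ext (congrArg Subtype.val e :)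
      exact Subtype.ext (by rw [← hu c, ← hu d, this])
    let i : {x : G // x ∈ TT a ∧ InD z a x} → {q : G // InD z a q} := fun x => ⟨x.1, x.2.2⟩
    have hi : Function.Injective i := fun x y e => Subtype.ext (congrArg Subtype.val e :)
    obtain ⟨w, hw⟩ := ((Nat.bijective_iff_injective_and_card i).2
      ⟨hi, le_antisymm (Nat.card_le_card_of_injective i hi) (hn1 ▸ hT)⟩).2 ⟨q, hq⟩
    have hwq : w.1 = q := congrArg Subtype.val hw
    exact hwq ▸ w.2.1
  -- the elementary normal subgroup
  set E : Subgroup G := CC (a : G) ⊓ Subgroup.centralizer {q : G | InD z a q} with hE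
  have hEconj : ∀ g : G, g * a = a * g → ∀ e ∈ E, g * e * g⁻¹ ∈ E := by
    intro g hg e he
    obtain ⟨h1, h2⟩ := Subgroup.mem_inf.1 he
    have ga : g * a * g⁻¹ = a := by rw [hg, mul_inv_cancel_right]
    refine Subgroup.mem_inf.2 ⟨Subgroup.mem_centralizer_singleton_iff.2 ?_, Subgroup.mem_centralizer_iff.2 ?_⟩
    · have := cjg_comm g (Subgroup.mem_centralizer_singleton_iff.1 h1)
      rwa [ga] at this
    · intro q hq
      have hq' : InD z a (g⁻¹ * q * g) := by
        have := InD.cj hq (g := g⁻¹) (Commute.inv_left hg).eq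
        rwa [inv_inv] at this
      have := cjg_comm g (Subgroup.mem_centralizer_iff.1 h2 _ hq')
      simpa [mul_assoc] using this
  obtain ⟨k0, hk0⟩ : ∃ k, InD z a k := by
    obtain ⟨n, hn, hD⟩ := S.orbit_count hp
    rw [hlen.1] at hD
    obtain ⟨⟨k, hk⟩⟩ := (Nat.card_pos_iff.1 (show 0 < Nat.card {q : G // InD z a q} by rw [hD]; omega)).1
    exact ⟨k, hk⟩
  have hE2 : IsPGroup 2 E := by
    refine IsPGroup.to_le (S.pair_two hk0.2.1.symm (IsConj.refl (a : G)) hk0.1) ?_
    intro e he
    obtain ⟨h1, h2⟩ := Subgroup.mem_inf.1 he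
    exact Subgroup.mem_inf.2
      ⟨Subgroup.mem_centralizer_singleton_iff.2 (Subgroup.mem_centralizer_iff.1 h2 k0 hk0).symm, h1⟩
  have hET : E ≤ TT a := by
    obtain ⟨g, hg, hgE⟩ := S.to_T hE2 inf_le_left
    intro e he
    have hga := Subgroup.mem_centralizer_singleton_iff.1 hg
    have h1 := hgE _ (hEconj g⁻¹ (Commute.inv_left hga).eq e he)
    simpa [mul_assoc] using h1
  have hEmem : ∀ (x : G) (hx : x ∈ TT a), x ∈ E ↔ φ (tc hx) ∈ eT ids := by
    intro x hx
    rw [eT, List.mem_filter, List.all_eq_true, hE, Subgroup.mem_inf, Subgroup.mem_centralizer_iff]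
    constructor
    · rintro ⟨-, h2⟩
      refine ⟨(S.mem_T _).1 hx, fun c hc => ?_⟩
      have h2' := invT_ok
      simp only [Bool.and_eq_true, beq_iff_eq] at h2'
      obtain ⟨e, he, hec⟩ := List.mem_map.1 (List.mem_filter.1 hc).1
      have h3 : e.1 ∈ invT.map Prod.fst := List.mem_map.2 ⟨e, (List.mem_filter.1 he).1, rfl⟩
      rw [← h2'.1.1, List.mem_filter, hec] at h3
      have hl : (elemList false false).filter (fun c => comN c aC) = listT := by simpa using listT_ok
      obtain ⟨u, rfl⟩ := (S.L.co.range c).1 (List.mem_filter.1 (hl.symm ▸ h3.1 : c ∈ _)).1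
      have huT : (u : G) ∈ TT a := (S.mem_T u).2 h3.1
      exact (S.commT hx huT).2 (h2 _ ((S.kT_iff huT).2 hc)).symm
    · rintro ⟨-, h2⟩
      exact ⟨S.T_le hx, fun q hq => ((S.commT hx (hDT q hq)).1 (h2 _ ((S.kT_iff (hDT q hq)).1 hq))).symm⟩
  have hEsq : ∀ e ∈ E, e * e = 1 := by
    intro e he
    have h1 := heT.2.2.1 _ ((hEmem e (hET he)).1 he)
    rw [← S.mulT (hET he) (hET he), ← S.oneT, S.tc_inj] at h1
    exact h1
  have hEcard : Nat.card E = 64 := by
    have hnd : (eT ids).Nodup := List.Nodup.filter _ (by decide +kernel : listT.Nodup)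
    rw [← heT.1, ← List.toFinset_card_of_nodup hnd, ← Nat.card_eq_finsetCard]
    refine Nat.card_congr (Equiv.ofBijective
      (fun x => ⟨φ (tc (hET x.2)), List.mem_toFinset.2 ((hEmem _ (hET x.2)).1 x.2)⟩) ⟨?_, ?_⟩)
    · intro x y e
      exact Subtype.ext ((S.tc_inj (hET x.2) (hET y.2)).1 (congrArg Subtype.val e))
    · rintro ⟨c, hc⟩
      have hc' := List.mem_toFinset.1 hc
      have hl : (elemList false false).filter (fun c => comN c aC) = listT := by simpa using listT_ok
      have hcT := (List.mem_filter.1 hc').1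
      obtain ⟨u, rfl⟩ := (S.L.co.range c).1 (List.mem_filter.1 (hl.symm ▸ hcT : c ∈ _)).1
      have huT : (u : G) ∈ TT a := (S.mem_T u).2 hcT
      exact ⟨⟨u, (hEmem _ huT).2 hc'⟩, rfl⟩
  have hEH : E ≤ CC (a : G) := inf_le_left
  -- the involutions of the centralizer
  set I := {y : G // y * a = a * y ∧ y * y = 1}
  have hcoset : ∀ y : I, y.1 ∉ E → Nat.card {w : I // y.1⁻¹ * w.1 ∈ E} ≤ 16 := by
    intro y hy
    obtain ⟨g, hg, hgy⟩ := S.to_T (P := Subgroup.zpowers y.1) (IsPGroup.of_card (n := 1) (by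
      rw [Nat.card_zpowers, pow_one]
      exact orderOf_eq_prime (by rw [pow_two]; exact y.2.2) fun h => hy (by rw [h]; exact E.one_mem)))
      (Subgroup.zpowers_le.2 (Subgroup.mem_centralizer_singleton_iff.2 y.2.1))
    have ga := Subgroup.mem_centralizer_singleton_iff.1 hg
    have htT := hgy _ (Subgroup.mem_zpowers _)
    set t := g * y.1 * g⁻¹ with ht
    have htE : t ∉ E := fun h => hy (by
      have := hEconj g⁻¹ (Commute.inv_left ga).eq t h
      rwa [ht, show g⁻¹ * (g * y.1 * g⁻¹) * g⁻¹⁻¹ = y.1 by group] at this)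
    have hinvs : ∀ (v : G) (hv : v ∈ TT a), v * v = 1 → v ≠ 1 → φ (tc hv) ∈ invT.map Prod.fst := by
      intro v hv hv2 hv1
      have h2' := invT_ok
      simp only [Bool.and_eq_true, beq_iff_eq] at h2'
      rw [← h2'.1.1, List.mem_filter]
      refine ⟨(S.mem_T _).1 hv, ?_⟩
      have e := S.L.phi_inv (x := tc hv) (Subtype.ext hv2) fun h => hv1 (congrArg Subtype.val h)
      rw [← mulM_eq (S.L.co.mem _) (S.L.co.mem _), e.1, e.2]; rfl
    have htinv : φ (tc htT) ∈ invT.map Prod.fst := hinvs t htT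
      (by rw [ht, ← cjg_mul, y.2.2]; group) (fun h => htE (by rw [h]; exact E.one_mem))
    obtain ⟨e, he, het⟩ := List.mem_map.1 htinv
    have hlist := (heT.2.2.2 e he).resolve_left fun h => htE ((hEmem t htT).2 (het ▸ h))
    set l := ((eT ids).map (mulN e.1)).filter fun c => memC (invT.map Prod.fst) c
    refine le_trans ?_ hlist
    refine le_trans ?_ (List.toFinset_card_le l)
    rw [← Nat.card_eq_finsetCard]
    have hmem : ∀ w : {w : I // y.1⁻¹ * w.1 ∈ E}, ∃ hw : g * w.1.1 * g⁻¹ ∈ TT a, φ (tc hw) ∈ l.toFinset := by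
      intro w
      have he' := hEconj g ga _ w.2
      have hw : g * w.1.1 * g⁻¹ = t * (g * (y.1⁻¹ * w.1.1) * g⁻¹) := by rw [ht]; group
      have hwT : g * w.1.1 * g⁻¹ ∈ TT a := hw ▸ mul_mem htT (hET he')
      refine ⟨hwT, List.mem_toFinset.2 (List.mem_filter.2 ⟨List.mem_map.2 ⟨_, (hEmem _ (hET he')).1 he', ?_⟩, ?_⟩)⟩
      · rw [het, ← S.mulT htT (hET he'), S.tc_inj, hw]
      · rw [memC_iff]
        refine hinvs _ hwT (by rw [← cjg_mul, w.1.2.2]; group) fun h => htE ?_
        rw [hw] at h
        rw [eq_inv_of_mul_eq_one_left h]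
        exact inv_mem he'
    choose hw hwl using hmem
    refine Nat.card_le_card_of_injective (fun w => ⟨φ (tc (hw w)), hwl w⟩) fun u v e => ?_
    exact Subtype.ext (Subtype.ext ((cjg_eq g _ _).1 ((S.tc_inj (hw u) (hw v)).1 (congrArg Subtype.val e))))
  have hI : Nat.card I ≤ 1984 := by
    set E' := E.subgroupOf (CC (a : G))
    let f : I → CC (a : G) ⧸ E' := fun y =>
      QuotientGroup.mk (⟨y.1, Subgroup.mem_centralizer_singleton_iff.2 y.2.1⟩ : CC (a : G))
    haveI : Fintype (CC (a : G) ⧸ E') := Fintype.ofFinite _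
    have hidx : Nat.card (CC (a : G) ⧸ E') = 120 := by
      have := E'.card_mul_index
      rw [Nat.card_congr (Subgroup.subgroupOfEquivOfLe hEH).toEquiv, hEcard, hH, Subgroup.index] at this
      omega
    have hfib : ∀ c, Nat.card {y : I // f y = c} ≤ if c = QuotientGroup.mk 1 then 64 else 16 := by
      intro c
      by_cases he : Nonempty {y : I // f y = c}
      · obtain ⟨y, hy⟩ := he
        have hin : ∀ w : {w : I // f w = c}, y.1⁻¹ * w.1.1 ∈ E := fun w =>
          Subgroup.mem_subgroupOf.1 (QuotientGroup.eq.1 (hy.trans w.2.symm))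
        split_ifs with hc
        · rw [← hEcard]
          refine Nat.card_le_card_of_injective (fun w => ⟨y.1⁻¹ * w.1.1, hin w⟩) fun u v e => ?_
          exact Subtype.ext (Subtype.ext (mul_left_cancel (congrArg Subtype.val e :)))
        · refine le_trans ?_ (hcoset y fun h => hc (hy.symm.trans (QuotientGroup.eq.2 ?_)))
          · refine Nat.card_le_card_of_injective (fun w => ⟨w.1, hin w⟩) fun u v e => ?_
            exact Subtype.ext (congrArg Subtype.val e :)
          · rw [Subgroup.mem_subgroupOf]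
            simpa using inv_mem h
      · haveI := not_nonempty_iff.1 he
        simp
    calc Nat.card I = ∑ c, Nat.card {y : I // f y = c} := by
          rw [← Nat.card_sigma]; exact Nat.card_congr (Equiv.sigmaFiberEquiv f).symm
      _ ≤ ∑ c : CC (a : G) ⧸ E', if c = QuotientGroup.mk 1 then 64 else 16 := Finset.sum_le_sum fun c _ => hfib c
      _ ≤ ∑ c : CC (a : G) ⧸ E', (16 + if c = QuotientGroup.mk 1 then 48 else 0) :=
          Finset.sum_le_sum fun c _ => by split_ifs <;> omega
      _ = 120 * 16 + 48 := by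
          rw [Finset.sum_add_distrib, Finset.sum_const, Finset.card_univ, ← Nat.card_eq_fintype_card, hidx,
            Finset.sum_ite_eq' Finset.univ, if_pos (Finset.mem_univ _), smul_eq_mul]
      _ ≤ 1984 := by norm_num
  -- the pairs attached to `a`
  set F := {x : G // x * a = a * x ∧ IsConj z x}
  haveI : Fintype F := Fintype.ofFinite _
  let P := fun x : F => {y : G // IsConj (a : G) y ∧ Root (a : G) x.1 y}
  have hpairs : nPairs z (a : G) a ≤ ∑ x : F, Nat.card (P x) := by
    rw [← Nat.card_sigma, nPairs]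
    refine Nat.card_le_card_of_injective
      (fun p => ⟨⟨p.1.1, (S.alpha_mem p.2.1 p.2.2.1 p.2.2.2).1, p.2.1⟩, ⟨p.1.2, p.2.2⟩⟩) fun p q e => ?_
    exact Subtype.ext (congrArg (fun r : (Σ x : F, P x) => (r.1.1, r.2.1)) e :)
  have hPout : ∀ x : F, Nat.card (P x) ≤ 1984 := fun x => by
    refine le_trans (Nat.card_le_card_of_injective (fun y => (⟨y.1, (S.alpha_mem (p := (x.1, y.1)) x.2.2 y.2.1 y.2.2).2,
      inv_of_ord (S.ord_of_conj S.a_inv y.2.1)⟩ : I)) fun u v e => Subtype.ext (congrArg Subtype.val e :)) hI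
  have hPin : ∀ x : F, x.1 ∈ E → Nat.card (P x) ≤ 513 := fun x hx => by
    have hxx := inv_of_ord (S.ord_of_conj S.L.z2 x.2.2)
    have hcase : ∀ y : P x, y.1 = x.1 * a ∨ y.1 * x.1 * y.1⁻¹ = x.1 * a := by
      intro y
      have hya := (S.alpha_mem (p := (x.1, y.1)) x.2.2 y.2.1 y.2.2).2
      have hyy := inv_of_ord (S.ord_of_conj S.a_inv y.2.1)
      have hyi : y.1⁻¹ = y.1 := inv_eq_of_mul_eq_one_right hyy
      have h4 : ((x.1 * y.1) * (x.1 * y.1)) * ((x.1 * y.1) * (x.1 * y.1)) = 1 := by
        refine hEsq _ ?_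
        rw [show x.1 * y.1 * (x.1 * y.1) = x.1 * (y.1 * x.1 * y.1) by group]
        have := hEconj y.1 hya x.1 hx
        rw [hyi] at this
        exact mul_mem hx this
      obtain ⟨i, hi⟩ := y.2.2
      have h4' : (x.1 * y.1) ^ 4 = 1 := by rw [← h4]; simp [pow_succ, mul_assoc]
      rw [← Nat.mod_add_div i 4, pow_add, pow_mul, h4', one_pow, mul_one] at hi
      have haa := inv_of_ord S.a_inv
      have hlt : i % 4 < 4 := Nat.mod_lt _ (by norm_num)
      interval_cases hj : i % 4
      · rw [pow_zero] at hi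
        have := S.a_inv
        rw [← hi, orderOf_one] at this; omega
      · left
        rw [pow_one] at hi
        have h5 := congrArg (fun r => x.1 * r) hi
        simp only [← mul_assoc, hxx, one_mul] at h5
        exact h5
      · right
        rw [pow_two] at hi
        have h5 := congrArg (fun r => x.1 * r) hi
        simp only [← mul_assoc, hxx, one_mul] at h5
        rw [hyi]
        exact h5
      · left
        have h1 : (x.1 * y.1)⁻¹ = (x.1 * y.1) ^ 3 := inv_eq_of_mul_eq_one_right (by rw [← pow_succ', h4'])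
        rw [hi] at h1
        have h2 : x.1 * y.1 = a := by rw [← inv_inv (x.1 * y.1), h1, inv_eq_of_mul_eq_one_right haa]
        have h5 := congrArg (fun r => x.1 * r) h2
        simp only [← mul_assoc, hxx, one_mul] at h5
        exact h5
    by_cases hne : ∃ y : P x, y.1 * x.1 * y.1⁻¹ = x.1 * a
    · obtain ⟨y0, hy0⟩ := hne
      have hyc : ∀ y : P x, y.1 * x.1 * y.1⁻¹ = x.1 * a → y0.1⁻¹ * y.1 ∈ CC x.1 ⊓ CC (a : G) := by
        intro y hy
        refine Subgroup.mem_inf.2 ⟨cj_mem_iff.1 (hy.trans hy0.symm), mul_mem (inv_mem ?_) ?_⟩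
        · exact Subgroup.mem_centralizer_singleton_iff.2 (S.alpha_mem (p := (x.1, y0.1)) x.2.2 y0.2.1 y0.2.2).2
        · exact Subgroup.mem_centralizer_singleton_iff.2 (S.alpha_mem (p := (x.1, y.1)) x.2.2 y.2.1 y.2.2).2
      have h512 : Nat.card (CC x.1 ⊓ CC (a : G) : Subgroup G) ≤ 512 :=
        S.two_le (S.pair_two x.2.2.symm (IsConj.refl (a : G)) x.2.1) inf_le_right
      calc Nat.card (P x) ≤ Nat.card (Option (CC x.1 ⊓ CC (a : G) : Subgroup G)) := by
            refine Nat.card_le_card_of_injective (fun y => if h : y.1 * x.1 * y.1⁻¹ = x.1 * a then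
              some ⟨_, hyc y h⟩ else none) fun u v e => ?_
            by_cases hu : u.1 * x.1 * u.1⁻¹ = x.1 * a <;> by_cases hv : v.1 * x.1 * v.1⁻¹ = x.1 * a <;>
              simp only [hu, hv, dite_true, dite_false, Option.some.injEq, reduceCtorEq] at e
            · exact Subtype.ext (mul_left_cancel (congrArg Subtype.val e :))
            · exact Subtype.ext (((hcase u).resolve_right hu).trans ((hcase v).resolve_right hv).symm)
        _ ≤ 513 := by rw [Finite.card_option]; omega
    · push Not at hne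
      have : Subsingleton (P x) := ⟨fun u v => Subtype.ext (((hcase u).resolve_right (hne u)).trans
        ((hcase v).resolve_right (hne v)).symm)⟩
      exact (Finite.card_le_one_iff_subsingleton.2 this).trans (by norm_num)
  have hFcard : Nat.card F = 105 := by
    have h1 := S.fused_H
    rw [hlen.2.2, hH] at h1
    have : Nat.card F = Nat.card {x : G // x * a = a * x ∧ IsConj z x} := rfl
    omega
  have hFE : Nat.card {x : F // x.1 ∈ E} = 45 := by
    have hnd : ((zT ids).filter (memC (eT ids))).Nodup := by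
      have : ∀ l ∈ partList, ((zT l)).Nodup := by decide +kernel
      exact (this ids hp).filter _
    rw [← heT.2.1, ← List.toFinset_card_of_nodup hnd, ← Nat.card_eq_finsetCard]
    refine Nat.card_congr (Equiv.ofBijective (fun x => ⟨φ (tc (hET x.2)), List.mem_toFinset.2
      (List.mem_filter.2 ⟨(S.zT_iff (hET x.2)).1 x.1.2.2.symm, memC_iff.2 ((hEmem _ (hET x.2)).1 x.2)⟩)⟩) ⟨?_, ?_⟩)
    · intro x y e
      exact Subtype.ext (Subtype.ext ((S.tc_inj (hET x.2) (hET y.2)).1 (congrArg Subtype.val e)))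
    · rintro ⟨c, hc⟩
      obtain ⟨hcz, hce⟩ := List.mem_filter.1 (List.mem_toFinset.1 hc)
      rw [memC_iff] at hce
      have hl : (elemList false false).filter (fun c => comN c aC) = listT := by simpa using listT_ok
      have hcT := (List.mem_filter.1 hce).1
      obtain ⟨u, rfl⟩ := (S.L.co.range c).1 (List.mem_filter.1 (hl.symm ▸ hcT : c ∈ _)).1
      have huT : (u : G) ∈ TT a := (S.mem_T u).2 hcT
      exact ⟨⟨⟨u, Subgroup.mem_centralizer_singleton_iff.1 (S.T_le huT), ((S.zT_iff huT).2 hcz).symm⟩,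
        (hEmem _ huT).2 hce⟩, rfl⟩
  have hsum : ∑ x : F, Nat.card (P x) ≤ 45 * 513 + 60 * 1984 := by
    calc ∑ x : F, Nat.card (P x) ≤ ∑ x : F, if x.1 ∈ E then 513 else 1984 := Finset.sum_le_sum fun x _ => by
          split_ifs with hx
          · exact hPin x hx
          · exact hPout x
      _ = 45 * 513 + 60 * 1984 := by
          rw [Finset.sum_ite, Finset.sum_const, Finset.sum_const, smul_eq_mul, smul_eq_mul]
          have e1 : (Finset.univ.filter fun x : F => x.1 ∈ E).card = 45 := by
            rw [← hFE, Nat.card_eq_fintype_card, Fintype.card_subtype]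
          have e2 := Finset.card_filter_add_card_filter_not (s := (Finset.univ : Finset F))
            (p := fun x : F => x.1 ∈ E)
          rw [Finset.card_univ, ← Nat.card_eq_fintype_card, hFcard] at e2
          rw [e1, show (Finset.univ.filter fun x : F => ¬ x.1 ∈ E).card = 60 by omega]
  have hord := S.order
  rw [hH, S.L.cardG, S.L.cardC] at hord
  have hbeta := S.beta_le
  rw [hlen.2.1, hlen.2.2] at hbeta
  have halpha := hpairs.trans hsum
  generalize nPairs z (a : G) z = β at hord hbeta
  generalize nPairs z (a : G) a = α at hord halpha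
  omega

/-- The fused classes are all but two. -/
theorem Sit.full : ids = [0, 1, 2, 4, 5] := by
  exfalso
  simp only [partList, List.mem_cons, List.not_mem_nil, or_false] at hp
  rcases hp with h | h
  · exact S.part_small h
  · exact S.part_big h

end Cfsg.Agent.Fus.HeUniq
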