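import Cfsg.Agent.Lib.Fus.HeUniq.Part

/-!
# The orbits of `T` on the classes of commuting conjugates
-/

set_option autoImplicit false
set_option linter.style.haveILetI false
set_option linter.unusedSectionVars false
set_option maxRecDepth 100000

namespace Cfsg.Agent.Fus.HeUniq

variable {G : Type*} [Group G] [Finite G] [IsSimpleGroup G] {z : G} {Q : Subgroup (CC z)} {φ : CC z → ℕ}
  {ids : List ℕ} {a : CC z} (S : Sit z Q φ ids a)
include S

theorem Sit.oneT : φ (tc (a := a) (one_mem (TT a))) = oneC := by
  rw [← S.L.co.map_one]; rfl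

theorem Sit.tc_inj {x y : G} (hx : x ∈ TT a) (hy : y ∈ TT a) : φ (tc hx) = φ (tc hy) ↔ x = y := by
  rw [S.L.co.eq_iff, Subtype.ext_iff]; rfl

theorem Sit.a_mem_iff : φ (tc (S.aT)) = aC := S.code

variable (hp : ids ∈ partList)
include hp

omit hp in
theorem Sit.level_top (hp : ids ∈ partList) : level (zT ids) 3 = [] := by
  simp only [partList, List.mem_cons, List.not_mem_nil, or_false] at hp
  rcases hp with rfl | rfl | rfl
  · exact List.isEmpty_iff.1 levelA
  · exact List.isEmpty_iff.1 levelB
  · exact List.isEmpty_iff.1 levelC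

/-- A subgroup of `T` containing `a` and free of conjugates of `z` has order at most `8`. -/
theorem Sit.free_le {P : Subgroup G} (hPT : P ≤ TT a) (haP : (a : G) ∈ P) (hfree : ∀ x ∈ P, ¬ IsConj x z) :
    Nat.card P ≤ 8 := by
  classical
  haveI : Fact (Nat.Prime 2) := ⟨Nat.prime_two⟩
  obtain ⟨n, hn⟩ := IsPGroup.iff_card.1 (S.T_two.to_le hPT)
  by_contra hc
  push Not at hc
  have hn4 : 4 ≤ n := by
    by_contra h
    push Not at h
    have : 2 ^ n ≤ 2 ^ 3 := Nat.pow_le_pow_right (by norm_num) (by omega)
    omega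
  have key : ∀ k ≤ 3, ∃ A : Subgroup G, A ≤ P ∧ Nat.card A = 2 ^ (k + 1) ∧ (a : G) ∈ A ∧
      ∃ l ∈ level (zT ids) k, ∀ (x : G) (hx : x ∈ TT a), x ∈ A ↔ φ (tc hx) ∈ l := by
    intro k
    induction k with
    | zero =>
      refine fun _ => ⟨Subgroup.zpowers (a : G), Subgroup.zpowers_le.2 haP, by rw [Nat.card_zpowers, S.a_inv]; rfl,
        Subgroup.mem_zpowers _, [oneC, aC], by simp [level], fun x hx => ?_⟩
      have hfin : x ∈ Subgroup.zpowers (a : G) ↔ x = 1 ∨ x = a := by
        constructor
        · intro h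
          rw [← mem_powers_iff_mem_zpowers] at h
          obtain ⟨i, rfl⟩ := h
          rcases Nat.even_or_odd i with ⟨j, rfl⟩ | ⟨j, rfl⟩
          · left; show (a : G) ^ (j + j) = 1
            rw [← two_mul, pow_mul, pow_two, inv_of_ord S.a_inv, one_pow]
          · right; show (a : G) ^ (2 * j + 1) = a
            rw [pow_succ, pow_mul, pow_two, inv_of_ord S.a_inv, one_pow, one_mul]
        · rintro (rfl | rfl)
          · exact one_mem _
          · exact Subgroup.mem_zpowers _
      rw [hfin, List.mem_cons, List.mem_singleton, ← S.oneT, ← S.a_mem_iff, S.tc_inj, S.tc_inj]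
    | succ k ih =>
      intro hk
      obtain ⟨A, hAP, hAc, haA, l, hl, hAl⟩ := ih (by omega)
      have hA' : Nat.card (A.subgroupOf P) = 2 ^ (k + 1) := by
        rw [Nat.card_congr (Subgroup.subgroupOfEquivOfLe hAP).toEquiv, hAc]
      obtain ⟨K, hKc, hAK⟩ := Sylow.exists_subgroup_card_pow_succ
        (show 2 ^ (k + 1 + 1) ∣ Nat.card P by rw [hn]; exact pow_dvd_pow 2 (by omega)) hA'
      set K' := K.map P.subtype with hK'
      have hK'P : K' ≤ P := Subgroup.map_subtype_le _
      have hK'c : Nat.card K' = 2 ^ (k + 1 + 1) := by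
        rw [← hKc]; exact (Nat.card_congr (K.equivMapOfInjective _ P.subtype_injective).toEquiv).symm
      have hAK' : A ≤ K' := fun x hx => ⟨⟨x, hAP hx⟩, hAK (Subgroup.mem_subgroupOf.2 hx), rfl⟩
      have hK'T : K' ≤ TT a := hK'P.trans hPT
      set O : Finset G := (Set.toFinite {x : G | x ∈ K' ∧ x ∉ A}).toFinset with hO
      have hOne : O.Nonempty := by
        by_contra he
        rw [Finset.not_nonempty_iff_eq_empty] at he
        have hle : K' ≤ A := fun x hx => by
          by_contra hxA
          have : x ∈ O := by rw [hO, Set.Finite.mem_toFinset]; exact ⟨hx, hxA⟩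
          simp [he] at this
        have := Subgroup.card_dvd_of_le hle
        rw [hK'c, hAc, Nat.pow_dvd_pow_iff_le_right (by norm_num)] at this
        omega
      obtain ⟨s, hs, hmin⟩ := O.exists_min_image
        (fun x => if hx : x ∈ TT a then φ (tc hx) else 0) hOne
      rw [hO, Set.Finite.mem_toFinset] at hs
      obtain ⟨hsK, hsA⟩ := hs
      have hcover : ∀ x ∈ K', x ∈ A ∨ s⁻¹ * x ∈ A := by
        let f : A ⊕ A → K' := Sum.elim (fun p => ⟨p.1, hAK' p.2⟩) (fun p => ⟨s * p.1, mul_mem hsK (hAK' p.2)⟩)
        have hf : Function.Injective f := by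
          rintro (p | p) (q | q) e <;> simp only [f, Sum.elim_inl, Sum.elim_inr, Subtype.mk.injEq] at e
          · rw [Subtype.ext e]
          · exact absurd (by rw [← mul_inv_cancel_right s (q : G), ← e]; exact mul_mem p.2 (inv_mem q.2) : s ∈ A) hsA
          · exact absurd (by rw [← mul_inv_cancel_right s (p : G), e]; exact mul_mem q.2 (inv_mem p.2) : s ∈ A) hsA
          · rw [Subtype.ext (mul_left_cancel e)]
        have hb := (Nat.bijective_iff_injective_and_card f).2
          ⟨hf, by rw [Nat.card_sum, hAc, hK'c, pow_succ (2 : ℕ) (k + 1)]; omega⟩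
        intro x hx
        obtain ⟨p | p, hpe⟩ := hb.2 ⟨x, hx⟩ <;> have hv := congrArg Subtype.val hpe
        · exact Or.inl ((show (p : G) = x from hv) ▸ p.2)
        · exact Or.inr (by rw [← show s * (p : G) = x from hv, inv_mul_cancel_left]; exact p.2)
      have hsq : s * s ∈ A := by
        rcases hcover _ (mul_mem hsK hsK) with h | h
        · exact h
        · rw [inv_mul_cancel_left] at h; exact absurd h hsA
      have hnorm : ∀ p ∈ A, s⁻¹ * p * s ∈ A := by
        intro p hp'
        rcases hcover _ (mul_mem (mul_mem (inv_mem hsK) (hAK' hp')) hsK) with h | h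
        · exact h
        · exfalso
          refine hsA ?_
          have h2 := mul_mem (inv_mem hp') (mul_mem hsq h)
          rwa [show p⁻¹ * (s * s * (s⁻¹ * (s⁻¹ * p * s))) = s by group] at h2
      have hsT : s ∈ TT a := hK'T hsK
      have hout : ∀ p ∈ A, s * p ∈ K' ∧ s * p ∉ A := fun p hp' =>
        ⟨mul_mem hsK (hAK' hp'), fun h => hsA (by
          have := mul_mem h (inv_mem hp'); rwa [mul_inv_cancel_right] at this)⟩
      have hnz : ∀ (x : G) (hx : x ∈ TT a), x ∈ K' → memC (zT ids) (φ (tc hx)) = false := fun x hx hxK =>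
        Bool.eq_false_iff.2 fun h => hfree x (hK'P hxK) ((S.zT_iff hx).2 (memC_iff.1 h))
      have hel : ∀ c ∈ l, ∃ (p : G) (hp' : p ∈ TT a), p ∈ A ∧ φ (tc hp') = c := by
        intro c hc
        -- all members of the levels are codes of elements of `A`
        have hsub : ∀ j, ∀ L ∈ level (zT ids) j, ∀ c ∈ L, c ∈ listT := by
          intro j
          induction j with
          | zero =>
            intro L hL c hc
            simp only [level, List.mem_singleton] at hL
            subst hL
            simp only [List.mem_cons, List.not_mem_nil, or_false] at hc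
            rcases hc with rfl | rfl
            · rw [← S.oneT]; exact (S.mem_T _).1 (one_mem _)
            · rw [← S.code]; exact (S.mem_T a).1 S.aT
          | succ j ihj =>
            intro L hL c hc
            simp only [level, List.mem_flatMap, extend, List.mem_filterMap] at hL
            obtain ⟨P0, hP0, e, he, heL⟩ := hL
            rw [Bool.cond_eq_ite] at heL
            split at heL
            · obtain rfl := Option.some.inj heL
              rcases List.mem_append.1 hc with h | h
              · exact ihj P0 hP0 c h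
              · obtain ⟨q, hq, rfl⟩ := List.mem_map.1 h
                have hs' := sqT_ok
                simp only [Bool.and_eq_true, beq_iff_eq] at hs'
                have he1 : e.1 ∈ listT := hs'.1 ▸ List.mem_map.2 ⟨e, he, rfl⟩
                have hq1 := ihj P0 hP0 q hq
                have hl' : (elemList false false).filter (fun c => comN c aC) = listT := by simpa using listT_ok
                obtain ⟨u, hu⟩ := (S.L.co.range _).1 (List.mem_filter.1 (hl'.symm ▸ he1 : e.1 ∈ _)).1
                obtain ⟨v, hv⟩ := (S.L.co.range _).1 (List.mem_filter.1 (hl'.symm ▸ hq1 : q ∈ _)).1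
                rw [← hu, ← hv, ← S.L.mulN_eq]
                exact (S.mem_T _).1 (show ((u * v : CC z) : G) ∈ TT a from
                  mul_mem ((S.mem_T u).2 (hu ▸ he1)) ((S.mem_T v).2 (hv ▸ hq1)))
            · exact absurd heL (by simp)
        have hl' : (elemList false false).filter (fun c => comN c aC) = listT := by simpa using listT_ok
        obtain ⟨u, hu⟩ := (S.L.co.range _).1 (List.mem_filter.1 (hl'.symm ▸ hsub k l hl c hc : c ∈ _)).1
        have huT : (u : G) ∈ TT a := (S.mem_T u).2 (hu ▸ hsub k l hl c hc)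
        exact ⟨u, huT, (hAl _ huT).2 (show φ u ∈ l from hu ▸ hc), hu⟩
      refine ⟨K', hK'P, hK'c, hAK' haA, l ++ l.map (mulN (φ (tc hsT))), ?_, fun x hx => ?_⟩
      · simp only [level, List.mem_flatMap]
        refine ⟨l, hl, ?_⟩
        rw [extend, List.mem_filterMap]
        have hs' := sqT_ok
        simp only [Bool.and_eq_true, beq_iff_eq, List.all_eq_true, Nat.beq_eq] at hs'
        obtain ⟨e, he, hes⟩ := List.mem_map.1 (hs'.1 ▸ (S.mem_T (tc hsT)).1 hsT : φ (tc hsT) ∈ sqT.map Prod.fst)
        refine ⟨e, he, ?_⟩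
        have c1 : memC (zT ids) e.1 = false := hes ▸ hnz s hsT hsK
        have c2 : memC l e.2 = true := by
          rw [memC_iff, ← hs'.2 e he, hes, ← S.mulT hsT hsT]; exact (hAl _ _).1 hsq
        have c3 : memC l e.1 = false := Bool.eq_false_iff.2 fun h => hsA ((hAl s hsT).2 (hes ▸ memC_iff.1 h))
        have c4 : (l.all fun p => let c := mulN e.1 p; !memC (zT ids) c && Nat.ble e.1 c) = true := by
          rw [List.all_eq_true]
          intro c hc
          obtain ⟨p, hpT, hpA, rfl⟩ := hel c hc
          show (!memC (zT ids) (mulN e.1 (φ (tc hpT))) && Nat.ble e.1 (mulN e.1 (φ (tc hpT)))) = true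
          rw [hes, ← S.mulT hsT hpT, hnz _ _ (hout p hpA).1, Bool.not_false, Bool.true_and, Nat.ble_eq]
          have h2 := hmin (s * p) (by rw [hO, Set.Finite.mem_toFinset]; exact hout p hpA)
          rwa [dif_pos hsT, dif_pos (mul_mem hsT hpT)] at h2
        have c5 : (l.all fun p => memC (l.map (mulN e.1)) (mulN p e.1)) = true := by
          rw [List.all_eq_true]
          intro c hc
          obtain ⟨p, hpT, hpA, rfl⟩ := hel c hc
          have hqT : s⁻¹ * p * s ∈ TT a := mul_mem (mul_mem (inv_mem hsT) hpT) hsT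
          rw [memC_iff, List.mem_map, hes, ← S.mulT hpT hsT]
          refine ⟨φ (tc hqT), (hAl _ hqT).1 (hnorm p hpA), ?_⟩
          rw [← S.mulT hsT hqT, S.tc_inj]; group
        rw [c1, c2, c3, c4, c5, ← hes]
        rfl
      · rw [List.mem_append]
        constructor
        · intro hxK
          rcases hcover x hxK with h | h
          · exact Or.inl ((hAl x hx).1 h)
          · right
            have hq : s⁻¹ * x ∈ TT a := mul_mem (inv_mem hsT) hx
            refine List.mem_map.2 ⟨φ (tc hq), (hAl _ hq).1 h, ?_⟩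
            rw [← S.mulT hsT hq, S.tc_inj, mul_inv_cancel_left]
        · rintro (h | h)
          · exact hAK' ((hAl x hx).2 h)
          · obtain ⟨c, hc, hce⟩ := List.mem_map.1 h
            obtain ⟨p, hpT, hpA, rfl⟩ := hel c hc
            rw [← S.mulT hsT hpT, S.tc_inj] at hce
            exact hce ▸ mul_mem hsK (hAK' hpA)
  obtain ⟨A, -, -, -, l, hl, -⟩ := key 3 le_rfl
  rw [S.level_top hp] at hl
  simp at hl

/-- The number of conjugates of `z` with translate a conjugate. -/
theorem Sit.card_D : Nat.card {q : G // InD z a q} * 256 = Nat.card (CC (a : G)) := by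
  have h := S.count_H (fun x y => IsConj z (x * y)) (fun g x y h => by rw [← cjg_mul]; exact h.trans (isConj_cj g _))
    (fun c => fSet ids (clsOf invTabSN (mulM zC0 c))) fun y _ _ => by
      rw [show zC0 = φ (zc z) from S.L.co.map_z.symm, ← S.L.co.map_mul, ← S.cls]
      exact conj_symm_iff
  have hl : ∀ l ∈ partList, (((invTabSN.filter fun e => !fSet l e.2.1).map Prod.fst).filter
      fun c => fSet l (clsOf invTabSN (mulM zC0 c))).length = 84 := by decide +kernel
  rw [hl ids hp] at h
  have e : Nat.card {q : G // InD z a q} = Nat.card {x : G // x * a = a * x ∧ IsConj z x ∧ IsConj z (x * a)} := rfl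
  omega

/-- Commuting as a relation on the conjugates with translate a conjugate. -/
def Sit.setoid : Setoid {q : G // InD z a q} :=
  ⟨fun x y => x.1 * y.1 = y.1 * x.1, fun _ => rfl, fun h => h.symm,
    fun {x y w} h1 h2 => S.d_trans hp x.2 y.2 w.2 h1 h2⟩

/-- The number of classes times their size. -/
theorem Sit.orbit_count : ∃ n : ℕ, n % 64 = 1 ∧ Nat.card {q : G // InD z a q} = n * (kT ids).length := by
  classical
  set D := {q : G // InD z a q}
  let s : Setoid D := S.setoid hp
  haveI : Fintype (Quotient s) := Fintype.ofFinite _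
  have hrel : ∀ x y : D, Quotient.mk s x = Quotient.mk s y ↔ x.1 * y.1 = y.1 * x.1 := fun x y =>
    ⟨fun h => (Quotient.exact h : s.r x y), fun h => Quotient.sound (show s.r x y from h)⟩
  -- the class in `T`
  have hkT : Nat.card {x : G // x ∈ TT a ∧ InD z a x} = (kT ids).length := by
    have hnd : (kT ids).Nodup := by
      have : ∀ l ∈ partList, (kT l).Nodup := by decide +kernel
      exact this ids hp
    rw [← List.toFinset_card_of_nodup hnd, ← Nat.card_eq_finsetCard]
    refine Nat.card_congr (Equiv.ofBijective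
      (fun x => ⟨φ (tc x.2.1), List.mem_toFinset.2 ((S.kT_iff x.2.1).1 x.2.2)⟩) ⟨?_, ?_⟩)
    · intro x y h
      exact Subtype.ext ((S.tc_inj x.2.1 y.2.1).1 (congrArg Subtype.val h))
    · rintro ⟨c, hc⟩
      have hc' := List.mem_toFinset.1 hc
      have h2 := invT_ok
      simp only [Bool.and_eq_true, beq_iff_eq] at h2
      obtain ⟨e, he, hec⟩ := List.mem_map.1 (List.mem_filter.1 hc').1
      have h3 : e.1 ∈ invT.map Prod.fst := List.mem_map.2 ⟨e, (List.mem_filter.1 he).1, rfl⟩
      rw [← h2.1.1, List.mem_filter, hec] at h3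
      have hl : (elemList false false).filter (fun c => comN c aC) = listT := by simpa using listT_ok
      obtain ⟨u, hu⟩ := (S.L.co.range _).1 (List.mem_filter.1 (hl.symm ▸ h3.1 : c ∈ _)).1
      have huT : (u : G) ∈ TT a := (S.mem_T u).2 (hu ▸ h3.1)
      exact ⟨⟨u, huT, (S.kT_iff huT).2 (show φ u ∈ _ from hu ▸ hc')⟩, Subtype.ext hu⟩
  obtain ⟨k0, hk0T, hk0⟩ : ∃ k, k ∈ TT a ∧ InD z a k := by
    have hne : 0 < Nat.card {x : G // x ∈ TT a ∧ InD z a x} := by
      rw [hkT]
      have : ∀ l ∈ partList, 0 < (kT l).length := by decide +kernel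
      exact this ids hp
    obtain ⟨⟨x, hx⟩⟩ := (Nat.card_pos_iff.1 hne).1
    exact ⟨x, hx⟩
  have hfib : ∀ c : (Quotient s), Nat.card {x : D // Quotient.mk s x = c} = (kT ids).length := by
    intro c
    induction c using Quotient.inductionOn with
    | _ q =>
      rw [← hkT]
      obtain ⟨g, ga, hg⟩ := S.into_T q.2.1 q.2.2.1.symm
      have ga2 : g⁻¹ * a = a * g⁻¹ := (Commute.inv_left ga).eq
      refine Nat.card_congr
        { toFun := fun x => ⟨g * x.1.1 * g⁻¹, hg _ x.1.2.1 ((hrel _ _).1 x.2), x.1.2.cj ga⟩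
          invFun := fun w => ⟨⟨g⁻¹ * w.1 * g, by simpa using w.2.2.cj ga2⟩, (hrel _ _).2 ?_⟩
          left_inv := fun x => Subtype.ext (Subtype.ext (by simp [mul_assoc]))
          right_inv := fun w => Subtype.ext (by simp [mul_assoc]) }
      have h1 := cjg_comm g⁻¹ (S.k_comm hp w.2.1 (hg q.1 q.2.1 rfl) w.2.2 (q.2.cj ga))
      show g⁻¹ * w.1 * g * q.1 = q.1 * (g⁻¹ * w.1 * g)
      simpa [mul_assoc] using h1
  have hD : Nat.card D = Nat.card (Quotient s) * (kT ids).length := by
    rw [Nat.card_congr (Equiv.sigmaFiberEquiv (Quotient.mk s)).symm, Nat.card_sigma, Finset.sum_congr rfl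
      (fun c _ => hfib c), Finset.sum_const, Finset.card_univ, smul_eq_mul, Nat.card_eq_fintype_card]
  refine ⟨Nat.card (Quotient s), ?_, hD⟩
  -- the action of `T`
  let act : TT a → D → D := fun t q =>
    ⟨(t : G) * q.1 * (t : G)⁻¹, q.2.cj (Subgroup.mem_centralizer_singleton_iff.1 (S.T_le t.2))⟩
  letI : MulAction (TT a) (Quotient s) :=
    { smul := fun t => Quotient.map (act t) fun x y h => (show s.r (act t x) (act t y) from cjg_comm (t : G) (show s.r x y from h))
      one_smul := fun c => by
        induction c using Quotient.inductionOn with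
        | _ q => exact congrArg (Quotient.mk s) (Subtype.ext (by simp [act]))
      mul_smul := fun t u c => by
        induction c using Quotient.inductionOn with
        | _ q => exact congrArg (Quotient.mk s) (Subtype.ext (by simp [act, mul_assoc])) }
  have hsmul : ∀ (t : TT a) (q : D), t • (Quotient.mk s q) = Quotient.mk s (act t q) := fun t q => rfl
  set c0 : (Quotient s) := Quotient.mk s ⟨k0, hk0⟩
  have hfix : ∀ t : TT a, t • c0 = c0 := fun t => by
    rw [hsmul]
    exact (hrel _ _).2 (S.k_comm hp (mul_mem (mul_mem t.2 hk0T) (inv_mem t.2)) hk0T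
      (hk0.cj (Subgroup.mem_centralizer_singleton_iff.1 (S.T_le t.2))) hk0)
  have horb : ∀ c : (Quotient s), c ≠ c0 → 64 ∣ Nat.card (MulAction.orbit (TT a) c) := by
    intro c hc
    induction c using Quotient.inductionOn with
    | _ q =>
      have hqT : q.1 ∉ TT a := fun h => hc ((hrel _ _).2 (S.k_comm hp h hk0T q.2 hk0))
      set st := MulAction.stabilizer (TT a) (Quotient.mk s q)
      have hle : Nat.card st ≤ 8 := by
        have h8 := S.free_le hp (P := st.map (TT a).subtype) (Subgroup.map_subtype_le _) ?_ ?_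
        · rwa [← Nat.card_congr (st.equivMapOfInjective _ (TT a).subtype_injective).toEquiv] at h8
        · refine ⟨⟨a, S.aT⟩, ?_, rfl⟩
          show (⟨a, S.aT⟩ : TT a) • Quotient.mk s q = Quotient.mk s q
          rw [hsmul]
          refine congrArg (Quotient.mk s) (Subtype.ext ?_)
          show (a : G) * q.1 * (a : G)⁻¹ = q.1
          rw [← q.2.1, mul_inv_cancel_right]
        · rintro _ ⟨t, ht, rfl⟩
          have h : Quotient.mk s (act t q) = Quotient.mk s q := ht
          exact S.stab_free hp t.2 q.2 hqT ((hrel _ _).1 h)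
      haveI : Fintype (TT a) := Fintype.ofFinite _
      haveI : Fintype (MulAction.orbit (TT a) (Quotient.mk s q)) := Fintype.ofFinite _
      haveI : Fintype (MulAction.stabilizer (TT a) (Quotient.mk s q)) := Fintype.ofFinite _
      have hmul := MulAction.card_orbit_mul_card_stabilizer_eq_card_group (TT a) (Quotient.mk s q)
      simp only [← Nat.card_eq_fintype_card] at hmul
      obtain ⟨j, hj, hjc⟩ : ∃ j ≤ 3, Nat.card st = 2 ^ j := by
        obtain ⟨j, hj⟩ := IsPGroup.iff_card.1 (S.T_two.to_subgroup st)
        refine ⟨j, ?_, hj⟩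
        by_contra h
        have : 2 ^ 4 ≤ 2 ^ j := Nat.pow_le_pow_right (by norm_num) (by omega)
        omega
      have hcard : Nat.card (MulAction.orbit (TT a) (Quotient.mk s q)) * Nat.card st = 512 := by
        rw [← S.card_T]
        exact hmul
      rw [hjc] at hcard
      interval_cases j <;> omega
  -- add up the orbits
  let Ω := MulAction.orbitRel.Quotient (TT a) (Quotient s)
  haveI : Fintype Ω := Fintype.ofFinite _
  have hsum : Nat.card (Quotient s) = ∑ ω : Ω, Nat.card ω.orbit := by
    rw [Nat.card_congr (MulAction.selfEquivSigmaOrbits' (TT a) (Quotient s)), Nat.card_sigma]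
  set ω0 : Ω := Quotient.mk'' c0
  have h0 : Nat.card ω0.orbit = 1 := by
    have horb0 : ω0.orbit = MulAction.orbit (TT a) c0 := MulAction.orbitRel.Quotient.orbit_mk c0
    rw [horb0, Nat.card_eq_one_iff_exists]
    refine ⟨⟨c0, MulAction.mem_orbit_self c0⟩, ?_⟩
    rintro ⟨c, t, rfl⟩
    exact Subtype.ext (hfix t)
  have hrest : ∀ ω ∈ Finset.univ.erase ω0, 64 ∣ Nat.card ω.orbit := by
    intro ω hω
    induction ω using Quotient.inductionOn' with
    | _ c =>
      rw [MulAction.orbitRel.Quotient.orbit_mk]
      exact horb c fun h => (Finset.mem_erase.1 hω).1 (h ▸ rfl)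
  obtain ⟨r, hr⟩ := Finset.dvd_sum hrest
  rw [hsum, ← Finset.add_sum_erase _ _ (Finset.mem_univ ω0), h0, hr]
  omega

end Cfsg.Agent.Fus.HeUniq
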