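import Cfsg.Agent.Lib.Fus.SuzUniq.Psl

/-!
# Finite checks in `PSL(3,4)`
-/

set_option autoImplicit false
set_option maxRecDepth 100000

namespace Cfsg.Agent.Fus.HeUniq.L34

open Cfsg.Agent.Spor.SU32 Cfsg.Agent.Fus.SuzUniq Cfsg.Agent.Fus.SuzUniq.M9

/-- The first two generators. -/
def dM : M9 := ⟨.o, .o, .e, .o, .e, .o, .e, .o, .o⟩

/-- The second generator. -/
def fM2 : M9 := ⟨.o, .e, .o, .e, .o, .o, .o, .o, .e⟩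

/-- The six candidates for the third generator. -/
def sixM : List M9 := [⟨.e, .o, .e, .o, .e, .o, .o, .o, .e⟩, ⟨.e, .o, .o, .o, .e, .o, .e, .o, .e⟩, ⟨.w, .v, .e, .e, .o, .w, .e, .e, .v⟩, ⟨.v, .e, .e, .w, .o, .e, .e, .v, .w⟩, ⟨.w, .e, .e, .v, .o, .e, .e, .w, .v⟩, ⟨.v, .w, .e, .e, .o, .v, .e, .e, .w⟩]

/-- The fourth generators belonging to the candidates. -/
def cM : List M9 := [⟨.e, .o, .w, .o, .e, .w, .o, .o, .e⟩, ⟨.e, .o, .o, .o, .e, .o, .w, .w, .e⟩, ⟨.w, .v, .e, .v, .w, .e, .o, .o, .e⟩, ⟨.o, .e, .o, .e, .o, .o, .v, .v, .e⟩, ⟨.o, .e, .o, .e, .o, .o, .w, .w, .e⟩, ⟨.v, .w, .e, .w, .v, .e, .o, .o, .e⟩]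

/-- The base candidate. -/
def base : ℕ := 1

/-- All involutions, as involutory matrices. -/
def invM : List M9 := [⟨.o, .o, .e, .o, .e, .o, .e, .o, .o⟩, ⟨.e, .o, .o, .o, .o, .e, .o, .e, .o⟩, ⟨.e, .o, .e, .o, .e, .o, .o, .o, .e⟩, ⟨.w, .w, .e, .o, .e, .o, .w, .e, .w⟩, ⟨.o, .e, .o, .e, .o, .o, .o, .o, .e⟩, ⟨.e, .o, .o, .e, .o, .e, .e, .e, .o⟩, ⟨.e, .o, .o, .w, .w, .e, .e, .w, .w⟩, ⟨.e, .o, .o, .o, .e, .o, .e, .o, .e⟩, ⟨.e, .o, .o, .o, .e, .e, .o, .o, .e⟩, ⟨.v, .w, .e, .o, .e, .o, .v, .v, .v⟩, ⟨.w, .e, .w, .o, .e, .o, .e, .w, .w⟩, ⟨.o, .e, .o, .e, .o, .o, .e, .e, .e⟩, ⟨.o, .e, .e, .e, .o, .e, .o, .o, .e⟩, ⟨.o, .e, .e, .o, .e, .o, .e, .e, .o⟩, ⟨.e, .o, .o, .v, .w, .e, .w, .w, .w⟩, ⟨.w, .w, .e, .e, .w, .w, .o, .o, .e⟩, ⟨.e, .o, .o, .o, .e, .o, .o, .e, .e⟩, ⟨.e, .o, .o, .e, .e, .o, .o,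 .o, .e⟩, ⟨.e, .o, .o, .e, .e, .e, .o, .o, .e⟩, ⟨.e, .o, .o, .w, .v, .e, .v, .v, .v⟩, ⟨.v, .v, .v, .o, .e, .o, .e, .w, .v⟩, ⟨.e, .o, .o, .e, .w, .w, .w, .e, .w⟩, ⟨.o, .e, .w, .o, .e, .o, .v, .v, .o⟩, ⟨.e, .w, .w, .o, .e, .o, .o, .o, .e⟩, ⟨.e, .e, .e, .o, .o, .e, .o, .e, .o⟩, ⟨.w, .v, .e, .v, .w, .e, .o, .o, .e⟩, ⟨.e, .e, .e, .o, .e, .o, .o, .o, .e⟩, ⟨.w, .v, .e, .o, .e, .o, .w, .w, .w⟩, ⟨.w, .w, .w, .e, .w, .v, .o, .o, .e⟩, ⟨.w, .e, .w, .w, .w, .e, .o, .o, .e⟩, ⟨.v, .w, .e, .v, .w, .w, .w, .w, .o⟩, ⟨.o, .o, .e, .w, .e, .w, .e, .o, .o⟩, ⟨.e, .e, .o, .o, .e, .o, .o, .o, .e⟩, ⟨.e, .o, .o, .e, .e, .o, .w, .o, .e⟩, ⟨.e, .o, .o, .v, .v, .e, .e, .v, .v⟩, ⟨.v, .v, .v, .e, .v, .w, .o, .o, .e⟩, ⟨.e, .o, .o, .v, .v, .v, .w, .e, .v⟩, ⟨.o, .v, .v, .o, .e, .o, .w, .e, .o⟩, ⟨.w, .w, .v, .o, .e, .o,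 .v, .w, .w⟩, ⟨.e, .o, .o, .v, .w, .w, .e, .e, .w⟩, ⟨.e, .o, .o, .w, .e, .w, .o, .o, .e⟩, ⟨.e, .o, .o, .e, .o, .w, .v, .v, .o⟩, ⟨.v, .w, .w, .o, .e, .o, .w, .w, .v⟩, ⟨.e, .o, .o, .o, .e, .o, .w, .w, .e⟩, ⟨.o, .o, .e, .e, .e, .e, .e, .o, .o⟩, ⟨.v, .v, .e, .w, .w, .e, .w, .v, .o⟩, ⟨.e, .o, .o, .e, .w, .v, .e, .v, .w⟩, ⟨.e, .o, .o, .o, .e, .o, .e, .e, .e⟩, ⟨.v, .v, .e, .o, .e, .o, .v, .e, .v⟩, ⟨.w, .w, .w, .o, .e, .o, .e, .v, .w⟩, ⟨.w, .e, .v, .w, .w, .w, .o, .o, .e⟩, ⟨.o, .w, .w, .w, .w, .v, .e, .w, .v⟩, ⟨.e, .e, .w, .o, .v, .v, .o, .e, .v⟩, ⟨.o, .e, .w, .v, .w, .e, .e, .e, .v⟩, ⟨.e, .w, .w, .o, .o, .e, .o, .e, .o⟩, ⟨.w, .v, .w, .w, .v, .e, .w, .w, .o⟩, ⟨.e, .o, .e, .o, .e, .w, .o, .o, .e⟩, ⟨.e, .e, .o, .o, .e, .o, .o, .e, .e⟩, ⟨.e, .e, .o, .o, .e, .o, .o, .w, .e⟩, ⟨.e, .o, .w, .o, .e,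 .e, .o, .o, .e⟩, ⟨.v, .v, .e, .e, .v, .v, .o, .o, .e⟩, ⟨.v, .e, .w, .v, .v, .v, .o, .o, .e⟩, ⟨.o, .v, .v, .v, .v, .w, .e, .v, .w⟩, ⟨.w, .w, .v, .w, .o, .w, .w, .e, .v⟩, ⟨.e, .o, .o, .o, .v, .v, .o, .e, .v⟩, ⟨.e, .o, .o, .w, .w, .v, .w, .v, .w⟩, ⟨.e, .o, .o, .v, .o, .v, .e, .w, .o⟩, ⟨.e, .w, .v, .o, .e, .o, .o, .o, .e⟩, ⟨.w, .e, .e, .w, .w, .v, .o, .o, .e⟩, ⟨.w, .v, .w, .o, .e, .o, .e, .e, .w⟩, ⟨.e, .o, .o, .o, .e, .w, .o, .o, .e⟩, ⟨.o, .v, .v, .w, .o, .e, .o, .o, .e⟩, ⟨.e, .o, .o, .v, .o, .w, .w, .v, .o⟩, ⟨.e, .o, .o, .w, .v, .w, .w, .w, .v⟩, ⟨.e, .o, .e, .o, .e, .e, .o, .o, .e⟩, ⟨.w, .w, .e, .v, .v, .e, .v, .w, .o⟩, ⟨.o, .v, .w, .e, .w, .w, .e, .v, .v⟩, ⟨.w, .e, .v, .o, .e, .o, .v, .e, .w⟩, ⟨.v, .e, .v, .o, .e, .o, .e, .v, .v⟩, ⟨.e, .o, .o, .w, .w, .w, .v, .e, .w⟩, ⟨.o, .w, .w, .o,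 .e, .o, .v, .e, .o⟩, ⟨.e, .e, .w, .o, .e, .o, .o, .o, .e⟩, ⟨.e, .e, .v, .o, .w, .w, .o, .e, .w⟩, ⟨.v, .o, .v, .e, .e, .w, .e, .o, .v⟩, ⟨.v, .e, .o, .v, .v, .o, .w, .e, .e⟩, ⟨.v, .e, .e, .e, .w, .v, .w, .e, .o⟩, ⟨.w, .v, .e, .e, .o, .w, .e, .e, .v⟩, ⟨.v, .w, .w, .e, .o, .e, .v, .v, .w⟩, ⟨.o, .e, .o, .e, .o, .o, .w, .w, .e⟩, ⟨.o, .w, .w, .e, .v, .w, .w, .v, .w⟩, ⟨.o, .v, .w, .v, .v, .e, .w, .e, .w⟩, ⟨.e, .o, .o, .w, .e, .o, .e, .o, .e⟩, ⟨.e, .o, .o, .e, .e, .o, .e, .o, .e⟩, ⟨.e, .e, .o, .o, .e, .o, .o, .v, .e⟩, ⟨.e, .w, .o, .o, .e, .o, .o, .e, .e⟩, ⟨.v, .o, .w, .e, .e, .e, .w, .o, .v⟩, ⟨.v, .e, .v, .v, .v, .e, .o, .o, .e⟩, ⟨.w, .v, .e, .w, .v, .v, .v, .v, .o⟩, ⟨.e, .e, .e, .o, .w, .v, .o, .v, .w⟩, ⟨.v, .v, .w, .v, .o, .v, .v, .e, .w⟩, ⟨.e, .w, .v, .o, .o, .w, .o, .v, .o⟩, ⟨.v, .e, .w,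 .w, .o, .w, .v, .w, .w⟩, ⟨.v, .e, .o, .v, .v, .o, .o, .o, .e⟩, ⟨.v, .o, .v, .o, .e, .o, .e, .o, .v⟩, ⟨.w, .v, .w, .v, .w, .w, .o, .o, .e⟩, ⟨.o, .w, .e, .v, .o, .v, .o, .o, .e⟩, ⟨.e, .o, .o, .o, .o, .v, .o, .w, .o⟩, ⟨.e, .o, .o, .w, .e, .v, .o, .o, .e⟩, ⟨.e, .o, .o, .o, .e, .o, .v, .w, .e⟩, ⟨.w, .w, .v, .e, .w, .e, .o, .o, .e⟩, ⟨.o, .v, .e, .v, .v, .v, .v, .w, .w⟩, ⟨.w, .e, .e, .o, .e, .o, .w, .v, .w⟩, ⟨.o, .v, .w, .o, .e, .o, .v, .w, .o⟩, ⟨.e, .o, .w, .o, .e, .o, .o, .o, .e⟩, ⟨.e, .o, .o, .w, .e, .o, .o, .o, .e⟩, ⟨.v, .v, .v, .v, .o, .e, .w, .v, .w⟩, ⟨.e, .w, .v, .o, .w, .e, .o, .w, .w⟩, ⟨.o, .v, .w, .w, .o, .v, .o, .o, .e⟩, ⟨.e, .o, .o, .o, .v, .w, .o, .w, .v⟩, ⟨.v, .w, .w, .w, .v, .w, .o, .o, .e⟩, ⟨.v, .w, .e, .w, .v, .e, .o, .o, .e⟩, ⟨.o, .w, .v, .e, .v, .v, .e, .w, .w⟩, ⟨.w, .e,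 .w, .v, .o, .w, .v, .e, .v⟩, ⟨.v, .o, .w, .w, .e, .w, .w, .o, .v⟩, ⟨.e, .e, .v, .o, .e, .o, .o, .o, .e⟩, ⟨.e, .o, .o, .e, .v, .v, .v, .e, .v⟩, ⟨.o, .e, .v, .o, .e, .o, .w, .w, .o⟩, ⟨.w, .o, .v, .o, .e, .o, .v, .o, .w⟩, ⟨.e, .o, .o, .o, .w, .w, .o, .e, .w⟩, ⟨.e, .o, .o, .e, .e, .w, .o, .o, .e⟩, ⟨.e, .o, .o, .w, .o, .w, .e, .v, .o⟩, ⟨.v, .e, .w, .o, .e, .o, .w, .e, .v⟩, ⟨.e, .o, .o, .o, .e, .o, .w, .e, .e⟩, ⟨.w, .e, .o, .w, .w, .o, .v, .e, .e⟩, ⟨.w, .o, .w, .e, .e, .v, .e, .o, .w⟩, ⟨.o, .o, .v, .v, .e, .w, .w, .o, .o⟩, ⟨.v, .o, .e, .w, .e, .e, .v, .o, .v⟩, ⟨.v, .v, .o, .e, .v, .o, .e, .w, .e⟩, ⟨.w, .e, .v, .e, .v, .e, .e, .w, .o⟩, ⟨.e, .v, .e, .o, .v, .v, .o, .e, .v⟩, ⟨.v, .e, .e, .w, .o, .e, .e, .v, .w⟩, ⟨.v, .v, .e, .v, .o, .w, .e, .w, .w⟩, ⟨.o, .e, .e, .w, .v, .w, .v, .v, .w⟩, ⟨.w,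 .v, .v, .e, .o, .e, .w, .w, .v⟩, ⟨.o, .e, .o, .e, .o, .o, .v, .v, .e⟩, ⟨.w, .w, .w, .v, .v, .w, .w, .e, .o⟩, ⟨.w, .e, .w, .e, .v, .v, .w, .v, .o⟩, ⟨.e, .o, .o, .w, .e, .o, .w, .o, .e⟩, ⟨.e, .o, .o, .e, .e, .o, .v, .o, .e⟩, ⟨.e, .v, .o, .o, .e, .o, .o, .e, .e⟩, ⟨.e, .w, .o, .o, .e, .o, .o, .v, .e⟩, ⟨.e, .w, .o, .o, .e, .o, .o, .w, .e⟩, ⟨.e, .e, .e, .o, .v, .w, .o, .w, .v⟩, ⟨.o, .e, .v, .w, .v, .e, .e, .e, .w⟩, ⟨.w, .o, .v, .e, .e, .e, .v, .o, .w⟩, ⟨.v, .w, .v, .v, .w, .e, .v, .v, .o⟩, ⟨.o, .e, .e, .v, .w, .v, .w, .w, .v⟩, ⟨.w, .v, .o, .v, .w, .o, .e, .e, .e⟩, ⟨.w, .e, .v, .v, .o, .v, .w, .v, .v⟩, ⟨.e, .v, .w, .o, .o, .v, .o, .w, .o⟩, ⟨.o, .o, .w, .w, .e, .v, .v, .o, .o⟩, ⟨.o, .v, .o, .w, .o, .o, .v, .w, .e⟩, ⟨.e, .e, .w, .o, .o, .w, .o, .v, .o⟩, ⟨.v, .v, .o, .e, .v, .o, .o, .o, .e⟩,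 ⟨.v, .o, .e, .o, .e, .o, .v, .o, .v⟩, ⟨.o, .o, .v, .o, .e, .o, .w, .o, .o⟩, ⟨.e, .o, .w, .o, .e, .w, .o, .o, .e⟩, ⟨.e, .w, .e, .o, .o, .v, .o, .w, .o⟩, ⟨.w, .o, .e, .w, .e, .v, .w, .o, .w⟩, ⟨.o, .w, .o, .v, .o, .o, .o, .o, .e⟩, ⟨.e, .o, .o, .e, .e, .v, .o, .o, .e⟩, ⟨.e, .o, .o, .v, .e, .w, .o, .o, .e⟩, ⟨.e, .o, .o, .o, .e, .o, .w, .v, .e⟩, ⟨.e, .o, .o, .e, .w, .e, .v, .w, .w⟩, ⟨.w, .w, .v, .v, .v, .v, .e, .v, .o⟩, ⟨.v, .e, .e, .o, .e, .o, .v, .w, .v⟩, ⟨.o, .v, .e, .o, .e, .o, .e, .v, .o⟩, ⟨.o, .w, .v, .o, .e, .o, .w, .v, .o⟩, ⟨.v, .o, .w, .o, .e, .o, .w, .o, .v⟩, ⟨.e, .o, .o, .o, .e, .o, .w, .o, .e⟩, ⟨.e, .w, .o, .o, .e, .o, .o, .o, .e⟩, ⟨.e, .o, .o, .w, .e, .o, .v, .o, .e⟩, ⟨.w, .v, .w, .e, .o, .v, .v, .v, .v⟩, ⟨.w, .w, .o, .e, .w, .o, .v, .w, .e⟩, ⟨.o, .w, .v, .v, .o, .w, .o, .o,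 .e⟩, ⟨.v, .o, .w, .v, .e, .v, .w, .o, .v⟩, ⟨.v, .w, .o, .w, .v, .o, .o, .o, .e⟩, ⟨.e, .w, .w, .o, .v, .w, .o, .w, .v⟩, ⟨.o, .e, .w, .e, .o, .w, .o, .o, .e⟩, ⟨.e, .o, .o, .e, .v, .w, .e, .w, .v⟩, ⟨.v, .e, .v, .w, .o, .v, .w, .e, .w⟩, ⟨.v, .w, .v, .w, .v, .v, .o, .o, .e⟩, ⟨.e, .v, .v, .o, .w, .v, .o, .v, .w⟩, ⟨.e, .o, .o, .o, .e, .o, .v, .e, .e⟩, ⟨.e, .o, .o, .w, .v, .v, .e, .e, .v⟩, ⟨.e, .o, .o, .o, .w, .v, .o, .v, .w⟩, ⟨.e, .o, .o, .e, .o, .v, .w, .w, .o⟩, ⟨.e, .o, .v, .o, .e, .o, .o, .o, .e⟩, ⟨.w, .e, .o, .w, .w, .o, .o, .o, .e⟩, ⟨.w, .o, .w, .o, .e, .o, .e, .o, .w⟩, ⟨.e, .o, .o, .w, .e, .e, .o, .o, .e⟩, ⟨.o, .v, .e, .w, .o, .w, .o, .o, .e⟩, ⟨.e, .o, .o, .o, .o, .w, .o, .v, .o⟩, ⟨.e, .o, .o, .o, .e, .o, .e, .w, .e⟩, ⟨.w, .w, .o, .e, .w, .o, .e, .v, .e⟩, ⟨.w, .e, .o, .w, .w, .o, .e,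 .w, .e⟩, ⟨.w, .o, .e, .v, .e, .e, .w, .o, .w⟩, ⟨.e, .w, .e, .o, .v, .e, .o, .v, .v⟩, ⟨.v, .v, .o, .e, .v, .o, .v, .e, .e⟩, ⟨.o, .w, .e, .e, .v, .e, .v, .e, .w⟩, ⟨.e, .e, .v, .o, .v, .e, .o, .v, .v⟩, ⟨.v, .o, .v, .v, .e, .e, .e, .o, .v⟩, ⟨.v, .e, .o, .v, .v, .o, .e, .v, .e⟩, ⟨.w, .e, .e, .v, .o, .e, .e, .w, .v⟩, ⟨.e, .v, .e, .o, .w, .e, .o, .w, .w⟩, ⟨.w, .w, .e, .w, .o, .v, .e, .v, .v⟩, ⟨.w, .v, .v, .w, .v, .w, .e, .e, .o⟩, ⟨.e, .v, .v, .o, .o, .e, .o, .e, .o⟩, ⟨.o, .e, .w, .w, .v, .v, .w, .w, .w⟩, ⟨.v, .v, .w, .w, .w, .w, .e, .w, .o⟩, ⟨.v, .e, .v, .e, .w, .w, .v, .w, .o⟩, ⟨.e, .w, .w, .o, .w, .v, .o, .v, .w⟩, ⟨.e, .o, .v, .o, .e, .e, .o, .o, .e⟩, ⟨.e, .o, .o, .v, .e, .o, .e, .o, .e⟩, ⟨.e, .v, .o, .o, .e, .o, .o, .w, .e⟩, ⟨.e, .v, .o, .o, .e, .o, .o, .o, .e⟩, ⟨.v, .w, .o, .w, .v, .o,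 .e, .e, .e⟩, ⟨.w, .e, .e, .e, .v, .w, .v, .e, .o⟩, ⟨.v, .w, .e, .e, .o, .v, .e, .e, .w⟩, ⟨.o, .v, .v, .e, .w, .v, .v, .w, .v⟩, ⟨.o, .w, .v, .w, .w, .e, .v, .e, .v⟩, ⟨.v, .w, .w, .v, .w, .v, .e, .e, .o⟩, ⟨.w, .v, .o, .v, .w, .o, .w, .w, .e⟩, ⟨.e, .e, .v, .o, .o, .v, .o, .w, .o⟩, ⟨.v, .o, .v, .w, .e, .v, .e, .o, .v⟩, ⟨.o, .w, .o, .v, .o, .o, .w, .v, .e⟩, ⟨.o, .v, .o, .w, .o, .o, .w, .e, .e⟩, ⟨.o, .o, .w, .e, .e, .w, .v, .o, .o⟩, ⟨.e, .o, .o, .o, .v, .e, .o, .v, .v⟩, ⟨.v, .v, .o, .e, .v, .o, .w, .v, .e⟩, ⟨.w, .o, .e, .o, .e, .o, .w, .o, .w⟩, ⟨.e, .w, .e, .o, .e, .o, .o, .o, .e⟩, ⟨.o, .o, .w, .o, .e, .o, .v, .o, .o⟩, ⟨.o, .w, .o, .v, .o, .o, .e, .w, .e⟩, ⟨.o, .o, .v, .w, .e, .e, .w, .o, .o⟩, ⟨.v, .o, .e, .e, .e, .v, .v, .o, .v⟩, ⟨.w, .o, .w, .v, .e, .w, .e, .o, .w⟩, ⟨.o, .v, .o, .w, .o,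 .o, .o, .o, .e⟩, ⟨.o, .w, .o, .v, .o, .o, .v, .e, .e⟩, ⟨.e, .o, .o, .v, .e, .e, .o, .o, .e⟩, ⟨.e, .v, .w, .o, .e, .o, .o, .o, .e⟩, ⟨.e, .o, .o, .o, .w, .e, .o, .w, .w⟩, ⟨.e, .o, .o, .v, .o, .e, .v, .e, .o⟩, ⟨.v, .v, .v, .w, .w, .v, .v, .e, .o⟩, ⟨.e, .w, .v, .o, .v, .v, .o, .e, .v⟩, ⟨.v, .w, .v, .o, .e, .o, .e, .e, .v⟩, ⟨.e, .o, .o, .e, .v, .e, .w, .v, .v⟩, ⟨.e, .v, .e, .o, .e, .o, .o, .o, .e⟩, ⟨.e, .o, .o, .w, .o, .v, .v, .w, .o⟩, ⟨.e, .v, .v, .o, .e, .o, .o, .o, .e⟩, ⟨.e, .o, .o, .o, .e, .o, .o, .w, .e⟩, ⟨.e, .o, .v, .o, .e, .w, .o, .o, .e⟩, ⟨.o, .e, .v, .v, .w, .w, .v, .v, .v⟩, ⟨.e, .o, .w, .o, .e, .v, .o, .o, .e⟩, ⟨.w, .e, .o, .w, .w, .o, .w, .v, .e⟩, ⟨.w, .w, .o, .e, .w, .o, .o, .o, .e⟩, ⟨.v, .w, .v, .e, .o, .w, .w, .w, .w⟩, ⟨.e, .v, .v, .o, .v, .w, .o, .w, .v⟩, ⟨.v, .w, .o, .w,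 .v, .o, .w, .w, .e⟩, ⟨.e, .o, .o, .w, .o, .e, .w, .e, .o⟩, ⟨.e, .o, .o, .v, .v, .w, .v, .w, .v⟩, ⟨.o, .e, .v, .e, .o, .v, .o, .o, .e⟩, ⟨.w, .o, .v, .v, .e, .v, .v, .o, .w⟩, ⟨.w, .v, .v, .v, .w, .v, .o, .o, .e⟩, ⟨.w, .v, .o, .v, .w, .o, .v, .v, .e⟩, ⟨.e, .o, .o, .o, .e, .o, .e, .v, .e⟩, ⟨.v, .e, .e, .v, .v, .w, .o, .o, .e⟩, ⟨.e, .o, .o, .v, .w, .v, .v, .v, .w⟩, ⟨.w, .v, .o, .v, .w, .o, .o, .o, .e⟩, ⟨.o, .w, .w, .v, .o, .e, .o, .o, .e⟩, ⟨.e, .o, .o, .o, .e, .v, .o, .o, .e⟩, ⟨.e, .o, .o, .o, .e, .o, .v, .o, .e⟩, ⟨.e, .v, .e, .o, .o, .w, .o, .v, .o⟩, ⟨.w, .w, .o, .e, .w, .o, .w, .e, .e⟩, ⟨.e, .w, .e, .o, .w, .w, .o, .e, .w⟩, ⟨.v, .e, .o, .v, .v, .o, .v, .w, .e⟩, ⟨.o, .v, .e, .e, .w, .e, .w, .e, .v⟩, ⟨.o, .o, .e, .v, .e, .v, .e, .o, .o⟩, ⟨.o, .w, .e, .w, .w, .w, .w, .v, .v⟩, ⟨.e, .v, .w,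 .o, .w, .w, .o, .e, .w⟩, ⟨.w, .o, .v, .w, .e, .w, .v, .o, .w⟩, ⟨.e, .o, .e, .o, .e, .v, .o, .o, .e⟩, ⟨.e, .o, .o, .v, .e, .o, .o, .o, .e⟩, ⟨.e, .o, .o, .v, .e, .o, .w, .o, .e⟩, ⟨.e, .v, .o, .o, .e, .o, .o, .v, .e⟩, ⟨.e, .o, .o, .o, .e, .o, .o, .v, .e⟩, ⟨.v, .w, .o, .w, .v, .o, .v, .v, .e⟩, ⟨.v, .e, .w, .e, .w, .e, .e, .v, .o⟩, ⟨.o, .o, .v, .e, .e, .v, .w, .o, .o⟩, ⟨.v, .o, .e, .v, .e, .w, .v, .o, .v⟩, ⟨.e, .v, .w, .o, .v, .e, .o, .v, .v⟩, ⟨.o, .w, .e, .o, .e, .o, .e, .w, .o⟩, ⟨.v, .v, .w, .o, .e, .o, .w, .v, .v⟩, ⟨.o, .v, .o, .w, .o, .o, .e, .v, .e⟩, ⟨.w, .v, .v, .o, .e, .o, .v, .v, .w⟩, ⟨.v, .v, .w, .e, .v, .e, .o, .o, .e⟩, ⟨.e, .o, .o, .v, .e, .v, .o, .o, .e⟩, ⟨.e, .o, .o, .o, .e, .o, .v, .v, .e⟩, ⟨.w, .w, .w, .w, .o, .e, .v, .w, .v⟩, ⟨.e, .o, .v, .o, .e, .v, .o, .o, .e⟩, ⟨.o, .o,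 .w, .v, .e, .e, .v, .o, .o⟩, ⟨.e, .e, .w, .o, .w, .e, .o, .w, .w⟩, ⟨.w, .o, .w, .w, .e, .e, .e, .o, .w⟩, ⟨.w, .o, .e, .e, .e, .w, .w, .o, .w⟩, ⟨.e, .o, .o, .v, .e, .o, .v, .o, .e⟩]

/-- The conjugates of the involutions under the generators. -/
def cloM : List (List ℕ) := [[0, 1, 2, 3], [4, 0, 5, 6], [7, 8, 0, 9], [10, 6, 9, 0], [1, 4, 11, 4], [12, 13, 1, 14], [15, 3, 14, 1], [2, 16, 7, 7], [17, 2, 18, 19], [20, 19, 3, 2], [3, 21, 22, 23], [24, 11, 4, 11], [5, 12, 24, 25], [13, 5, 26, 27], [28, 27, 6, 5], [6, 29, 30, 31], [32, 7, 16, 16], [8, 32, 17, 33], [18, 26, 8, 34], [35, 9, 34, 8], [9, 36, 37, 38], [29, 10, 39, 40], [37, 41, 10, 42], [43, 40, 42, 10], [11, 44, 12, 45], [46, 25, 45, 12], [47, 18, 13, 48], [49, 14, 48, 13], [14, 50, 51, 52], [21, 15, 53, 54], [51, 55, 15, 56], [31,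 54, 56, 15], [16, 17, 57, 58], [59, 58, 33, 17], [60, 48, 19, 18], [19, 61, 62, 63], [61, 20, 64, 65], [22, 66, 20, 67], [38, 65, 67, 20], [68, 69, 21, 70], [40, 23, 70, 21], [71, 22, 72, 73], [42, 73, 23, 22], [23, 43, 43, 43], [44, 24, 74, 75], [76, 75, 25, 24], [25, 77, 65, 64], [26, 47, 47, 47], [78, 34, 27, 26], [27, 79, 80, 81], [79, 28, 82, 83], [30, 63, 28, 61], [84, 83, 61, 28], [85, 86, 29, 87], [88, 31, 87, 29], [89, 30, 90, 59], [91, 59, 31, 30], [57, 92, 32, 93], [94, 33, 93, 32], [33, 56, 95, 55], [34, 96, 97, 98], [36, 35, 52, 51], [97, 99, 35, 100], [101, 51, 100, 35], [102, 103, 36, 46], [104, 38, 46, 36], [105, 37, 106, 107], [108, 107, 38, 37], [39, 109, 85, 110], [111, 39, 112, 113], [114, 113, 40, 39], [41, 105, 115, 116], [117, 112, 41, 118], [119, 42, 118, 41],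 [92, 74, 44, 120], [121, 45, 120, 44], [45, 122, 104, 123], [77, 46, 124, 103], [48, 125, 126, 127], [50, 49, 128, 129], [126, 130, 49, 131], [132, 129, 131, 49], [133, 134, 50, 135], [136, 52, 135, 50], [52, 137, 102, 102], [53, 138, 68, 139], [140, 53, 141, 142], [143, 142, 54, 53], [54, 88, 144, 88], [55, 101, 145, 101], [146, 141, 55, 95], [56, 94, 91, 147], [74, 57, 92, 148], [149, 148, 58, 57], [58, 91, 150, 151], [95, 152, 59, 90], [125, 60, 153, 154], [62, 155, 60, 156], [157, 154, 156, 60], [158, 62, 159, 160], [161, 160, 63, 62], [63, 89, 162, 89], [64, 163, 84, 84], [164, 64, 165, 77], [65, 104, 76, 166], [66, 71, 167, 168], [169, 165, 66, 170], [171, 67, 170, 66], [67, 172, 108, 108], [173, 68, 116, 115], [174, 115, 139, 68], [69, 173, 175, 176], [177, 72, 69, 178], [179,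 70, 178, 69], [70, 180, 114, 181], [182, 110, 71, 109], [183, 168, 109, 71], [72, 184, 182, 185], [186, 178, 73, 72], [73, 119, 187, 188], [189, 120, 75, 74], [75, 190, 191, 192], [190, 76, 188, 187], [123, 187, 166, 76], [193, 170, 77, 165], [96, 78, 194, 195], [80, 196, 78, 197], [127, 195, 197, 78], [198, 199, 79, 171], [200, 81, 171, 79], [201, 80, 202, 189], [131, 189, 81, 80], [81, 203, 132, 132], [82, 204, 198, 205], [206, 82, 160, 159], [160, 159, 83, 82], [83, 207, 206, 207], [207, 84, 208, 163], [209, 85, 210, 211], [212, 211, 110, 85], [86, 209, 213, 214], [215, 90, 86, 152], [216, 87, 152, 86], [87, 156, 217, 155], [217, 144, 88, 144], [218, 219, 89, 162], [90, 220, 218, 221], [166, 151, 147, 91], [222, 93, 148, 92], [93, 223, 224, 225], [224, 181, 94, 180], [151, 147, 180,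 94], [226, 95, 142, 141], [227, 228, 96, 222], [154, 98, 222, 96], [229, 97, 230, 143], [231, 143, 98, 97], [98, 157, 232, 157], [99, 229, 233, 234], [235, 135, 99, 134], [135, 100, 134, 99], [100, 235, 236, 236], [236, 237, 101, 145], [238, 102, 239, 137], [103, 238, 240, 241], [242, 106, 103, 124], [147, 166, 123, 104], [243, 244, 105, 245], [246, 116, 245, 105], [106, 247, 243, 248], [249, 124, 107, 106], [107, 250, 129, 128], [250, 108, 172, 172], [109, 111, 251, 252], [110, 253, 254, 253], [255, 256, 111, 257], [176, 252, 257, 111], [112, 258, 255, 259], [178, 118, 113, 112], [113, 260, 179, 179], [260, 114, 151, 150], [261, 150, 181, 114], [115, 262, 117, 263], [116, 264, 265, 265], [258, 117, 266, 267], [185, 267, 263, 117], [118, 186, 268, 186], [268, 123, 119, 122], [269, 188,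 122, 119], [120, 131, 270, 130], [122, 121, 271, 272], [270, 191, 121, 273], [274, 272, 273, 121], [124, 275, 193, 193], [276, 255, 125, 277], [278, 127, 277, 125], [279, 126, 258, 280], [281, 280, 127, 126], [128, 265, 133, 264], [240, 128, 242, 250], [129, 241, 249, 238], [130, 279, 282, 227], [247, 242, 130, 270], [241, 132, 203, 203], [214, 133, 283, 283], [284, 283, 264, 133], [134, 214, 136, 209], [137, 136, 209, 136], [210, 212, 137, 239], [138, 140, 207, 206], [208, 245, 138, 244], [245, 139, 244, 138], [139, 208, 285, 285], [228, 286, 140, 286], [204, 206, 286, 140], [141, 230, 228, 287], [142, 231, 267, 266], [144, 287, 143, 230], [145, 266, 146, 231], [288, 145, 289, 237], [230, 146, 262, 290], [232, 290, 231, 146], [148, 291, 154, 153], [291, 149, 223, 292], [150, 293, 149,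 294], [295, 292, 294, 149], [152, 226, 296, 226], [153, 297, 276, 201], [213, 153, 215, 291], [155, 158, 253, 254], [220, 215, 155, 217], [156, 216, 221, 218], [221, 232, 157, 232], [248, 298, 158, 298], [299, 254, 298, 158], [159, 161, 248, 243], [162, 243, 161, 161], [244, 162, 246, 219], [163, 164, 256, 200], [300, 285, 163, 208], [199, 251, 164, 301], [203, 200, 301, 164], [165, 202, 199, 302], [167, 236, 169, 235], [237, 167, 211, 210], [211, 210, 168, 167], [168, 289, 237, 289], [202, 169, 303, 303], [233, 303, 235, 169], [170, 257, 200, 256], [172, 171, 302, 199], [265, 240, 173, 269], [271, 176, 269, 173], [262, 174, 229, 174], [285, 234, 174, 229], [175, 194, 177, 304], [305, 175, 238, 249], [275, 249, 176, 175], [184, 177, 196, 306], [307, 306, 304, 177], [180, 179, 260, 260],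 [181, 263, 290, 262], [253, 182, 220, 261], [293, 261, 185, 182], [289, 183, 205, 198], [251, 198, 183, 183], [308, 218, 184, 216], [296, 185, 216, 184], [187, 268, 186, 268], [188, 301, 252, 251], [191, 302, 189, 202], [252, 271, 190, 309], [272, 192, 309, 190], [277, 273, 192, 191], [192, 274, 278, 274], [257, 193, 275, 275], [194, 305, 227, 282], [273, 304, 195, 194], [195, 278, 274, 278], [196, 201, 308, 297], [292, 197, 306, 196], [197, 295, 281, 281], [303, 310, 201, 276], [311, 205, 204, 204], [205, 312, 288, 299], [254, 239, 212, 212], [297, 213, 214, 213], [287, 217, 291, 215], [219, 308, 284, 313], [264, 246, 219, 246], [290, 221, 261, 220], [223, 222, 287, 228], [280, 225, 292, 223], [263, 224, 293, 314], [294, 314, 225, 224], [225, 281, 295, 295], [267, 296, 226, 296], [286,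 227, 311, 279], [310, 233, 234, 233], [234, 300, 313, 284], [239, 299, 305, 312], [301, 269, 241, 240], [302, 270, 250, 242], [282, 248, 247, 247], [304, 277, 259, 255], [256, 276, 300, 310], [306, 259, 280, 258], [259, 307, 307, 307], [266, 288, 279, 311], [314, 309, 272, 271], [298, 282, 312, 305], [283, 313, 297, 308], [313, 284, 310, 300], [312, 311, 299, 288], [309, 294, 314, 293]]

/-- Words for the transvections. -/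
def trW : List (List ℕ) := [[0, 1, 2, 1, 0], [1, 0, 2, 1, 0, 3, 0, 1, 2, 0, 1], [0, 2, 0], [1, 2, 1, 0, 3, 0, 1, 2, 1], [0, 1, 0, 2, 0, 1, 0], [0, 2, 1, 0, 3, 0, 1, 2, 0], [1, 0, 2, 0, 1], [2, 1, 0, 3, 0, 1, 2], [2], [0, 1, 2, 1, 0, 3, 0, 1, 2, 1, 0], [1, 2, 1], [0, 1, 2, 1, 0, 3, 0, 1, 2, 1, 0, 3]]

/-- Words moving the second generator to the involutions with a product of order three. -/
def moveW : List (List ℕ) := [[0], [1, 2, 0, 1, 2, 0, 1, 2, 0, 1], [], [1, 0, 2, 1, 0, 2, 1, 0, 2, 1], [0, 2, 1, 0, 3, 0, 1, 2, 0, 3, 0, 1, 3], [0, 1, 0, 3, 0, 1, 2, 0, 3, 0, 2], [0, 1, 0, 3, 0, 1], [1, 3, 0, 2, 1, 3, 0, 3, 0, 1, 2], [2, 1, 0, 2, 0, 1, 2], [2, 1, 0, 3, 0, 1, 2, 0, 3, 0, 1, 3], [1, 0, 3, 0, 1], [1, 0, 3, 0, 1, 2, 0, 3, 0, 2], [0, 1, 3, 0, 2, 1, 3, 0, 3, 0, 1, 2], [1, 0, 2, 1, 2, 0,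 1], [0, 1, 0, 2, 1, 3, 0, 2, 1, 0, 2, 1], [0, 2, 0, 3, 0, 2], [1, 2, 0, 1, 0, 2, 1], [2, 0, 1, 3, 0, 1, 2, 0, 1, 2], [1, 0, 2, 1, 0, 2, 3, 0, 2, 1, 0, 3, 0, 2, 3], [1, 0, 2, 1, 3, 0, 2, 1, 0, 2, 1], [2, 0, 1, 2, 1, 0, 2], [0, 1, 0, 2, 1, 2, 3, 0, 1], [2, 0, 3, 0, 2], [1, 0, 3, 0, 1, 2, 0, 1, 2, 1, 3, 0, 2], [1, 2, 1, 2, 0, 1, 3, 0, 1, 2, 1, 2], [1, 0, 2, 1, 2, 3, 0, 1], [0, 2, 0, 1, 3, 0, 1, 2, 0, 1, 2], [0, 1, 2, 1, 0, 2, 0, 3, 0, 1, 2, 1, 2], [1, 2, 0, 1, 0, 2, 0, 3, 0, 1, 2, 0, 3, 0, 2], [1, 2, 1, 2, 0, 3, 0, 1, 2, 1, 2], [1, 2, 1, 0, 2, 0, 3, 0, 1, 2, 1, 2], [2, 1, 3, 0, 1, 2, 3, 0, 2, 1, 3], [2, 0, 1, 2, 1, 3, 0, 2, 1, 0, 3, 0, 1], [0, 1, 2, 1, 2, 0, 1, 3, 0, 1, 2, 1, 2], [0, 2, 0, 1, 2, 1, 3, 0, 2], [1, 0, 2, 1, 2, 3, 0, 1, 2, 0, 3, 0, 2], [2, 1, 0, 2, 1, 0, 2, 1, 3, 0, 2], [0,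 2, 1, 0, 2, 1, 0, 2, 3, 0, 1, 2, 0, 1, 2], [2, 1, 0, 2, 1, 0, 2, 3, 0, 1, 2, 0, 1, 2], [1, 3, 0, 2, 3, 0, 2, 1, 0, 3, 0, 2, 1, 0, 2], [0, 1, 2, 1, 2, 0, 3, 0, 1, 2, 1, 2], [0, 3, 0, 3, 0, 2, 1, 2, 0, 3, 0, 3], [0, 1, 0, 2, 3, 0, 2, 1, 0, 2, 1], [1, 0, 3, 0, 1, 2, 0, 1, 3, 0, 1, 2, 0, 1, 2], [3, 0, 3, 0, 2, 1, 2, 0, 3, 0, 3], [1, 2, 0, 1, 0, 2, 0, 3, 0, 1], [0, 2, 1, 0, 2, 1, 0, 2, 1, 3, 0, 2], [1, 2, 3, 0, 2, 1, 3, 0, 1, 2, 3], [0, 1, 2, 0, 1, 0, 2, 0, 3, 0, 1], [2, 0, 3, 0, 2, 1, 0, 2, 1, 2, 3, 0, 1], [0, 2, 0, 3, 0, 2, 1, 0, 3, 0, 1], [2, 1, 0, 2, 0, 1, 0, 3, 0, 2], [1, 2, 0, 3, 0, 2, 1, 0, 3, 0, 2, 3], [1, 2, 0, 1, 2, 0, 1, 3, 0, 2, 1, 0, 2, 1], [2, 0, 1, 2, 1, 3, 0, 2], [0, 2, 1, 0, 2, 0, 1, 0, 3, 0, 2], [3, 0, 3, 0, 1, 2, 1, 0, 3, 0, 3], [2, 0, 3, 0, 2, 1, 0, 3, 0, 1], [0, 1, 2,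 0, 3, 0, 2, 1, 0, 3, 0, 2, 3], [1, 0, 2, 3, 0, 2, 1, 0, 2, 1], [0, 1, 2, 0, 1, 2, 0, 1, 3, 0, 2, 1, 0, 2, 1], [0, 1, 2, 0, 1, 2, 0, 1, 2, 3, 0, 1], [1, 2, 0, 1, 2, 0, 1, 2, 3, 0, 1], [0, 3, 0, 3, 0, 1, 2, 1, 0, 3, 0, 3]]

/-- Words for the base generators in those of each candidate. -/
def baseW : List (List (List ℕ)) := [[[0, 2, 0], [1, 3, 0, 1, 2, 0, 3, 0, 2, 1, 0, 3]], [[2], [3]], [[1, 2, 3, 0, 1, 3, 0, 2, 1, 3], [2, 3, 0, 2, 1, 0, 2, 0, 3]], [[0, 2, 1, 2, 3, 0, 1, 3, 0, 2, 1, 3], [0, 2, 1, 2, 0, 1, 3, 0, 2, 1, 2, 0, 1]], [[0, 2, 1, 2, 3, 0, 1, 3, 0, 2, 1, 3], [1, 3]], [[1, 2, 3, 0, 1, 3, 0, 2, 1, 3], [3, 0, 1, 2, 0, 3, 0, 2, 1, 0, 3]]]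

/-- Words for the fourth generators in two candidates. -/
def cW : List (List (List ℕ)) := [[[], [], [2, 3, 2, 1, 3, 1, 2, 3], [1, 3, 1, 2, 0, 1, 0, 2, 1, 3], [0, 2, 0, 3, 1, 2, 1, 0, 3, 0, 1], [1, 3, 1, 2, 1, 2, 3]], [[], [], [0, 2, 0, 3, 1, 2, 1, 0, 3, 0, 1], [1, 3, 1, 2, 1, 2, 3], [2, 3, 2, 1, 3, 1, 2, 3], [1, 3, 1, 2, 0, 1, 0, 2, 1, 3]], [[1, 3, 1, 2, 1, 2, 3], [0, 2, 0, 3, 1, 2, 1, 0, 3, 0, 1], [], [], [1, 3, 1, 2, 0, 1, 0, 2, 1, 3], [2, 3, 2, 1, 3, 1, 2, 3]], [[1, 3, 1, 2, 0, 1, 0, 2, 1, 3], [2, 3, 2, 1, 3, 1, 2, 3], [], [], [1, 3, 1, 2, 1, 2, 3], [0, 2, 0, 3, 1, 2, 1, 0, 3, 0, 1]], [[1, 3, 1, 2, 0, 1, 0, 2, 1, 3], [2, 3, 2, 1, 3, 1, 2, 3], [0, 2, 0, 3, 1, 2, 1, 0, 3, 0, 1], [1, 3, 1, 2, 1, 2, 3], [], []], [[1, 3, 1, 2, 1, 2, 3], [0, 2, 0, 3, 1, 2, 1, 0, 3, 0, 1], [2, 3, 2, 1,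 3, 1, 2, 3], [1, 3, 1, 2, 0, 1, 0, 2, 1, 3], [], []]]

/-- Words for the involutions commuting with the first generator. -/
def fixW : List (List ℕ) := [[], [0], [1, 0, 2, 7, 1, 6, 1, 0, 4, 1], [0, 7, 1, 6, 1, 7], [1, 0, 2, 4, 1, 3, 1, 0, 4, 1], [7, 1, 6, 1, 7], [0, 3, 1, 2, 1, 3], [0, 2, 1, 3, 1, 2], [2, 1, 3, 1, 2], [3, 1, 2, 1, 3], [1, 0, 2, 7, 1, 3, 1, 0, 7, 1], [4, 1, 5, 1, 4], [1, 0, 2, 4, 1, 5, 1, 0, 7, 1], [0, 4, 1, 5, 1, 4], [1, 0, 2, 7, 1, 0, 2, 7, 1], [1, 0, 2, 7, 1, 4, 1, 0, 6, 1], [0, 5, 1, 4, 1, 5], [1, 0, 2, 4, 1, 0, 2, 4, 1], [1, 0, 2, 4, 1, 2, 1, 0, 6, 1], [5, 1, 4, 1, 5], [1, 0, 2, 1, 7, 1, 0, 2, 7, 1], [1, 0, 2, 4, 1, 6, 1, 0, 2, 1], [1, 0, 2, 1, 4, 1, 0, 2, 4, 1], [1, 0, 2, 7, 1, 5, 1, 0, 2, 1], [6, 1, 7, 1, 6], [1, 0, 2, 7, 1, 2, 1, 0, 5, 1], [0, 6, 1, 7, 1, 6],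 [1, 0, 2, 4, 1, 7, 1, 0, 5, 1]]

/-- The four generators of a candidate. -/
def genK (k s : ℕ) : M9 := [dM, fM2, sixM.getD k dM, cM.getD k dM].getD s dM

/-- The first two generators and all candidates. -/
def genS (s : ℕ) : M9 := ([dM, fM2] ++ sixM).getD s dM

/-- The first two generators and two candidates. -/
def genP (k j s : ℕ) : M9 := [dM, fM2, sixM.getD k dM, sixM.getD j dM].getD s dM

/-- Two matrices equal modulo scalars, the second an involution. -/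
def eqI (A B : M9) : Bool := isSc (mul A B)

/-- The power three. -/
def cube (A : M9) : M9 := mul (mul A A) A

/-- The fifth power. -/
def fifth (A : M9) : M9 := mul (mul (mul A A) (mul A A)) A

/-- The conditions on a candidate. -/
def isCand (A : M9) : Bool :=
  let fu := mul fM2 A
  !(A == dM) && isSc (cube (mul dM A)) && isSc (mul (mul fu fu) (mul fu fu)) &&
    isSc (cube (mul dM (mul fu fu)))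

/-- The relations of one candidate with its fourth generator. -/
def chkRel (k : ℕ) : Bool :=
  let g := sixM.getD k dM
  let c := cM.getD k dM
  let fg := mul fM2 g
  let x := mul (mul (mul c dM) fM2) g
  invM.contains g && invM.contains c && mul c c == sca 1 && mul g g == sca 1 &&
    !isSc g && !isSc c && !isSc (mul fg fg) && isCand g && mul c fM2 == mul fM2 c && mul c g == mul g c &&
    isSc (fifth (mul c dM)) && !isSc (mul c dM) && !isSc (mul x x) && isSc (mul (mul x x) (mul x x))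

theorem rel_ok : (List.range 6).all chkRel = true := by decide +kernel

theorem base_ok : (invM.contains dM && invM.contains fM2 && mul dM dM == sca 1 && mul fM2 fM2 == sca 1 &&
    !isSc dM && !isSc fM2 && isSc (cube (mul dM fM2)) && !(fM2 == dM) && Nat.blt base 6) = true := by decide +kernel

theorem inv_ok : (invM.all fun A => mul A A == sca 1) = true := by decide +kernel

theorem clo_ok : ((List.range invM.length).all fun i => (List.range 4).all fun s =>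
    let j := (cloM.getD i []).getD s 0
    Nat.blt j invM.length && mul (genK base s) (mul (invM.getD i dM) (genK base s)) == invM.getD j dM) = true := by
  decide +kernel

theorem cand_ok : invM.filter isCand = sixM := by decide +kernel

/-- The transvection with one entry. -/
def trM (i j : ℕ) (c : F4) : M9 :=
  let e := fun p q => bif Nat.beq p i && Nat.beq q j then c else bif Nat.beq p q then (1 : F4) else 0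
  ⟨e 0 0, e 0 1, e 0 2, e 1 0, e 1 1, e 1 2, e 2 0, e 2 1, e 2 2⟩

/-- The places off the diagonal with two entries. -/
def trList : List (ℕ × ℕ × F4) :=
  [(0, 1, .e), (0, 1, .w), (0, 2, .e), (0, 2, .w), (1, 0, .e), (1, 0, .w), (1, 2, .e), (1, 2, .w),
    (2, 0, .e), (2, 0, .w), (2, 1, .e), (2, 1, .w)]

theorem tr_ok : ((List.range 12).all fun n =>
    let t := trList.getD n (0, 1, .e)
    eqI (evM (genK base) (trW.getD n [])) (trM t.1 t.2.1 t.2.2) && (trW.getD n []).all (fun s => Nat.blt s 4)) =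
    true := by decide +kernel

theorem baseW_ok : ((List.range 6).all fun k =>
    eqI (evM (genK k) ((baseW.getD k []).getD 0 [])) (sixM.getD base dM) &&
      eqI (evM (genK k) ((baseW.getD k []).getD 1 [])) (cM.getD base dM) &&
      ((baseW.getD k []).getD 0 []).all (fun s => Nat.blt s 4) &&
      ((baseW.getD k []).getD 1 []).all (fun s => Nat.blt s 4)) = true := by decide +kernel

/-- The mate of a candidate. -/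
def mate (k : ℕ) : ℕ := Nat.xor k 1

theorem cW_ok : ((List.range 6).all fun k => (List.range 6).all fun j =>
    let w := (cW.getD k []).getD j []
    Nat.beq j k || Nat.beq j (mate k) ||
      (eqI (evM (genP k j) w) (cM.getD k dM) && w.all (fun s => Nat.blt s 4))) = true := by decide +kernel

theorem move_ok : ((List.range invM.length).all fun i =>
    let A := invM.getD i dM
    A == dM || !isSc (cube (mul dM A)) || moveW.any fun w =>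
      let r := evM (genK base) w
      mul r dM == mul dM r && mul r fM2 == mul A r && w.all fun s => Nat.blt s 4) = true := by decide +kernel

theorem fixW_ok : ((fixW.all fun w => w.all fun s => Nat.blt s 8) &&
    invM.all (fun A => !(mul A dM == mul dM A) || fixW.any fun w => eqI (evM genS w) A) &&
    fixW.any (fun w => isSc (evM genS w))) = true := by decide +kernel

/-- The fixed-point-free involutions of six letters. -/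
def fpfList : List (List ℕ) :=
  [[1, 0, 3, 2, 5, 4], [1, 0, 4, 5, 2, 3], [1, 0, 5, 4, 3, 2], [2, 3, 0, 1, 5, 4], [2, 4, 0, 5, 1, 3],
    [2, 5, 0, 4, 3, 1], [3, 2, 1, 0, 5, 4], [3, 4, 5, 0, 1, 2], [3, 5, 4, 0, 2, 1], [4, 2, 1, 5, 0, 3],
    [4, 3, 5, 1, 0, 2], [4, 5, 3, 2, 0, 1], [5, 2, 1, 4, 3, 0], [5, 3, 4, 1, 2, 0], [5, 4, 3, 2, 1, 0]]

/-- Exchanging the candidates by a permutation. -/
def genT (p : List ℕ) (s : ℕ) : M9 :=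
  bif Nat.blt s 2 then genS s else genS (2 + p.getD (Nat.sub s 2) 0)

theorem fixed_few : (fpfList.all fun p =>
    Nat.ble ((fixW.filter fun w =>
      let A := evM genS w
      let B := evM (genT p) w
      A == B || A == mul (sca F4.w) B || A == mul (sca F4.v) B).length) 4) = true := by decide +kernel

end Cfsg.Agent.Fus.HeUniq.L34
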