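import Cfsg.Agent.Lib.Fus.HeUniq.Fixed

/-!
# Rotations of the three involutions commuting with the generators
-/

set_option autoImplicit false
set_option linter.style.haveILetI false
set_option linter.unusedSectionVars false
set_option maxRecDepth 100000

namespace Cfsg.Agent.Fus.HeUniq

open Cfsg.Agent.Spor.Cos (ev ev_map ev_mem)

open Cfsg.Agent.Spor.SU32 Cfsg.Agent.Spor.L34Elem L34

local notation "PS" => Matrix.ProjectiveSpecialLinearGroup (Fin 3) F4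

variable {G : Type*} [Group G]

/-- An element rotating `a`, `y` and their product. -/
structure Rot (a y ρ : G) : Prop where
  ra : ρ * a * ρ⁻¹ = y
  ry : ρ * y * ρ⁻¹ = a * y

variable [Finite G] [IsSimpleGroup G] {z : G} {Q : Subgroup (CC z)} {φ : CC z → ℕ} {a v : CC z}
  (F : FF z Q φ a v)
include F

theorem FF.rot_X {f y ρ : G} (Y : YY a v f y) (R : Rot (a : G) y ρ) {x : G} (hx : IsX a v x) (hxy : y * x = x * y) :
    IsX a v (ρ * x * ρ⁻¹) ∧ y * (ρ * x * ρ⁻¹) = ρ * x * ρ⁻¹ * y := by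
  have hxa := (F.mem_W.1 hx.1).1
  have hxv := (F.mem_W.1 hx.1).2
  have hay : (a : G) * y = y * a := Y.fa.symm
  have h3 : ρ * ((a : G) * y) * ρ⁻¹ = a := by
    rw [cjg_mul, R.ra, R.ry, ← mul_assoc, Y.fa, mul_assoc, Y.sq, mul_one]
  have hx' : x * ((a : G) * y) = (a : G) * y * x := by
    rw [← mul_assoc, hxa, mul_assoc, ← hxy, ← mul_assoc]
  set u := ρ * x * ρ⁻¹ with hu
  have huy : u * y = y * u := by
    have := cjg_comm ρ hxa
    rwa [R.ra] at this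
  have hua : u * a = a * u := by
    have := cjg_comm ρ hx'
    rwa [h3] at this
  have huz : IsConj u z := (isConj_cj_iff ρ x z).2 hx.2.1
  have huu : u * u = 1 := F.conj_sq huz
  have huv : u * v = v * u := by
    by_contra hc
    exact (F.outer_atype huu hua hc).2 huz
  refine ⟨⟨F.mem_W.2 ⟨hua, huv⟩, huz, ?_⟩, huy.symm⟩
  have hs : AType z (x * ((a : G) * y)) := by
    refine F.outer_atype ?_ ?_ ?_
    · calc x * ((a : G) * y) * (x * ((a : G) * y)) = x * (((a : G) * y) * x) * ((a : G) * y) := by group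
        _ = x * x * (((a : G) * y) * ((a : G) * y)) := by rw [← hx']; group
        _ = 1 := by
          rw [F.X_sq hx, one_mul, mul_assoc (a : G) y, ← mul_assoc y, Y.fa, mul_assoc (a : G) y, Y.sq, mul_one, F.aa]
    · rw [mul_assoc, mul_assoc (a : G) y, Y.fa, ← mul_assoc x, hxa, mul_assoc]
    · intro hc
      refine F.Y_out Y ?_
      have hav : (a : G) * v = v * a := F.v_comm.symm
      have h1 : x * ((a : G) * (y * v)) = x * ((a : G) * (v * y)) := by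
        calc x * ((a : G) * (y * v)) = x * ((a : G) * y) * v := by group
          _ = v * (x * ((a : G) * y)) := hc
          _ = x * (v * (a * y)) := by rw [← mul_assoc, ← hxv, mul_assoc]
          _ = x * ((a : G) * (v * y)) := by rw [← mul_assoc (v : G), ← hav, mul_assoc]
      exact mul_left_cancel (mul_left_cancel h1)
  have h4 := hs.cj ρ
  rwa [cjg_mul, h3] at h4

theorem FF.exists_rot {f y : G} (Y : YY a v f y) : ∃ ρ : G, ρ ∈ CC z ∧ Rot (a : G) y ρ := by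
  obtain ⟨p, hp, hpe⟩ := F.outer_rot Y.mem Y.sq (F.Y_out Y)
  have hd := dataF_rot
  simp only [List.all_eq_true, Bool.and_eq_true, Nat.beq_eq, Nat.blt_eq] at hd
  obtain ⟨hlt, ⟨⟨h1, h2⟩, -⟩, -⟩ := hd p hp
  obtain ⟨k, hk⟩ := (F.S.L.co.range _).1 (elemAt_mem false false hlt)
  rw [← hk, hpe, ← F.S.code] at h1 h2
  rw [← F.S.L.mulN_eq, ← F.S.L.mulN_eq] at h1 h2
  rw [← F.S.L.mulN_eq] at h2
  have e1 : (k : G) * a = y * k := congrArg Subtype.val (F.S.L.co.inj h1)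
  have e2 : (k : G) * y = a * y * k := congrArg Subtype.val (F.S.L.co.inj h2)
  exact ⟨k, k.2, mul_inv_eq_iff_eq_mul.2 e1, mul_inv_eq_iff_eq_mul.2 e2⟩

/-- A rotation fixing the first two generators. -/
theorem FF.exists_rot_fix {θ : WW a v →* PS} (H : Th F θ) {f y : G} (hf : IsX a v f)
    (hfv : θ ⟨f, hf.1⟩ = PP fM2) (Y : YY a v f y) :
    ∃ ρ : G, ρ * z = z * ρ ∧ ρ * f * ρ⁻¹ = f ∧ Rot (a : G) y ρ := by
  obtain ⟨hd2, hf2, -, -, hdf3, hfd, -⟩ := rels 0 (by norm_num)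
  have hzf : (z * f) ^ 3 = 1 := H.cube F.z_X hf (by rw [H.zval, hfv]; exact hdf3)
  have hfz : f ≠ z := fun e => hfd (by rw [← hfv, ← H.zval]; exact congrArg θ (Subtype.ext e))
  obtain ⟨ρ, hρ, R⟩ := F.exists_rot Y
  have hρz := Subgroup.mem_centralizer_singleton_iff.1 hρ
  obtain ⟨huX, huy⟩ := F.rot_X Y R hf Y.ff
  set u := ρ * f * ρ⁻¹ with hu
  have hzρ : ρ * z * ρ⁻¹ = z := by rw [hρz, mul_inv_cancel_right]
  have hzu : (z * u) ^ 3 = 1 := by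
    rw [hu, show z * (ρ * f * ρ⁻¹) = ρ * (z * f) * ρ⁻¹ by rw [cjg_mul, hzρ], conj_pow, hzf, mul_one, mul_inv_cancel]
  obtain ⟨r', hr1, hr2⟩ := move (H.ord huX) (fun e => hfz (by
      have := H.inj huX F.z_X (e.trans H.zval.symm)
      rw [hu] at this
      exact (cjg_eq ρ f z).1 (this.trans hzρ.symm)))
    (by rw [← H.zval, ← map_mul, ← map_pow, H.one]; exact Or.inl hzu)
  obtain ⟨⟨r, hrW⟩, rfl⟩ := H.surj r'
  have hrz : r * z = z * r := H.comm F.z_X hrW (by rw [H.zval]; exact hr1)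
  have hru : r * f * r⁻¹ = u := H.inj (F.X_cj hf hrW) huX (by
    rw [← hr2, ← hfv, ← map_inv, ← map_mul, ← map_mul]; rfl)
  have hrR : r ∈ RR a v := Subgroup.mem_inf.2 ⟨Subgroup.mem_centralizer_singleton_iff.2 hrz, hrW⟩
  -- the commutator with `y` lies in the four group
  set k := r⁻¹ * (y * r * y⁻¹) with hk
  have hkV : InV a v k := by
    have hry := F.cj_W Y.fa hrW
    refine H.cent_small hf hfz hzf (hk ▸ mul_mem (inv_mem hrW) hry) ?_ ?_
    · exact (Commute.mul_left (Commute.inv_left hrz) (Commute.mul_left (Commute.mul_left Y.fz hrz)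
        (Commute.inv_left Y.fz)) :)
    · refine mul_inv_eq_iff_eq_mul.1 ?_
      calc k * f * k⁻¹ = r⁻¹ * (y * (r * (y⁻¹ * f * y) * r⁻¹) * y⁻¹) * r := by rw [hk]; group
        _ = f := by
          rw [mul_assoc y⁻¹ f y, ← Y.ff, inv_mul_cancel_left, hru, huy, mul_inv_cancel_right, ← hru]; group
  obtain ⟨hrT, hrl⟩ := F.mem_R.1 hrR
  have hyr : y * r = k * (r * y) := by
    rw [← mul_assoc, ← F.V_comm hkV hrW, hk]; group
  obtain ⟨q, hq, hqe⟩ := F.outer_rot Y.mem Y.sq (F.Y_out Y)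
  have hd := dataY_lift
  simp only [chkLift, modV, List.all_eq_true, Bool.or_eq_true, Bool.not_eq_true', List.any_eq_true,
    ← Bool.not_eq_true, Nat.beq_eq] at hd
  have hVT : ∀ {x : G}, InV a v x → x ∈ TT a := by
    rintro x (rfl | rfl | rfl | rfl)
    exacts [one_mem _, F.S.aT, F.vT, mul_mem F.vT F.S.aT]
  obtain ⟨c, hc, hcj⟩ : ∃ c ∈ listV, comN (mulN (φ (tc hrT)) c) q.1 = true := by
    refine (hd q hq _ hrl).resolve_left fun hn => hn ?_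
    refine ⟨φ (tc (hVT hkV)), (F.listV_iff _).2 hkV, ?_⟩
    rw [hqe, ← F.S.mulT Y.mem hrT, ← F.S.mulT hrT Y.mem, ← F.S.mulT (hVT hkV) (mul_mem hrT Y.mem), F.S.tc_inj]
    exact hyr
  obtain ⟨j, hjT, rfl⟩ := F.elem_T (show c ∈ listT from (by decide +kernel : ∀ d ∈ listV, d ∈ listT) c hc)
  have hj := (F.listV_iff hjT).1 hc
  rw [← F.S.mulT hrT hjT, hqe, F.S.commT] at hcj
  have hsW : r * j ∈ WW a v := mul_mem hrW (F.V_W hj)
  have hs : Commute (r * j) z := Commute.mul_left hrz (F.V_comm hj F.zW).symm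
  have hsfix : r * j * f * (r * j)⁻¹ = u := by
    rw [show r * j * f * (r * j)⁻¹ = r * (j * f * j⁻¹) * r⁻¹ by group, ← F.V_comm hj hf.1, mul_inv_cancel_right, hru]
  have hsa : (r * j)⁻¹ * a = a * (r * j)⁻¹ := (Commute.inv_left ((F.mem_W.1 hsW).1) :)
  have hsy : (r * j)⁻¹ * y = y * (r * j)⁻¹ := (Commute.inv_left hcj :)
  refine ⟨(r * j)⁻¹ * ρ, (Commute.mul_left hs.inv_left hρz :), ?_, ⟨?_, ?_⟩⟩
  · calc (r * j)⁻¹ * ρ * f * ((r * j)⁻¹ * ρ)⁻¹ = (r * j)⁻¹ * (ρ * f * ρ⁻¹) * (r * j) := by group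
      _ = f := by rw [← hu, ← hsfix]; group
  · calc (r * j)⁻¹ * ρ * a * ((r * j)⁻¹ * ρ)⁻¹ = (r * j)⁻¹ * (ρ * a * ρ⁻¹) * (r * j) := by group
      _ = y := by rw [R.ra, hsy, inv_mul_cancel_right]
  · calc (r * j)⁻¹ * ρ * y * ((r * j)⁻¹ * ρ)⁻¹ = (r * j)⁻¹ * (ρ * y * ρ⁻¹) * (r * j) := by group
      _ = a * y := by rw [R.ry, (Commute.mul_right hsa hsy).eq, inv_mul_cancel_right]

/-- An element commuting with `y` and fixing no member of the four group is not the fourth generator. -/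
theorem FF.not_comm {θ : WW a v →* PS} (H : Th F θ) {k : ℕ} (hk : k < 6) {f g x y : G} (hf : IsX a v f)
    (hfv : θ ⟨f, hf.1⟩ = PP fM2) (hg : IsX a v g) (hgv : θ ⟨g, hg.1⟩ = PP (sixM.getD k dM)) (hx : IsX a v x)
    (hxv : θ ⟨x, hx.1⟩ = PP (cM.getD k dM)) (Y : YY a v f y) (hyg : y * g = g * y) : y * x ≠ x * y := by
  intro hyx
  set N : Subgroup (WW a v) := (CC y).subgroupOf (WW a v) with hN
  have hmem : ∀ w : WW a v, (w : G) * y = y * w → w ∈ N := fun w h =>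
    Subgroup.mem_subgroupOf.2 (Subgroup.mem_centralizer_singleton_iff.2 h)
  have htop : N.map θ = ⊤ := by
    rw [eq_top_iff, ← gen_top k hk, Subgroup.closure_le]
    rintro _ ⟨s, hs, rfl⟩
    interval_cases s
    · exact ⟨⟨z, F.zW⟩, hmem _ Y.fz.symm, H.zval⟩
    · exact ⟨⟨f, hf.1⟩, hmem _ Y.ff.symm, hfv⟩
    · exact ⟨⟨g, hg.1⟩, hmem _ hyg.symm, hgv⟩
    · exact ⟨⟨x, hx.1⟩, hmem _ hyx.symm, hxv⟩
  have hsplit : ∀ w : WW a v, ∃ n ∈ N, InV a v ((n : G)⁻¹ * w) := by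
    intro w
    obtain ⟨n, hn, e⟩ := htop.symm ▸ Subgroup.mem_top (θ w)
    exact ⟨n, hn, H.eq_iff.1 e⟩
  have hall : (⊤ : Subgroup (WW a v)) ≤ N := by
    rw [← F.W_perfect, commutator_def, Subgroup.commutator_le]
    intro p _ q _
    obtain ⟨n, hn, hp'⟩ := hsplit p
    obtain ⟨m, hm, hq'⟩ := hsplit q
    have e : p * q * p⁻¹ * q⁻¹ = n * m * n⁻¹ * m⁻¹ := by
      have hc1 : ∀ w : WW a v, (n⁻¹ * p) * w = w * (n⁻¹ * p) := fun w => Subtype.ext (F.V_comm hp' w.2).symm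
      have hc2 : ∀ w : WW a v, (m⁻¹ * q) * w = w * (m⁻¹ * q) := fun w => Subtype.ext (F.V_comm hq' w.2).symm
      calc p * q * p⁻¹ * q⁻¹ = n * (n⁻¹ * p * q) * (n⁻¹ * p)⁻¹ * n⁻¹ * q⁻¹ := by group
        _ = n * q * n⁻¹ * q⁻¹ := by rw [hc1 q]; group
        _ = n * m * (m⁻¹ * q * n⁻¹) * (m⁻¹ * q)⁻¹ * m⁻¹ := by group
        _ = n * m * n⁻¹ * m⁻¹ := by rw [hc2 n⁻¹]; group
    rw [commutatorElement_def, e]
    exact mul_mem (mul_mem (mul_mem hn hm) (inv_mem hn)) (inv_mem hm)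
  exact F.Y_out Y (Subgroup.mem_centralizer_singleton_iff.1 (Subgroup.mem_subgroupOf.1 (hall (Subgroup.mem_top ⟨v, F.vW⟩)))).symm

omit F in
/-- The relations of a third generator. -/
structure Third (a v : CC z) (f y g : G) : Prop where
  isX : IsX a v g
  fy : y * g = g * y
  ne : g ≠ z
  zg : (z * g) ^ 3 = 1
  fg : (f * g) ^ 4 = 1
  zfg : (z * (f * g) ^ 2) ^ 3 = 1

omit F in
theorem conj_pow_one {ρ p : G} {n : ℕ} (h : p ^ n = 1) : (ρ * p * ρ⁻¹) ^ n = 1 := by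
  rw [conj_pow, h, mul_one, mul_inv_cancel]

theorem FF.Third_rot {f y ρ g : G} (Y : YY a v f y) (R : Rot (a : G) y ρ) (hρz : ρ * z = z * ρ)
    (hρf : ρ * f * ρ⁻¹ = f) (T : Third a v f y g) : Third a v f y (ρ * g * ρ⁻¹) := by
  obtain ⟨h1, h2⟩ := F.rot_X Y R T.isX T.fy
  have hzρ : ρ * z * ρ⁻¹ = z := by rw [hρz, mul_inv_cancel_right]
  have ez : z * (ρ * g * ρ⁻¹) = ρ * (z * g) * ρ⁻¹ := by rw [cjg_mul, hzρ]
  have ef : f * (ρ * g * ρ⁻¹) = ρ * (f * g) * ρ⁻¹ := by rw [cjg_mul, hρf]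
  refine ⟨h1, h2, fun e => T.ne ((cjg_eq ρ g z).1 (e.trans hzρ.symm)), ?_, ?_, ?_⟩
  · rw [ez]; exact conj_pow_one T.zg
  · rw [ef]; exact conj_pow_one T.fg
  · rw [ef, conj_pow, show z * (ρ * (f * g) ^ 2 * ρ⁻¹) = ρ * (z * (f * g) ^ 2) * ρ⁻¹ by rw [cjg_mul, hzρ]]
    exact conj_pow_one T.zfg

theorem FF.Third_six {θ : WW a v →* PS} (H : Th F θ) {k : ℕ} (hk : k < 6) {f g x y u : G} (hf : IsX a v f)
    (hfv : θ ⟨f, hf.1⟩ = PP fM2) (hg : IsX a v g) (hgv : θ ⟨g, hg.1⟩ = PP (sixM.getD k dM)) (hx : IsX a v x)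
    (hxv : θ ⟨x, hx.1⟩ = PP (cM.getD k dM)) (Y : YY a v f y) (hyg : y * g = g * y) (T : Third a v f y u) :
    u = g ∨ θ ⟨u, T.isX.1⟩ = PP (sixM.getD (mate k) dM) := by
  have hu := T.isX
  have hc : Cand (PP dM) (PP fM2) (θ ⟨u, hu.1⟩) := by
    rw [← H.zval, ← hfv]
    refine ⟨fun e => T.ne (H.inj hu F.z_X e), ?_, ?_, ?_⟩ <;> simp only [← map_mul, ← map_pow, H.one]
    · exact Or.inl T.zg
    · exact Or.inl T.fg
    · exact Or.inl T.zfg
  obtain ⟨j, hj, hjv⟩ := cand_six (H.ord hu) hc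
  rcases eq_or_ne j k with rfl | hne
  · exact Or.inl (H.inj hu hg (hjv.trans hgv.symm))
  rcases eq_or_ne j (mate k) with rfl | hne2
  · exact Or.inr hjv
  exfalso
  obtain ⟨w, hw, he⟩ := c_word hk hj hne hne2
  let U : ℕ → WW a v := fun s => [⟨z, F.zW⟩, ⟨f, hf.1⟩, ⟨g, hg.1⟩, ⟨u, hu.1⟩].getD s ⟨z, F.zW⟩
  have hU : ∀ s, θ (U s) = PP (genP k j s) ∧ (U s : G) * y = y * (U s : G) := by
    intro s
    rcases s with _ | _ | _ | _ | s
    exacts [⟨H.zval, Y.fz.symm⟩, ⟨hfv, Y.ff.symm⟩, ⟨hgv, hyg.symm⟩, ⟨hjv, T.fy.symm⟩, ⟨H.zval, Y.fz.symm⟩]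
  rw [show (fun s => PP (genP k j s)) = fun s => θ (U s) from funext fun s => (hU s).1.symm, ← ev_map] at he
  have hev : ev U w ∈ (CC y).subgroupOf (WW a v) := ev_mem _ fun s _ =>
    Subgroup.mem_subgroupOf.2 (Subgroup.mem_centralizer_singleton_iff.2 (hU s).2)
  have hVe : InV a v (((ev U w : WW a v) : G)⁻¹ * x) := H.eq_iff.1 (he.trans hxv.symm)
  refine F.not_comm H hk hf hfv hg hgv hx hxv Y hyg ?_
  have h2 := Subgroup.mem_centralizer_singleton_iff.1 (Subgroup.mem_subgroupOf.1 hev)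
  have hxev : y * x * y⁻¹ = x := by
    refine H.inj (F.cj_X Y.fa hx) hx (H.eq_iff.2 ?_)
    show InV a v ((y * x * y⁻¹)⁻¹ * x)
    set e := ((ev U w : WW a v) : G)
    have hye : y * e * y⁻¹ = e := by rw [← h2, mul_inv_cancel_right]
    set q := e⁻¹ * x with hq
    have hxq : x = e * q := by rw [hq, mul_inv_cancel_left]
    rw [hxq, show (y * (e * q) * y⁻¹)⁻¹ * (e * q) = y * q⁻¹ * y⁻¹ * ((y * e * y⁻¹)⁻¹ * e) * q by group, hye,
      inv_mul_cancel, mul_one, inv_eq_of_mul_eq_one_right (F.InV_sq hVe)]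
    refine F.InV_mul ?_ hVe
    rcases hVe with e1 | e1 | e1 | e1 <;> rw [e1]
    · left; rw [mul_one, mul_inv_cancel]
    · right; left; rw [Y.fa, mul_inv_cancel_right]
    · right; right; right; exact Y.swap
    · right; right; left
      rw [cjg_mul, Y.swap, Y.fa, mul_inv_cancel_right, mul_assoc, F.aa, mul_one]
  exact mul_inv_eq_iff_eq_mul.1 hxev

/-- A rotation, or its square, fixing the three generators. -/
theorem FF.exists_b {θ : WW a v →* PS} (H : Th F θ) {k : ℕ} (hk : k < 6) {f g x y : G} (hf : IsX a v f)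
    (hfv : θ ⟨f, hf.1⟩ = PP fM2) (hg : IsX a v g) (hgv : θ ⟨g, hg.1⟩ = PP (sixM.getD k dM)) (hx : IsX a v x)
    (hxv : θ ⟨x, hx.1⟩ = PP (cM.getD k dM)) (Y : YY a v f y) (T : Third a v f y g) :
    ∃ b : G, AType z b ∧ b * z = z * b ∧ b * f = f * b ∧ b * g = g * b ∧ (a : G) * b * (a * b) ≠ 1 ∧
      ((a : G) * b) ^ 4 = 1 ∧ ((a : G) * b * (a * b) = y ∨ (a : G) * b * (a * b) = a * y) := by
  have hyg := T.fy
  obtain ⟨ρ, hρz, hρf, R⟩ := F.exists_rot_fix H hf hfv Y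
  have hzρ : ρ * z * ρ⁻¹ = z := by rw [hρz, mul_inv_cancel_right]
  have hay : (a : G) * y * (a * y) = 1 := by
    rw [mul_assoc, ← mul_assoc y, Y.fa, mul_assoc (a : G) y, Y.sq, mul_one, F.aa]
  have h3 : ρ * ((a : G) * y) * ρ⁻¹ = a := by
    rw [cjg_mul, R.ra, R.ry, ← mul_assoc, Y.fa, mul_assoc, Y.sq, mul_one]
  have hyne : y ≠ 1 := fun e => F.Y_out Y (by rw [e, one_mul, mul_one])
  have hayne : (a : G) * y ≠ 1 := fun e => F.Y_out Y (by
    rw [← inv_eq_of_mul_eq_one_right e, inv_eq_of_mul_eq_one_right F.aa, F.v_comm])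
  -- conjugating `v` by a rotation fixing the generators
  have key : ∀ σ : G, σ * z = z * σ → σ * f * σ⁻¹ = f → σ * g * σ⁻¹ = g →
      ((σ * a * σ⁻¹ = y ∧ σ * y * σ⁻¹ = a * y) ∨ (σ * a * σ⁻¹ = a * y ∧ σ * y * σ⁻¹ = a)) →
      ∃ b : G, AType z b ∧ b * z = z * b ∧ b * f = f * b ∧ b * g = g * b ∧ (a : G) * b * (a * b) ≠ 1 ∧
        ((a : G) * b) ^ 4 = 1 ∧ ((a : G) * b * (a * b) = y ∨ (a : G) * b * (a * b) = a * y) := by
    intro σ hσz hσf hσg hσ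
    refine ⟨σ * v * σ⁻¹, F.v_props.2.1.cj σ, ?_, ?_, ?_, ?_⟩
    · have := cjg_comm σ (F.mem_W.1 F.zW).2.symm
      rwa [hσz, mul_inv_cancel_right] at this
    · have := cjg_comm σ (F.mem_W.1 hf.1).2.symm
      rwa [hσf] at this
    · have := cjg_comm σ (F.mem_W.1 hg.1).2.symm
      rwa [hσg] at this
    have hbb : σ * v * σ⁻¹ * (σ * v * σ⁻¹) = 1 := by rw [← cjg_mul, F.vv, mul_one, mul_inv_cancel]
    have hc1 : σ * a * σ⁻¹ * (σ * v * σ⁻¹) = σ * v * σ⁻¹ * (σ * a * σ⁻¹) := cjg_comm σ F.v_comm.symm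
    have hc2 : σ * y * σ⁻¹ * (σ * v * σ⁻¹) * (σ * y * σ⁻¹)⁻¹ = σ * v * σ⁻¹ * (σ * a * σ⁻¹) := by
      rw [← cjg_mul σ (v : G), ← Y.swap]; group
    set b := σ * v * σ⁻¹
    have hsq : (a : G) * b * (a * b) = σ * a * σ⁻¹ := by
      rcases hσ with ⟨e1, e2⟩ | ⟨e1, e2⟩
      · rw [e1] at hc1 hc2
        rw [e2] at hc2
        rw [e1]
        have h4 : (a : G) * b * a = b * y := by
          rw [← hc2]
          calc (a : G) * b * a = a * (b * y) * y⁻¹ * (a : G)⁻¹ * (a * a) := by group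
            _ = a * (y * b) * y⁻¹ * (a : G)⁻¹ := by rw [F.aa, mul_one, ← hc1]
            _ = a * y * b * (a * y)⁻¹ := by group
        rw [← mul_assoc, h4, mul_assoc, hc1, ← mul_assoc, hbb, one_mul]
      · rw [e1] at hc1 hc2
        rw [e2] at hc2
        rw [e1]
        have hai : (a : G)⁻¹ = a := inv_eq_of_mul_eq_one_right F.aa
        rw [hai] at hc2
        rw [← mul_assoc, hc2, mul_assoc b, hc1, ← mul_assoc, hbb, one_mul]
    rw [show ((a : G) * b) ^ 4 = (a : G) * b * (a * b) * (a * b * (a * b)) by simp only [pow_succ, pow_zero, one_mul,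
      mul_assoc], hsq]
    rcases hσ with ⟨e1, -⟩ | ⟨e1, -⟩ <;> rw [e1]
    · exact ⟨hyne, Y.sq, Or.inl rfl⟩
    · exact ⟨hayne, hay, Or.inr rfl⟩
  have T1 := F.Third_rot Y R hρz hρf T
  have T2 := F.Third_rot Y R hρz hρf T1
  rcases F.Third_six H hk hf hfv hg hgv hx hxv Y hyg T1 with e1 | e1
  · exact key ρ hρz hρf e1 (Or.inl ⟨R.ra, R.ry⟩)
  · have hsq : ρ * (ρ * g * ρ⁻¹) * ρ⁻¹ = g := by
      refine (F.Third_six H hk hf hfv hg hgv hx hxv Y hyg T2).resolve_right fun e2 => ?_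
      have e := H.inj T2.isX T1.isX (e2.trans e1.symm)
      have e' := (cjg_eq ρ _ g).1 e
      have e3 : θ ⟨ρ * g * ρ⁻¹, T1.isX.1⟩ = θ ⟨g, hg.1⟩ := congrArg θ (Subtype.ext e')
      have hne : mate k ≠ k := by
        have : ∀ i : Fin 6, mate i ≠ i := by decide
        exact this ⟨k, hk⟩
      refine hne (six_inj ?_ hk (e1.symm.trans (e3.trans hgv)))
      have : ∀ i : Fin 6, mate i < 6 := by decide
      exact this ⟨k, hk⟩
    refine key (ρ * ρ) (Commute.mul_left hρz hρz :) ?_ ?_ (Or.inr ⟨?_, ?_⟩)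
    · rw [show ρ * ρ * f * (ρ * ρ)⁻¹ = ρ * (ρ * f * ρ⁻¹) * ρ⁻¹ by group, hρf, hρf]
    · rw [show ρ * ρ * g * (ρ * ρ)⁻¹ = ρ * (ρ * g * ρ⁻¹) * ρ⁻¹ by group, hsq]
    · rw [show ρ * ρ * a * (ρ * ρ)⁻¹ = ρ * (ρ * a * ρ⁻¹) * ρ⁻¹ by group, R.ra, R.ry]
    · rw [show ρ * ρ * y * (ρ * ρ)⁻¹ = ρ * (ρ * y * ρ⁻¹) * ρ⁻¹ by group, R.ry, h3]

end Cfsg.Agent.Fus.HeUniq
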