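import Cfsg.Agent.Lib.Fus.HeUniq.DataT
import Cfsg.Agent.Lib.Fus.HeUniq.DataCent
import Cfsg.Agent.Lib.Fus.HeUniq.Pairs

/-!
# Two classes of involutions and the centralizer of a noncentral one
-/

set_option autoImplicit false
set_option linter.style.haveILetI false
set_option linter.unusedSectionVars false
set_option maxRecDepth 100000

namespace Cfsg.Agent.Fus.HeUniq

/-- The possible lists of fused classes. -/
def patList : List (List ℕ) := [[0, 4, 5], [0, 1, 4, 5], [0, 2, 4, 5], [0, 1, 2, 4, 5]]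

/-- The fused classes of a pattern. -/
def fSet (ids : List ℕ) (c : ℕ) : Bool := Nat.beq c 7 || ids.any fun i => Nat.beq i c

/-- The configuration left by the analysis of fusion, with a noncentral involution. -/
structure Sit {G : Type*} [Group G] (z : G) (Q : Subgroup (CC z)) (φ : CC z → ℕ) (ids : List ℕ) (a : CC z) :
    Prop where
  L : Loc z Q false false φ repsSN rootsSN invTabSN
  htwo : ∃ x y : G, orderOf x = 2 ∧ orderOf y = 2 ∧ ¬ IsConj x y ∧
    ∀ w : G, orderOf w = 2 → IsConj w x ∨ IsConj w y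
  fused : FusedIs z φ ids
  pat : ids ∈ patList
  code : φ a = aC

/-- The centralizer of the chosen involution in that of the central one. -/
def TT {G : Type*} [Group G] {z : G} (a : CC z) : Subgroup G := CC z ⊓ CC (a : G)

variable {G : Type*} [Group G] [Finite G] [IsSimpleGroup G] {z : G} {Q : Subgroup (CC z)} {φ : CC z → ℕ}
  {ids : List ℕ} {a : CC z} (S : Sit z Q φ ids a)
include S

theorem Sit.hF : ∀ i < 8, (Fu z φ (repsSN.getD i 0) ↔ fSet ids i = true) := by
  intro i hi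
  rcases (show i < 7 ∨ i = 7 by omega) with h | rfl
  · rw [S.fused i h, fSet, Bool.or_eq_true, List.any_eq_true]
    constructor
    · exact fun hm => Or.inr ⟨i, hm, Nat.beq_refl i⟩
    · rintro (h7 | ⟨j, hj, hji⟩)
      · rw [Nat.beq_eq] at h7; omega
      · rw [Nat.beq_eq] at hji; exact hji ▸ hj
  · have hz7 : repsSN.getD 7 0 = zC0 := by decide +kernel
    rw [hz7]
    exact ⟨fun _ => rfl, fun _ => ⟨zc z, S.L.co.map_z, IsConj.refl z⟩⟩

theorem Sit.f99 : fSet ids 99 = false := by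
  have h : ∀ l ∈ patList, fSet l 99 = false := by decide +kernel
  exact h ids S.pat

theorem Sit.cls (x : CC z) : IsConj (x : G) z ↔ fSet ids (clsOf invTabSN (φ x)) = true :=
  S.L.fu_cls (fSet ids) S.f99 S.hF x

omit [Finite G] [IsSimpleGroup G] in
theorem Sit.aC_rep : aC = repsSN.getD 6 0 := by
  have h := invT_ok
  simp only [Bool.and_eq_true] at h
  exact Nat.eq_of_beq_eq_true h.2

theorem Sit.a_inv : orderOf (a : G) = 2 := by
  obtain ⟨u, hu, hu2, hu1⟩ := S.L.of_rep (i := 6) (by decide)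
  have : a = u := S.L.co.inj (by rw [S.code, hu, S.aC_rep])
  subst this
  exact orderOf_eq_prime (by rw [pow_two]; exact congrArg Subtype.val hu2) fun h => hu1 (Subtype.ext h)

theorem Sit.a_not : ¬ IsConj z (a : G) := by
  intro h
  have h2 := (S.L.fu_iff a).2 h.symm
  rw [S.code, S.aC_rep, S.hF 6 (by norm_num)] at h2
  have hb : ∀ l ∈ patList, fSet l 6 = false := by decide +kernel
  rw [hb ids S.pat] at h2
  exact Bool.false_ne_true h2

theorem Sit.classes (w : G) (hw : orderOf w = 2) : IsConj z w ∨ IsConj (a : G) w := by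
  obtain ⟨x, y, hx, hy, hxy, hall⟩ := S.htwo
  rcases hall z S.L.z2 with hz | hz <;> rcases hall (a : G) S.a_inv with ha | ha
  · exact absurd (hz.trans ha.symm) S.a_not
  · exact (hall w hw).imp (fun h => hz.trans h.symm) fun h => ha.trans h.symm
  · exact (hall w hw).symm.imp (fun h => hz.trans h.symm) fun h => ha.trans h.symm
  · exact absurd (hz.trans ha.symm) S.a_not

theorem Sit.a_class {w : G} (hw : orderOf w = 2) : IsConj (a : G) w ↔ ¬ IsConj w z :=
  ⟨fun h h' => S.a_not (h.trans h').symm, fun h => (S.classes w hw).resolve_left fun h' => h h'.symm⟩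

theorem Sit.order : Nat.card G =
    nPairs z (a : G) z * Nat.card (CC (a : G)) + nPairs z (a : G) a * Nat.card (CC z) :=
  order_formula S.L.z2 S.a_inv S.a_not S.classes

/-! ### The Sylow subgroup of the centralizer -/

omit [Finite G] [IsSimpleGroup G] S in
theorem mem_TT {x : G} : x ∈ TT a ↔ ∃ hx : x ∈ CC z, (⟨x, hx⟩ : CC z) * a = a * ⟨x, hx⟩ := by
  simp only [TT, Subgroup.mem_inf]
  refine ⟨fun h => ⟨h.1, Subtype.ext (cc_comm (⟨x, h.2⟩ : CC (a : G)))⟩, fun ⟨h1, h2⟩ => ⟨h1, ?_⟩⟩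
  exact Subgroup.mem_centralizer_singleton_iff.2 (congrArg Subtype.val h2)

theorem Sit.mem_T (x : CC z) : (x : G) ∈ TT a ↔ φ x ∈ listT := by
  have hl : (elemList false false).filter (fun c => comN c aC) = listT := by simpa using listT_ok
  rw [mem_TT, ← hl, List.mem_filter, ← S.code, S.L.comN_iff]
  exact ⟨fun ⟨_, h⟩ => ⟨S.L.co.mem x, h⟩, fun h => ⟨x.2, h.2⟩⟩

theorem Sit.card_T : Nat.card (TT a) = 512 := by
  have hl : (elemList false false).filter (fun c => comN c aC) = listT := by simpa using listT_ok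
  have h512 : listT.length = 512 := by decide +kernel
  rw [← h512, ← hl, ← S.L.count (fun c => comN c aC) (fun x => x * a = a * x)
    (fun x => by rw [← S.code, S.L.comN_iff])]
  exact Nat.card_congr
    { toFun := fun x => ⟨⟨x.1, (mem_TT.1 x.2).choose⟩, (mem_TT.1 x.2).choose_spec⟩
      invFun := fun x => ⟨x.1.1, mem_TT.2 ⟨x.1.2, x.2⟩⟩
      left_inv := fun _ => rfl
      right_inv := fun _ => rfl }

/-- The centralizer in `C(z)` of an involution not fused to `z` is a two-group of order at most `512`. -/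
theorem Sit.cent_small {w : CC z} (hw : orderOf (w : G) = 2) (hnw : ¬ IsConj (w : G) z) :
    ∃ n, n ≤ 9 ∧ Nat.card {x : CC z // x * w = w * x} = 2 ^ n := by
  have hw2 : w * w = 1 := Subtype.ext (inv_of_ord hw)
  have hw1 : w ≠ 1 := by rintro rfl; simp at hw
  obtain ⟨e, he, hwe, h, r, hr, hwr⟩ := S.L.exists_rep hw2 hw1
  have hcard : Nat.card {x : CC z // x * w = w * x} = Nat.card {x : CC z // x * r = r * x} := by
    refine Nat.card_congr ((MulAut.conj h⁻¹).toEquiv.subtypeEquiv fun x => ?_)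
    simp only [MulEquiv.toEquiv_eq_coe, EquivLike.coe_coe, MulAut.conj_apply, inv_inv]
    rw [hwr]
    constructor <;> intro e1
    · calc h⁻¹ * x * h * r = h⁻¹ * (x * (h * r * h⁻¹)) * h := by group
        _ = r * (h⁻¹ * x * h) := by rw [e1]; group
    · calc x * (h * r * h⁻¹) = h * (h⁻¹ * x * h * r) * h⁻¹ := by group
        _ = h * r * h⁻¹ * x := by rw [e1]; group
  have hrn : fSet ids e.2.1 = false := by
    rw [Bool.eq_false_iff]
    intro hb
    exact hnw ((S.L.fu_iff w).1 (hwe ▸ (S.L.fu_tab he).2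
      ((S.hF _ (S.L.tab_spec.2.1 e he).1).2 hb)))
  have hi8 : e.2.1 < 8 := (S.L.tab_spec.2.1 e he).1
  have hcase : ∀ l ∈ patList, ∀ i < 8, fSet l i = false → i = 1 ∨ i = 2 ∨ i = 3 ∨ i = 6 := by decide +kernel
  have key : ∀ (n i : ℕ), ((elemList false false).filter (fun c => comN c (repsSN.getD i 0))).length = n →
      φ r = repsSN.getD i 0 → Nat.card {x : CC z // x * r = r * x} = n := by
    intro n i hn hri
    rw [← hn, ← hri]
    exact S.L.count _ _ fun x => (S.L.comN_iff x r).symm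
  have hr' : ∀ i, e.2.1 = i → φ r = repsSN.getD i 0 := fun i hi => hi ▸ hr
  rcases hcase ids S.pat _ hi8 hrn with h | h | h | h
  · exact ⟨7, by norm_num, hcard.trans (key 128 1 cent_one (hr' 1 h))⟩
  · exact ⟨7, by norm_num, hcard.trans (key 128 2 cent_two (hr' 2 h))⟩
  · exact ⟨8, by norm_num, hcard.trans (key 256 3 cent_three (hr' 3 h))⟩
  · refine ⟨9, le_refl 9, hcard.trans ?_⟩
    obtain rfl : r = a := S.L.co.inj (by rw [hr' 6 h, S.code, S.aC_rep])
    have hl : (elemList false false).filter (fun c => comN c aC) = listT := by simpa using listT_ok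
    rw [S.L.count (fun c => comN c aC) (fun x => x * r = r * x) (fun x => by rw [← S.code, S.L.comN_iff]), hl]
    decide +kernel

omit [IsSimpleGroup G] S in
theorem card_le_of_le {A B : Subgroup G} (h : A ≤ B) : Nat.card A ≤ Nat.card B :=
  Nat.le_of_dvd Nat.card_pos (Subgroup.card_dvd_of_le h)

/-- A two-group centralising a noncentral involution has order at most `512`. -/
theorem Sit.two_le {P : Subgroup G} (hP : IsPGroup 2 P) (hPa : P ≤ CC (a : G)) : Nat.card P ≤ 512 := by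
  classical
  haveI : Fact (Nat.Prime 2) := ⟨Nat.prime_two⟩
  obtain ⟨P0, hPc, hzP, -⟩ := S.L.exists_sylow
  obtain ⟨P1, hP1⟩ := hP.exists_le_sylow
  by_contra hc
  push Not at hc
  have hfac : (Nat.card G).factorization 2 = 10 := by
    rw [S.L.cardG, show (4030387200 : ℕ) = 2 ^ 10 * 3935925 by norm_num,
      Nat.factorization_mul (by norm_num) (by norm_num), Finsupp.add_apply,
      Nat.Prime.factorization_pow Nat.prime_two, Finsupp.single_eq_same,
      Nat.factorization_eq_zero_of_not_dvd (by norm_num)]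
  have h1 : Nat.card P1 = 1024 := by rw [Sylow.card_eq_multiplicity, hfac]; norm_num
  have hPP : P = (P1 : Subgroup G) := by
    refine Subgroup.eq_of_le_of_card_ge hP1 ?_
    obtain ⟨k, hk⟩ := IsPGroup.iff_card.1 hP
    have : Nat.card P ∣ Nat.card P1 := Subgroup.card_dvd_of_le hP1
    rw [h1, show (1024 : ℕ) = 2 ^ 10 by norm_num, hk, Nat.pow_dvd_pow_iff_le_right (by norm_num)] at this
    rw [h1, hk]
    rw [hk] at hc
    have h9 : 9 < k := (Nat.pow_lt_pow_iff_right (by norm_num)).1 (show 2 ^ 9 < 2 ^ k by norm_num; omega)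
    calc 1024 = 2 ^ 10 := by norm_num
      _ ≤ 2 ^ k := Nat.pow_le_pow_right (by norm_num) h9
  obtain ⟨g, hg⟩ := MulAction.exists_smul_eq G P1 P0
  have hgc : ∀ p ∈ (P1 : Subgroup G), g * p * g⁻¹ ∈ P0 := fun p hp => by
    rw [← hg]
    show g * p * g⁻¹ ∈ ((g • P1 : Sylow 2 G) : Subgroup G)
    rw [Sylow.coe_subgroup_smul]
    exact ⟨p, hp, by simp⟩
  have hzsur : ∃ p ∈ (P1 : Subgroup G), g * p * g⁻¹ = z := by
    have : z ∈ ((g • P1 : Sylow 2 G) : Subgroup G) := hg ▸ hzP
    rw [Sylow.coe_subgroup_smul] at this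
    obtain ⟨p, hp, hpe⟩ := this
    exact ⟨p, hp, by simpa using hpe⟩
  set w : G := g * a * g⁻¹ with hw
  have hwc : w * z = z * w := by
    obtain ⟨p, hp, hpe⟩ := hzsur
    rw [← hpe, hw]
    exact cjg_comm g (cc_comm (⟨p, hPa (hPP ▸ hp)⟩ : CC (a : G))).symm
  have hw2 : orderOf w = 2 := by rw [← S.a_inv]; exact (MulAut.conj g).orderOf_eq (a : G)
  have hnw : ¬ IsConj w z := fun h => S.a_not ((isConj_cj g (a : G)).trans h).symm
  obtain ⟨n, hn, hcard⟩ := S.cent_small (w := ⟨w, Subgroup.mem_centralizer_singleton_iff.2 hwc⟩) hw2 hnw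
  have hle : Nat.card P1 ≤ Nat.card {x : CC z // x * ⟨w, Subgroup.mem_centralizer_singleton_iff.2 hwc⟩ =
      ⟨w, Subgroup.mem_centralizer_singleton_iff.2 hwc⟩ * x} :=
    Nat.card_le_card_of_injective (fun p => ⟨⟨g * p.1 * g⁻¹, Subgroup.mem_centralizer_singleton_iff.2
      (hPc _ (hgc _ p.2))⟩, Subtype.ext (cjg_comm g (cc_comm (⟨p.1, hPa (hPP ▸ p.2)⟩ : CC (a : G))))⟩)
      fun p q h => Subtype.ext ((cjg_eq g p.1 q.1).1 (congrArg (fun x => ((x.1 : CC z) : G)) h))
  rw [h1, hcard] at hle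
  have : 2 ^ n ≤ 2 ^ 9 := Nat.pow_le_pow_right (by norm_num) hn
  omega

theorem Sit.T_le : TT a ≤ CC (a : G) := inf_le_right

theorem Sit.T_two : IsPGroup 2 (TT a) := IsPGroup.of_card (n := 9) (by rw [S.card_T]; rfl)

/-- Every two-group in the centralizer is conjugate into `T`. -/
theorem Sit.to_T {P : Subgroup G} (hP : IsPGroup 2 P) (hPa : P ≤ CC (a : G)) :
    ∃ h ∈ CC (a : G), ∀ p ∈ P, h * p * h⁻¹ ∈ TT a := by
  classical
  haveI : Fact (Nat.Prime 2) := ⟨Nat.prime_two⟩
  obtain ⟨A, hA⟩ := (S.T_two.of_equiv (Subgroup.subgroupOfEquivOfLe S.T_le).symm :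
    IsPGroup 2 ((TT a).subgroupOf (CC (a : G)))).exists_le_sylow
  obtain ⟨B, hB⟩ := (hP.of_equiv (Subgroup.subgroupOfEquivOfLe hPa).symm :
    IsPGroup 2 (P.subgroupOf (CC (a : G)))).exists_le_sylow
  have hAT : (A : Subgroup (CC (a : G))) = (TT a).subgroupOf (CC (a : G)) := by
    refine (Subgroup.eq_of_le_of_card_ge hA ?_).symm
    have h1 := S.two_le (A.isPGroup'.map (CC (a : G)).subtype) (Subgroup.map_subtype_le _)
    rw [Nat.card_congr ((A : Subgroup (CC (a : G))).equivMapOfInjective _ (Subgroup.subtype_injective _)).symm.toEquiv]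
      at h1
    rw [Nat.card_congr (Subgroup.subgroupOfEquivOfLe S.T_le).toEquiv, S.card_T]
    exact h1
  obtain ⟨g, hg⟩ := MulAction.exists_smul_eq (CC (a : G)) B A
  refine ⟨g, g.2, fun p hp => ?_⟩
  have h2 : g * ⟨p, hPa hp⟩ * g⁻¹ ∈ (A : Subgroup (CC (a : G))) := by
    rw [← hg, Sylow.coe_subgroup_smul]
    exact ⟨⟨p, hPa hp⟩, hB hp, rfl⟩
  rw [hAT] at h2
  exact h2

/-- The centralizer of a commuting pair from the two classes is a two-group. -/
theorem Sit.pair_two {x w : G} (hx : IsConj x z) (hw : IsConj (a : G) w) (hc : x * w = w * x) :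
    IsPGroup 2 (CC x ⊓ CC w : Subgroup G) := by
  obtain ⟨g, hg⟩ := _root_.isConj_iff.1 hx
  have hwc : g * w * g⁻¹ * z = z * (g * w * g⁻¹) := by rw [← hg]; exact cjg_comm g hc.symm
  have hw2 : orderOf (g * w * g⁻¹) = 2 := by
    obtain ⟨k, hk⟩ := _root_.isConj_iff.1 (hw.trans (isConj_cj g w))
    rw [← hk, ← S.a_inv]; exact (MulAut.conj k).orderOf_eq (a : G)
  have hnw : ¬ IsConj (g * w * g⁻¹) z := fun h => S.a_not ((hw.trans (isConj_cj g w)).trans h).symm
  obtain ⟨n, -, hn⟩ := S.cent_small (w := ⟨g * w * g⁻¹, Subgroup.mem_centralizer_singleton_iff.2 hwc⟩) hw2 hnw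
  refine IsPGroup.of_card (n := n) (hn ▸ Nat.card_congr
    { toFun := fun p => ⟨⟨g * p.1 * g⁻¹, Subgroup.mem_centralizer_singleton_iff.2 ?_⟩, Subtype.ext ?_⟩
      invFun := fun p => ⟨g⁻¹ * p.1.1 * g, Subgroup.mem_inf.2
        ⟨Subgroup.mem_centralizer_singleton_iff.2 ?_, Subgroup.mem_centralizer_singleton_iff.2 ?_⟩⟩
      left_inv := fun p => Subtype.ext (by simp [mul_assoc])
      right_inv := fun p => Subtype.ext (Subtype.ext (by simp [mul_assoc])) })
  · rw [← hg]; exact cjg_comm g (Subgroup.mem_centralizer_singleton_iff.1 (Subgroup.mem_inf.1 p.2).1)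
  · exact cjg_comm g (Subgroup.mem_centralizer_singleton_iff.1 (Subgroup.mem_inf.1 p.2).2)
  · have := cjg_comm g⁻¹ (cc_comm p.1)
    rw [show g⁻¹ * z * g⁻¹⁻¹ = x by rw [← hg]; group, inv_inv] at this
    exact this
  · have := cjg_comm g⁻¹ (congrArg Subtype.val p.2)
    simp only [Subgroup.coe_mul] at this
    rw [show g⁻¹ * (g * w * g⁻¹) * g⁻¹⁻¹ = w by group, inv_inv] at this
    exact this

/-! ### Counting conjugates of `z` in the centralizer -/

/-- The number of conjugates of `z` in the centralizer of `a`. -/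
theorem Sit.count_H (P : G → G → Prop) (hP : ∀ g x y, P x y → P (g * x * g⁻¹) (g * y * g⁻¹))
    (sel : ℕ → Bool) (hsel : ∀ y : CC z, orderOf (y : G) = 2 → ¬ IsConj (y : G) z → (P z y ↔ sel (φ y) = true)) :
    Nat.card {x : G // x * a = a * x ∧ IsConj z x ∧ P x a} * 21504 =
      (((invTabSN.filter fun e => !fSet ids e.2.1).map Prod.fst).filter sel).length * Nat.card (CC (a : G)) := by
  classical
  have h := double_count z (a : G) (fun x y => x * y = y * x ∧ P x y)
    fun g x y ⟨h1, h2⟩ => ⟨cjg_comm g h1, hP g x y h2⟩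
  rw [S.L.cardC] at h
  have e1 : Nat.card {x : G // x * a = a * x ∧ IsConj z x ∧ P x a} =
      Nat.card {x : G // IsConj z x ∧ x * (a : G) = a * x ∧ P x a} :=
    Nat.card_congr (Equiv.subtypeEquivRight fun x => ⟨fun h => ⟨h.2.1, h.1, h.2.2⟩, fun h => ⟨h.2.1, h.1, h.2.2⟩⟩)
  rw [e1, ← h]
  congr 1
  set l := ((invTabSN.filter fun e => !fSet ids e.2.1).map Prod.fst).filter sel with hl
  have hnd : l.Nodup := by
    refine List.Nodup.filter _ ?_
    refine List.Nodup.sublist (List.filter_sublist.map Prod.fst) ?_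
    rw [← S.L.tab_spec.1, S.L.invs_eq]
    exact (S.L.co.nodup S.L.cardC).filter _
  have hy2 : ∀ y : CC z, IsConj (a : G) y → y * y = 1 ∧ y ≠ 1 := fun y hy => by
    have ho : orderOf (y : G) = 2 := by
      obtain ⟨g, hg⟩ := _root_.isConj_iff.1 hy
      rw [← hg, ← S.a_inv]; exact (MulAut.conj g).orderOf_eq (a : G)
    exact ⟨Subtype.ext (inv_of_ord ho), fun h => by rw [h] at ho; simp at ho⟩
  have hmem : ∀ y : CC z, IsConj (a : G) y ∧ P z y ↔ φ y ∈ l := by
    intro y
    rw [hl, List.mem_filter, List.mem_map]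
    constructor
    · rintro ⟨hy, hp⟩
      obtain ⟨hy2, hy1⟩ := hy2 y hy
      obtain ⟨e, he, hye, -⟩ := S.L.exists_rep hy2 hy1
      have hnz : ¬ IsConj (y : G) z := fun h => S.a_not (hy.trans h).symm
      have ho : orderOf (y : G) = 2 :=
        orderOf_eq_prime (by rw [pow_two]; exact congrArg Subtype.val hy2) fun h => hy1 (Subtype.ext h)
      refine ⟨⟨e, List.mem_filter.2 ⟨he, ?_⟩, hye.symm⟩, (hsel y ho hnz).1 hp⟩
      rw [Bool.not_eq_true', Bool.eq_false_iff]
      exact fun hb => hnz ((S.L.fu_iff y).1 (hye ▸ (S.L.fu_tab he).2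
        ((S.hF _ (S.L.tab_spec.2.1 e he).1).2 hb)))
    · rintro ⟨⟨e, he, hye⟩, hs⟩
      rw [List.mem_filter] at he
      obtain ⟨w, hw, hw2, hw1⟩ := S.L.of_invs (S.L.tab_spec.1 ▸ List.mem_map.2 ⟨e, he.1, rfl⟩ : e.1 ∈ invsOf rootsSN)
      obtain rfl : w = y := S.L.co.inj (hw.trans hye)
      have ho : orderOf (w : G) = 2 :=
        orderOf_eq_prime (by rw [pow_two]; exact congrArg Subtype.val hw2) fun h => hw1 (Subtype.ext h)
      have hnz : ¬ IsConj (w : G) z := fun h => by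
        have := (S.hF _ (S.L.tab_spec.2.1 e he.1).1).1 ((S.L.fu_tab he.1).1 (hye ▸ (S.L.fu_iff w).2 h))
        rw [this] at he; simp at he
      exact ⟨(S.a_class ho).2 hnz, (hsel w ho hnz).2 hs⟩
  have hsub : ∀ c ∈ l, ∃ y : CC z, φ y = c := fun c hc => by
    rw [hl, List.mem_filter, List.mem_map] at hc
    obtain ⟨⟨e, he, rfl⟩, -⟩ := hc
    obtain ⟨w, hw, -⟩ := S.L.of_invs (S.L.tab_spec.1 ▸ List.mem_map.2 ⟨e, (List.mem_filter.1 he).1, rfl⟩ :
      e.1 ∈ invsOf rootsSN)
    exact ⟨w, hw⟩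
  rw [← List.toFinset_card_of_nodup hnd, ← Nat.card_eq_finsetCard]
  refine Nat.card_congr (Equiv.ofBijective
    (fun y => ⟨φ ⟨y.1, Subgroup.mem_centralizer_singleton_iff.2 y.2.2.1.symm⟩,
      List.mem_toFinset.2 ((hmem _).1 ⟨y.2.1, y.2.2.2⟩)⟩) ⟨?_, ?_⟩)
  · intro x y h
    exact Subtype.ext (congrArg Subtype.val (S.L.co.inj (congrArg Subtype.val h :) :) :)
  · rintro ⟨c, hc⟩
    obtain ⟨y, rfl⟩ := hsub c (List.mem_toFinset.1 hc)
    obtain ⟨h1, h2⟩ := (hmem y).2 (List.mem_toFinset.1 hc)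
    exact ⟨⟨y.1, h1, (cc_comm y).symm, h2⟩, rfl⟩

end Cfsg.Agent.Fus.HeUniq
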