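import Cfsg.Agent.Lib.Fus.HeUniq.Over

/-!
# Tables of involutions in a model
-/

set_option autoImplicit false
set_option linter.style.haveILetI false
set_option linter.unusedSectionVars false
set_option maxRecDepth 100000

namespace Cfsg.Agent.Fus.HeUniq

/-- The code of the identity. -/
def oneC : ℕ := pair16 18364758544493064720 18364758544493064720

/-- The code of the central involution. -/
def zC0 : ℕ := qcode 64

/-- The element at a place. -/
def elemAt (b tw : Bool) (i : ℕ) : ℕ :=
  pair16 (mul16 ((repList b).getD (Nat.div i 128) (0, 0)).1 (enc (qel (Nat.mod i 128))))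
    ((covList b tw).getD (Nat.div i 128) (0, 0)).1

theorem elemAt_mem (b tw : Bool) {i : ℕ} (h : i < 21504) : elemAt b tw i ∈ elemList b tw := by
  simp only [elemList, List.mem_flatten, List.mem_map, List.mem_range]
  refine ⟨_, ⟨i / 128, by omega, rfl⟩, ?_⟩
  simp only [qelList, List.map_map, List.mem_map, List.mem_range]
  exact ⟨i % 128, Nat.mod_lt _ (by norm_num), rfl⟩

/-- The involutions among the roots. -/
def invsOf (roots : List ℕ) : List ℕ := roots.filter fun c => Nat.beq (mulM c c) oneC && !Nat.beq c oneC

/-- The roots list is the list of all roots of one and of the representatives. -/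
def chkRoots (b tw : Bool) (reps roots : List ℕ) : Bool :=
  (elemList b tw).filter (fun c => let s := mulM c c; (oneC :: reps).any fun r => Nat.beq r s) == roots

/-- Each involution is conjugate to its representative. -/
def chkTab (b tw : Bool) (reps roots : List ℕ) (tab : List (ℕ × ℕ × ℕ)) : Bool :=
  invsOf roots == tab.map Prod.fst &&
  tab.all (fun e => Nat.blt e.2.1 reps.length && Nat.blt e.2.2 21504 &&
    let k := elemAt b tw e.2.2
    Nat.beq (mulM k (reps.getD e.2.1 0)) (mulM e.1 k)) &&
  reps.contains zC0 && reps.all fun r => (tab.map Prod.fst).any fun c => Nat.beq c r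

/-- Commuting codes. -/
def comC (c d : ℕ) : Bool := Nat.beq (mulM c d) (mulM d c)

/-- The number of involutions commuting with a code. -/
def nInv (roots : List ℕ) (u : ℕ) : ℕ := ((invsOf roots).filter fun x => comC x u).length

/-- The number of roots of a code. -/
def nRoot (roots : List ℕ) (u : ℕ) : ℕ := (roots.filter fun x => Nat.beq (mulM x x) u).length

/-- The number of roots of the central involution commuting with a code. -/
def nRootZ (roots : List ℕ) (u : ℕ) : ℕ :=
  (roots.filter fun x => Nat.beq (mulM x x) zC0 && comC x u).length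

/-- Only the classes with the given numbers can be fused with the central involution. -/
def chkOnly (reps roots : List ℕ) (allowed : List ℕ) : Bool :=
  (List.range reps.length).all fun i =>
    Nat.beq (reps.getD i 0) zC0 || allowed.any (fun a => Nat.beq a i) || reps.all fun v =>
      Nat.beq v zC0 || !(Nat.beq (nInv roots (reps.getD i 0)) (nInv roots v) &&
        Nat.beq (nRoot roots (reps.getD i 0)) (nRootZ roots v))

theorem filter_sub {L roots : List ℕ} {T : ℕ → Bool} (h : L.filter T = roots) (P : ℕ → Bool)
    (hPT : ∀ c, P c = true → T c = true) : L.filter P = roots.filter P := by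
  rw [← h, List.filter_filter]
  refine List.filter_congr fun c _ => ?_
  cases hP : P c <;> simp
  exact hPT c hP

variable {H : Type*} [Group H] {Q : Subgroup H} {z : H} {b tw : Bool} {φ : H → ℕ}

theorem Coords.mem (co : Coords H Q z b tw φ) (g : H) : φ g ∈ elemList b tw := (co.range _).2 ⟨g, rfl⟩

theorem Coords.map_one (co : Coords H Q z b tw φ) : φ 1 = oneC := by
  obtain ⟨n, hn⟩ := (co.map_Q 1).1 Q.one_mem
  have h := co.map_mul 1 1
  rw [one_mul, hn] at h
  have hc : ∀ n : Fin 128, Nat.beq (mulM (qcode n) (qcode n)) (qcode n) = true → (n : ℕ) = 0 := by decide +kernel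
  rw [hn, hc n (by rw [Nat.beq_eq]; exact h.symm), qcode, qel_zero, enc_one]
  rfl

theorem Coords.eq_iff (co : Coords H Q z b tw φ) (g h : H) : φ g = φ h ↔ g = h := co.inj.eq_iff

theorem Coords.comC_iff (co : Coords H Q z b tw φ) (g h : H) : comC (φ g) (φ h) = true ↔ g * h = h * g := by
  rw [comC, Nat.beq_eq, ← co.map_mul, ← co.map_mul, co.eq_iff]

theorem elemList_length (b tw : Bool) : (elemList b tw).length = 21504 := by
  have hl : ∀ (l : List ℕ) (f : ℕ → List ℕ), (∀ a, (f a).length = 128) →
      (l.map f).flatten.length = 128 * l.length := by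
    intro l f hf
    induction l with
    | nil => rfl
    | cons a l ih => simp [List.flatten_cons, hf, ih]; omega
  rw [elemList, hl _ _ fun a => by simp [qelList]]
  simp

variable [Finite H]

theorem Coords.nodup (co : Coords H Q z b tw φ) (hcard : Nat.card H = 21504) : (elemList b tw).Nodup := by
  classical
  haveI := Fintype.ofFinite H
  have h1 : Finset.univ.image φ ⊆ (elemList b tw).toFinset := fun v hv => by
    obtain ⟨g, -, rfl⟩ := Finset.mem_image.1 hv
    exact List.mem_toFinset.2 (co.mem g)
  have h2 := Finset.card_le_card h1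
  rw [Finset.card_image_of_injective _ co.inj, Finset.card_univ, ← Nat.card_eq_fintype_card, hcard,
    List.card_toFinset] at h2
  have h3 := List.Sublist.eq_of_length_le (List.dedup_sublist (elemList b tw)) (by rw [elemList_length]; exact h2)
  exact h3 ▸ List.nodup_dedup _

theorem Coords.card_filter (co : Coords H Q z b tw φ) (hcard : Nat.card H = 21504) (P : ℕ → Bool) :
    Nat.card {g : H // P (φ g) = true} = ((elemList b tw).filter P).length := by
  classical
  haveI := Fintype.ofFinite H
  rw [Nat.card_eq_fintype_card, Fintype.card_subtype,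
    ← List.toFinset_card_of_nodup ((co.nodup hcard).filter _), ← Finset.card_image_of_injective _ co.inj]
  congr 1
  ext c
  simp only [Finset.mem_image, Finset.mem_filter, Finset.mem_univ, true_and, List.mem_toFinset, List.mem_filter]
  constructor
  · rintro ⟨g, hg, rfl⟩; exact ⟨co.mem g, hg⟩
  · rintro ⟨hc, hP⟩
    obtain ⟨g, rfl⟩ := (co.range c).1 hc
    exact ⟨g, hP, rfl⟩

end Cfsg.Agent.Fus.HeUniq
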