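import Cfsg.Agent.Lib.Fus.HeUniq.XSimple

/-!
# The centralizer of the noncentral involution
-/

set_option autoImplicit false
set_option linter.style.haveILetI false
set_option linter.unusedSectionVars false
set_option maxRecDepth 100000

namespace Cfsg.Agent.Fus.HeUniq

open scoped commutatorElement

variable {G : Type*} [Group G] [Finite G] [IsSimpleGroup G] {z : G} {Q : Subgroup (CC z)} {φ : CC z → ℕ}
  {a v : CC z} (F : FF z Q φ a v)
include F

theorem FF.X_normal {K : Subgroup (XQ a v)} [K.Normal] : K = ⊥ ∨ K = ⊤ := by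
  rcases eq_or_ne K ⊥ with h | h
  · exact Or.inl h
  · right
    have htop := F.MX_top
    rw [← htop]
    exact F.MX_minimal _ K le_rfl (htop ▸ le_top) (fun m _ k hk => (inferInstance : K.Normal).conj_mem k hk m) h

theorem FF.v_comm_W : ∀ k, InV a v k → ∃ r s : WW a v, ((r * s * r⁻¹ * s⁻¹ : WW a v) : G) = k := by
  intro k hk
  have hd : ∀ (i : Fin 2), (commR.getD i (0, 0)).1 ∈ listR ∧ (commR.getD i (0, 0)).2 ∈ listR ∧
      mulN (commR.getD i (0, 0)).1 (commR.getD i (0, 0)).2 =
        mulN ([vC, aC].getD i 0) (mulN (commR.getD i (0, 0)).2 (commR.getD i (0, 0)).1) := by decide +kernel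
  have key : ∀ (i : Fin 2) (k : G) (hk : k ∈ TT a), φ (tc hk) = [vC, aC].getD i 0 →
      ∃ r s : WW a v, ((r * s * r⁻¹ * s⁻¹ : WW a v) : G) = k := by
    intro i k hk hkc
    obtain ⟨h1, h2, h3⟩ := hd i
    obtain ⟨r, hrT, hrR, hre⟩ := F.elem_R h1
    obtain ⟨s, hsT, hsR, hse⟩ := F.elem_R h2
    rw [← hre, ← hse, ← hkc, ← F.S.mulT hrT hsT, ← F.S.mulT hsT hrT, ← F.S.mulT hk (mul_mem hsT hrT),
      F.S.tc_inj] at h3
    refine ⟨⟨r, F.RW hrR⟩, ⟨s, F.RW hsR⟩, ?_⟩
    show r * s * r⁻¹ * s⁻¹ = k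
    rw [h3]; group
  rcases hk with rfl | rfl | rfl | rfl
  · exact ⟨1, 1, by simp⟩
  · exact key 1 _ F.S.aT F.S.a_mem_iff
  · exact key 0 _ F.vT F.vcode
  · -- the product of the two commutator values
    by_cases h : ∃ r s : WW a v, ((r * s * r⁻¹ * s⁻¹ : WW a v) : G) = (v : G) * a
    · exact h
    · exfalso
      apply h
      obtain ⟨y, hy, -, hyv⟩ := F.exists_y0
      obtain ⟨r, s, hrs⟩ := key 0 _ F.vT F.vcode
      have hya := Subgroup.mem_centralizer_singleton_iff.1 (F.S.T_le hy)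
      have hyW : ∀ w : WW a v, y * (w : G) * y⁻¹ ∈ WW a v := by
        intro w
        refine F.mem_W.2 ⟨?_, ?_⟩
        · have := cjg_comm y (F.mem_W.1 w.2).1
          rwa [show y * (a : G) * y⁻¹ = a by rw [hya, mul_inv_cancel_right]] at this
        · have h2 := cjg_comm y (F.V_comm (Or.inr (Or.inr (Or.inr rfl))) w.2)
          have h3 : y * ((v : G) * a) * y⁻¹ = v := by
            rw [cjg_mul, hyv, show y * (a : G) * y⁻¹ = a by rw [hya, mul_inv_cancel_right], mul_assoc, F.aa, mul_one]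
          rwa [h3] at h2
      refine ⟨⟨_, hyW r⟩, ⟨_, hyW s⟩, ?_⟩
      rw [← hyv, ← hrs]
      simp only [Subgroup.coe_mul, Subgroup.coe_inv]
      group

/-- The centralizer of the four group is perfect. -/
theorem FF.W_perfect : commutator (WW a v) = ⊤ := by
  have hV : VW a v ≤ commutator (WW a v) := by
    intro w hw
    obtain ⟨r, s, hrs⟩ := F.v_comm_W _ (F.mem_VW.1 hw)
    have : r * s * r⁻¹ * s⁻¹ = w := Subtype.ext hrs
    rw [← this, commutator_def]
    exact Subgroup.commutator_mem_commutator (Subgroup.mem_top r) (Subgroup.mem_top s)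
  have himg : (commutator (WW a v)).map (pr a v) = ⊤ := by
    haveI : ((commutator (WW a v)).map (pr a v)).Normal :=
      Subgroup.Normal.map inferInstance _ (QuotientGroup.mk'_surjective _)
    rcases F.X_normal (K := (commutator (WW a v)).map (pr a v)) with h | h
    · exfalso
      obtain ⟨α, β, -, -, hne⟩ := F.RX_noncomm
      obtain ⟨r, rfl⟩ := QuotientGroup.mk'_surjective (VW a v) α
      obtain ⟨s, rfl⟩ := QuotientGroup.mk'_surjective (VW a v) β
      refine hne ?_
      have hm : pr a v (r * s * r⁻¹ * s⁻¹) ∈ (commutator (WW a v)).map (pr a v) :=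
        ⟨_, by rw [commutator_def]; exact Subgroup.commutator_mem_commutator (Subgroup.mem_top r) (Subgroup.mem_top s),
          rfl⟩
      rw [h, Subgroup.mem_bot, map_mul, map_mul, map_mul, map_inv, map_inv, mul_inv_eq_one,
        mul_inv_eq_iff_eq_mul] at hm
      exact hm
    · exact h
  have h2 := congrArg (Subgroup.comap (pr a v)) himg
  rw [Subgroup.comap_map_eq, Subgroup.comap_top, QuotientGroup.ker_mk', sup_eq_left.2 hV] at h2
  exact h2

/-- A normal subgroup of the centralizer of the four group is small or everything. -/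
theorem FF.W_normal {K : Subgroup (WW a v)} [K.Normal] : K ≤ VW a v ∨ K = ⊤ := by
  haveI : (K.map (pr a v)).Normal := Subgroup.Normal.map inferInstance _ (QuotientGroup.mk'_surjective _)
  rcases F.X_normal (K := K.map (pr a v)) with h | h
  · left
    have h2 := (Subgroup.map_eq_bot_iff K).1 h
    rwa [QuotientGroup.ker_mk'] at h2
  · right
    have h2 := congrArg (Subgroup.comap (pr a v)) h
    rw [Subgroup.comap_map_eq, Subgroup.comap_top, QuotientGroup.ker_mk'] at h2
    rw [eq_top_iff, ← F.W_perfect, commutator_def, Subgroup.commutator_le]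
    intro x _ y _
    obtain ⟨k1, hk1, n1, hn1, rfl⟩ := Subgroup.mem_sup_of_normal_right.1 (h2.symm ▸ Subgroup.mem_top x)
    obtain ⟨k2, hk2, n2, hn2, rfl⟩ := Subgroup.mem_sup_of_normal_right.1 (h2.symm ▸ Subgroup.mem_top y)
    have hc : ∀ n ∈ VW a v, ∀ w : WW a v, n * w = w * n := fun n hn w =>
      Subtype.ext (F.V_comm (F.mem_VW.1 hn) w.2).symm
    have e : ⁅k1 * n1, k2 * n2⁆ = ⁅k1, k2⁆ := by
      have h1 : ∀ x : WW a v, k1 * n1 * x * (k1 * n1)⁻¹ = k1 * x * k1⁻¹ := fun x => by
        rw [mul_inv_rev, show k1 * n1 * x * (n1⁻¹ * k1⁻¹) = k1 * (n1 * x * n1⁻¹) * k1⁻¹ by group, hc n1 hn1 x,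
          mul_inv_cancel_right]
      rw [commutatorElement_def, commutatorElement_def, h1, mul_inv_rev,
        show k1 * (k2 * n2) * k1⁻¹ * (n2⁻¹ * k2⁻¹) = k1 * k2 * (n2 * k1⁻¹ * n2⁻¹) * k2⁻¹ by group, hc n2 hn2 k1⁻¹,
        mul_inv_cancel_right]
    rw [e, commutatorElement_def]
    exact mul_mem (mul_mem (mul_mem hk1 hk2) (inv_mem hk1)) (inv_mem hk2)

theorem FF.W_center {w : WW a v} (h : ∀ x : WW a v, w * x = x * w) : InV a v (w : G) := by
  rw [← F.pr_one]
  by_contra hne
  haveI hn : (Subgroup.zpowers (pr a v w)).Normal := by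
    refine ⟨fun η hη g => ?_⟩
    obtain ⟨x, rfl⟩ := QuotientGroup.mk'_surjective (VW a v) g
    obtain ⟨i, rfl⟩ := Subgroup.mem_zpowers_iff.1 hη
    have hc : Commute (pr a v x) (pr a v w) := by
      show pr a v x * pr a v w = pr a v w * pr a v x
      rw [← map_mul, ← map_mul, h x]
    rw [(hc.zpow_right i).eq, mul_inv_cancel_right]
    exact hη
  rcases F.X_normal (K := Subgroup.zpowers (pr a v w)) with e | e
  · exact hne (Subgroup.zpowers_eq_bot.1 e)
  · obtain ⟨α, β, -, -, hab⟩ := F.RX_noncomm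
    obtain ⟨i, rfl⟩ := Subgroup.mem_zpowers_iff.1 (e.symm ▸ Subgroup.mem_top α)
    obtain ⟨j, rfl⟩ := Subgroup.mem_zpowers_iff.1 (e.symm ▸ Subgroup.mem_top β)
    exact hab (by rw [← zpow_add, ← zpow_add, add_comm])

/-- The centralizer of `a` permutes the other two involutions of the four group. -/
theorem FF.H_cases {h : G} (hh : h * a = a * h) :
    h * v * h⁻¹ = v ∨ h * v * h⁻¹ = (v : G) * a := by
  classical
  let pair : Set G := {(v : G), (v : G) * a}
  have hswap : ∀ g : G, g * a = a * g → g * v * g⁻¹ ∈ pair → g * ((v : G) * a) * g⁻¹ ∈ pair := by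
    intro g hg h1
    have hga : g * a * g⁻¹ = a := by rw [hg, mul_inv_cancel_right]
    rw [cjg_mul, hga]
    rcases h1 with e | e <;> rw [e]
    · exact Or.inr rfl
    · left; rw [mul_assoc, F.aa, mul_one]
  let H1 : Subgroup (CC (a : G)) :=
    { carrier := {g | (g : G) * v * (g : G)⁻¹ ∈ pair}
      one_mem' := by simp [pair]
      mul_mem' := fun {g k} hg hk => by
        rw [Set.mem_setOf_eq] at hg hk ⊢
        rw [Subgroup.coe_mul, show (g : G) * k * v * ((g : G) * k)⁻¹ = g * (k * v * (k : G)⁻¹) * (g : G)⁻¹ by group]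
        rcases hk with e | e <;> rw [e]
        · exact hg
        · exact hswap _ (Subgroup.mem_centralizer_singleton_iff.1 g.2) hg
      inv_mem' := fun {g} hg => by
        rw [Set.mem_setOf_eq] at hg ⊢
        have hga := Subgroup.mem_centralizer_singleton_iff.1 g.2
        rw [Subgroup.coe_inv, inv_inv]
        rcases hg with e | e
        · left; nth_rewrite 1 [← e]; group
        · right
          have h2 : (g : G) * ((v : G) * a) * (g : G)⁻¹ = v := by
            rw [cjg_mul, e, hga, mul_inv_cancel_right, mul_assoc, F.aa, mul_one]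
          show (g : G)⁻¹ * v * (g : G) = (v : G) * a
          calc (g : G)⁻¹ * v * (g : G) = (g : G)⁻¹ * ((g : G) * ((v : G) * a) * (g : G)⁻¹) * (g : G) := by rw [h2]
            _ = (v : G) * a := by group }
  have hmem : ∀ g : CC (a : G), g ∈ H1 ↔ (g : G) * v * (g : G)⁻¹ = v ∨ (g : G) * v * (g : G)⁻¹ = (v : G) * a :=
    fun g => Iff.rfl
  -- the part fixing `v` has index two
  have hW : WW a v ≤ CC (a : G) := inf_le_left
  have hWH1 : (WW a v).subgroupOf (CC (a : G)) ≤ H1 := fun g hg => Or.inl (by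
    rw [(F.mem_W.1 (Subgroup.mem_subgroupOf.1 hg)).2, mul_inv_cancel_right])
  obtain ⟨y, hy, hyR, hyv⟩ := F.exists_y0
  have hya := Subgroup.mem_centralizer_singleton_iff.1 (F.S.T_le hy)
  set y' : CC (a : G) := ⟨y, Subgroup.mem_centralizer_singleton_iff.2 hya⟩
  have hyH : y' ∈ H1 := Or.inr hyv
  have hne : (v : G) * a ≠ v := fun e => by
    have h2 := F.S.a_inv
    rw [mul_eq_left.1 e, orderOf_one] at h2
    omega
  set W1 := (WW a v).subgroupOf (CC (a : G)) with hW1
  have hW1mem : ∀ g : CC (a : G), g ∈ W1 ↔ (g : G) * v * (g : G)⁻¹ = v := fun g => by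
    rw [hW1, Subgroup.mem_subgroupOf, F.mem_W]
    exact ⟨fun h => by rw [h.2, mul_inv_cancel_right],
      fun h => ⟨Subgroup.mem_centralizer_singleton_iff.1 g.2, mul_inv_eq_iff_eq_mul.1 h⟩⟩
  have hidx : ∀ g ∈ H1, g ∉ W1 → y'⁻¹ * g ∈ W1 := by
    intro g hg hgW
    rw [hW1mem] at hgW ⊢
    have e := ((hmem g).1 hg).resolve_left hgW
    rw [Subgroup.coe_mul, Subgroup.coe_inv, show y⁻¹ * (g : G) * v * (y⁻¹ * (g : G))⁻¹ =
      y⁻¹ * ((g : G) * v * (g : G)⁻¹) * y by group, e, ← hyv]
    group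
  have hcardH1 : Nat.card H1 = 2 * 80640 := by
    have hW1c : Nat.card W1 = 80640 := by
      rw [hW1, Nat.card_congr (Subgroup.subgroupOfEquivOfLe hW).toEquiv, F.card_W]
    let f : W1 ⊕ W1 → H1 := Sum.elim (fun p => ⟨p.1, hWH1 p.2⟩) (fun p => ⟨y' * p.1, mul_mem hyH (hWH1 p.2)⟩)
    have hy1 : y' ∉ W1 := fun h => hne (by rw [← hyv]; exact (hW1mem y').1 h)
    have hf : Function.Injective f := by
      rintro (p | p) (q | q) e <;> simp only [f, Sum.elim_inl, Sum.elim_inr, Subtype.mk.injEq] at e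
      · rw [Subtype.ext e]
      · exact absurd (by rw [← mul_inv_cancel_right y' (q : CC (a : G)), ← e]; exact mul_mem p.2 (inv_mem q.2)) hy1
      · exact absurd (by rw [← mul_inv_cancel_right y' (p : CC (a : G)), e]; exact mul_mem q.2 (inv_mem p.2)) hy1
      · rw [Subtype.ext (mul_left_cancel e)]
    have hs : Function.Surjective f := by
      rintro ⟨g, hg⟩
      by_cases hgW : g ∈ W1
      · exact ⟨.inl ⟨g, hgW⟩, rfl⟩
      · exact ⟨.inr ⟨_, hidx g hg hgW⟩, Subtype.ext (mul_inv_cancel_left y' g)⟩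
    rw [← Nat.card_congr (Equiv.ofBijective f ⟨hf, hs⟩), Nat.card_sum, hW1c]
  -- few cosets
  obtain ⟨k, hk, hk7⟩ : ∃ k, H1.index = k ∧ k ≤ 7 := by
    refine ⟨_, rfl, ?_⟩
    have hH : Nat.card (CC (a : G)) = 161280 * H1.index := by rw [← H1.card_mul_index, hcardH1]
    have hdvd : Nat.card (CC (a : G)) ∣ 4030387200 := F.S.L.cardG ▸ Subgroup.card_subgroup_dvd_card _
    have hb : 2772 ≤ nPairs z (a : G) z := by
      refine le_trans ?_ F.S.beta_ge
      have := beta_data.2.2.1 idsF F.S.pat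
      omega
    have hle : Nat.card (CC (a : G)) * 2772 ≤ 4030387200 := by
      rw [← F.S.L.cardG, F.S.order]
      calc Nat.card (CC (a : G)) * 2772 ≤ Nat.card (CC (a : G)) * nPairs z (a : G) z := Nat.mul_le_mul_left _ hb
        _ ≤ _ := by rw [Nat.mul_comm]; exact Nat.le_add_right _ _
    rw [hH] at hdvd hle
    by_contra hgt
    have h10 : H1.index ≤ 9 := by omega
    interval_cases hi : H1.index <;> norm_num at hdvd <;> omega
  -- the action on the cosets
  have hconj : ∀ g : CC (a : G), ∀ w ∈ W1, g * w * g⁻¹ ∈ H1 := by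
    intro g w hw
    let ψ := MulAction.toPermHom (CC (a : G)) (CC (a : G) ⧸ H1)
    let ι : WW a v →* CC (a : G) := Subgroup.inclusion hW
    set K := (ψ.comp ι).ker
    rcases F.W_normal (K := K) with h | h
    · exfalso
      have h1 : Nat.card K ≤ 4 := F.card_VW ▸ Nat.le_of_dvd Nat.card_pos (Subgroup.card_dvd_of_le h)
      have h2 := K.card_mul_index
      rw [F.card_W] at h2
      have h3 : K.index ≤ Nat.factorial k := by
        rw [Subgroup.index_ker]
        refine le_trans (Subgroup.card_le_card_group _) ?_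
        rw [Nat.card_perm, ← Subgroup.index, hk]
      have h4 : Nat.factorial k ≤ 5040 := (Nat.factorial_le hk7).trans_eq rfl
      have : Nat.card K * K.index ≤ 4 * 5040 := Nat.mul_le_mul h1 (h3.trans h4)
      omega
    · have hwW : (w : G) ∈ WW a v := Subgroup.mem_subgroupOf.1 hw
      have hker : ψ w = 1 := by
        have : (⟨w, hwW⟩ : WW a v) ∈ K := h ▸ Subgroup.mem_top _
        exact this
      have h5 : ψ w (QuotientGroup.mk g⁻¹) = QuotientGroup.mk g⁻¹ := by rw [hker]; rfl
      have h6 : (QuotientGroup.mk (w * g⁻¹) : CC (a : G) ⧸ H1) = QuotientGroup.mk g⁻¹ := h5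
      have h7 := inv_mem (QuotientGroup.eq.1 h6)
      rwa [show ((w * g⁻¹)⁻¹ * g⁻¹)⁻¹ = g * w * g⁻¹ by group] at h7
  -- so the part fixing `v` is normal
  set g : CC (a : G) := ⟨h, Subgroup.mem_centralizer_singleton_iff.2 hh⟩
  have hsq : ∀ x ∈ H1, ∀ u ∈ H1, x * u * x⁻¹ * u⁻¹ ∈ W1 := by
    intro x hx u hu
    rw [hW1mem]
    have hswapv : ∀ r : CC (a : G), r ∈ H1 → (r : G) * v * (r : G)⁻¹ = (v : G) * a →
        (r : G) * ((v : G) * a) * (r : G)⁻¹ = v := by
      intro r _ e
      rw [cjg_mul, e, Subgroup.mem_centralizer_singleton_iff.1 r.2, mul_inv_cancel_right, mul_assoc, F.aa, mul_one]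
    have hinv : ∀ r : CC (a : G), r ∈ H1 → (r : G)⁻¹ * v * r = (r : G) * v * (r : G)⁻¹ := by
      intro r hr
      rcases (hmem r).1 hr with e | e
      · rw [e]; nth_rewrite 1 [← e]; group
      · rw [e]; nth_rewrite 1 [← hswapv r hr e]; group
    have hstep : ∀ (r : CC (a : G)), r ∈ H1 → ∀ p : G, p = v ∨ p = (v : G) * a →
        (r : G) * p * (r : G)⁻¹ = if (r : G) * v * (r : G)⁻¹ = v then p else p * a := by
      intro r hr p hp
      rcases (hmem r).1 hr with e | e <;> rcases hp with rfl | rfl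
      · rw [if_pos e, e]
      · rw [if_pos e, cjg_mul, e, Subgroup.mem_centralizer_singleton_iff.1 r.2, mul_inv_cancel_right]
      · rw [if_neg (fun e' => hne (e.symm.trans e')), e]
      · rw [if_neg (fun e' => hne (e.symm.trans e')), hswapv r hr e, mul_assoc, F.aa, mul_one]
    simp only [Subgroup.coe_mul, Subgroup.coe_inv]
    rw [show (x : G) * u * (x : G)⁻¹ * (u : G)⁻¹ * v * ((x : G) * u * (x : G)⁻¹ * (u : G)⁻¹)⁻¹ =
      (x : G) * ((u : G) * ((x : G)⁻¹ * ((u : G)⁻¹ * v * u) * x) * (u : G)⁻¹) * (x : G)⁻¹ by group, hinv u hu]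
    rcases (hmem u).1 hu with eu | eu <;> rw [eu]
    · rw [hinv x hx]
      rcases (hmem x).1 hx with ex | ex <;> rw [ex]
      · rw [eu, ex]
      · rw [hstep u hu _ (Or.inr rfl), if_pos eu, hswapv x hx ex]
    · rcases (hmem x).1 hx with ex | ex
      · rw [show (x : G)⁻¹ * ((v : G) * a) * x = (v : G) * a by
          nth_rewrite 1 [← show (x : G) * ((v : G) * a) * (x : G)⁻¹ = (v : G) * a by
            rw [hstep x hx _ (Or.inr rfl), if_pos ex]]
          group, hswapv u hu eu, ex]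
      · rw [show (x : G)⁻¹ * ((v : G) * a) * x = v by nth_rewrite 1 [← ex]; group, eu, hswapv x hx ex]
  have hnorm : ∀ w : WW a v, g * Subgroup.inclusion hW w * g⁻¹ ∈ W1 := by
    intro w
    have htop : (⊤ : Subgroup (WW a v)) ≤
        Subgroup.comap (((MulAut.conj g).toMonoidHom).comp (Subgroup.inclusion hW)) W1 := by
      rw [← F.W_perfect, commutator_def, Subgroup.commutator_le]
      intro p _ q _
      show g * Subgroup.inclusion hW ⁅p, q⁆ * g⁻¹ ∈ W1
      have hp := hconj g (Subgroup.inclusion hW p) (Subgroup.mem_subgroupOf.2 p.2)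
      have hq := hconj g (Subgroup.inclusion hW q) (Subgroup.mem_subgroupOf.2 q.2)
      have := hsq _ hp _ hq
      rw [commutatorElement_def, map_mul, map_mul, map_mul, map_inv, map_inv]
      convert this using 1
      group
    exact htop (Subgroup.mem_top w)
  have hinvW : ∀ w : WW a v, h⁻¹ * (w : G) * h ∈ WW a v := by
    intro w
    obtain ⟨r, hr⟩ := (Finite.injective_iff_surjective.1
      (show Function.Injective (fun p : W1 => (⟨g * p.1 * g⁻¹, by
        exact hnorm ⟨(p.1 : G), Subgroup.mem_subgroupOf.1 p.2⟩⟩ : W1)) from fun p q e =>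
          Subtype.ext (mul_left_cancel (mul_right_cancel (congrArg Subtype.val e :)))))
      ⟨Subgroup.inclusion hW w, Subgroup.mem_subgroupOf.2 w.2⟩
    have hr' : h * (r.1 : G) * h⁻¹ = w := congrArg (fun p : W1 => ((p.1 : CC (a : G)) : G)) hr
    rw [← hr', show h⁻¹ * (h * (r.1 : G) * h⁻¹) * h = r.1 by group]
    exact Subgroup.mem_subgroupOf.1 r.2
  have hvW : h * v * h⁻¹ ∈ WW a v := by
    have := Subgroup.mem_subgroupOf.1 (hnorm ⟨v, F.vW⟩)
    simpa using this
  have hcen : InV a v (h * v * h⁻¹) := F.W_center (w := ⟨_, hvW⟩) fun x => Subtype.ext (by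
    have := cjg_comm h (F.V_comm (k := (v : G)) (Or.inr (Or.inr (Or.inl rfl))) (hinvW x))
    show h * v * h⁻¹ * (x : G) = (x : G) * (h * v * h⁻¹)
    simpa [mul_assoc] using this.symm)
  have hA := F.v_props.2.1.cj h
  rcases hcen with e | e | e | e
  · rw [e] at hA; exact absurd hA.1 (by simp)
  · exfalso
    have e' : (v : G) = a := (cjg_eq h _ _).1 (e.trans (by rw [hh, mul_inv_cancel_right]))
    have hbad := F.v_props.2.2.1.1
    rw [e', F.aa, orderOf_one] at hbad
    omega
  · exact Or.inl e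
  · exact Or.inr e

end Cfsg.Agent.Fus.HeUniq
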