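import Cfsg.Agent.Lib.Fus.HeUniq.Four

/-!
# Distinguished involutions in the cosets of the four group
-/

set_option autoImplicit false
set_option linter.style.haveILetI false
set_option linter.unusedSectionVars false
set_option maxRecDepth 100000

namespace Cfsg.Agent.Fus.HeUniq

variable {G : Type*} [Group G] [Finite G] [IsSimpleGroup G] {z : G} {Q : Subgroup (CC z)} {φ : CC z → ℕ}
  {a v : CC z} (F : FF z Q φ a v)
include F

theorem FF.InV_mul {j k : G} (hj : InV a v j) (hk : InV a v k) : InV a v (j * k) := by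
  have haa := F.aa
  have hvv := F.vv
  have hc := F.v_comm
  rcases hj with rfl | rfl | rfl | rfl <;> rcases hk with rfl | rfl | rfl | rfl <;>
    (try simp only [one_mul, mul_one])
  all_goals first
    | exact Or.inl rfl
    | exact Or.inr (Or.inl rfl)
    | exact Or.inr (Or.inr (Or.inl rfl))
    | exact Or.inr (Or.inr (Or.inr rfl))
    | (left; exact haa)
    | (left; exact hvv)
    | (right; right; right; exact hc.symm)
    | (left; rw [mul_assoc, ← mul_assoc (a : G) v, ← hc, mul_assoc, haa, mul_one, hvv])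
    | (right; right; left; rw [mul_assoc, haa, mul_one])
    | (right; right; left; rw [← mul_assoc, ← hc, mul_assoc, haa, mul_one])
    | (right; left; rw [← mul_assoc, hvv, one_mul])
    | (right; left; rw [mul_assoc, ← hc, ← mul_assoc, hvv, one_mul])

theorem FF.InV_one : InV a v 1 := Or.inl rfl

theorem FF.InV_a : InV a v (a : G) := Or.inr (Or.inl rfl)

theorem FF.InV_sq {k : G} (hk : InV a v k) : k * k = 1 := by
  rcases hk with rfl | rfl | rfl | rfl
  · exact one_mul 1
  · exact F.aa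
  · exact F.vv
  · exact inv_of_ord F.v_props.2.2.1.1

theorem FF.InV_fused {k : G} (hk : InV a v k) : ¬ IsConj k z := by
  rcases hk with rfl | rfl | rfl | rfl
  · intro h
    obtain ⟨g, hg⟩ := _root_.isConj_iff.1 h
    rw [mul_one, mul_inv_cancel] at hg
    exact F.S.L.z_ne hg.symm
  · exact F.v_props.2.2.2.1.2
  · exact F.v_props.2.1.2
  · exact F.v_props.2.2.1.2

theorem FF.conj_sq {x : G} (h : IsConj x z) : x * x = 1 :=
  inv_of_ord (F.S.ord_of_conj F.S.L.z2 h.symm)

omit F [Finite G] [IsSimpleGroup G] in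
theorem IsX.mem {x : G} (h : IsX a v x) : x ∈ WW a v := h.1

theorem FF.X_notV {x : G} (h : IsX a v x) : ¬ InV a v x := fun hV => F.InV_fused hV h.2.1

theorem FF.X_sq {x : G} (h : IsX a v x) : x * x = 1 := F.conj_sq h.2.1

theorem FF.X_cj {x w : G} (h : IsX a v x) (hw : w ∈ WW a v) : IsX a v (w * x * w⁻¹) := by
  refine ⟨mul_mem (mul_mem hw h.1) (inv_mem hw), (isConj_cj_iff w x z).2 h.2.1, ?_⟩
  have := h.2.2.cj w
  rwa [cjg_mul, show w * (a : G) * w⁻¹ = a by rw [(F.mem_W.1 hw).1, mul_inv_cancel_right]] at this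

/-- Each involution of the quotient has one distinguished lift. -/
theorem FF.X_exists {x : G} (hx : x ∈ WW a v) (hnV : ¬ InV a v x) (hsq : InV a v (x * x)) :
    ∃ k, InV a v k ∧ IsX a v (x * k) ∧ ∀ k', InV a v k' → IsX a v (x * k') → k' = k := by
  obtain ⟨hxx, k0, hk0, hA0, huniq⟩ := F.coset hx hnV hsq
  have hk : InV a v (k0 * a) := F.InV_mul hk0 F.InV_a
  have hback : k0 * (a : G) * a = k0 := by rw [mul_assoc, F.aa, mul_one]
  refine ⟨k0 * a, hk, ⟨mul_mem hx (F.V_W hk), ?_, ?_⟩, fun k' hk' h => ?_⟩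
  · by_contra hnz
    have hsq' : x * (k0 * a) * (x * (k0 * a)) = 1 := by
      rw [show x * (k0 * a) * (x * (k0 * a)) = x * (k0 * a * x) * (k0 * a) by group, ← F.V_comm hk hx,
        show x * (x * (k0 * a)) * (k0 * a) = x * x * ((k0 * a) * (k0 * a)) by group, hxx, one_mul, F.InV_sq hk]
    have hne : x * (k0 * a) ≠ 1 := fun e => hnV (by
      have e' : x * (k0 * a) * (k0 * a) = k0 * a := by rw [e, one_mul]
      rw [mul_assoc, F.InV_sq hk, mul_one] at e'
      exact e'.symm ▸ hk)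
    have := huniq (k0 * a) hk ⟨orderOf_eq_prime (by rw [pow_two]; exact hsq') hne, hnz⟩
    rw [mul_eq_left] at this
    have h2 := F.S.a_inv
    rw [this, orderOf_one] at h2
    omega
  · rw [mul_assoc, hback]; exact hA0
  · have h2 := huniq (k' * a) (F.InV_mul hk' F.InV_a) (by rw [← mul_assoc]; exact h.2.2)
    rw [← h2, mul_assoc, F.aa, mul_one]

theorem FF.X_unique {x k : G} (hk : InV a v k) (h1 : IsX a v x) (h2 : IsX a v (x * k)) : k = 1 := by
  obtain ⟨j, -, -, hu⟩ := F.X_exists h1.1 (F.X_notV h1) (by rw [F.X_sq h1]; exact F.InV_one)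
  exact (hu k hk h2).trans (hu 1 F.InV_one (by rw [mul_one]; exact h1)).symm

theorem FF.z_X : IsX a v z :=
  ⟨(Subgroup.mem_inf.1 F.zc_props.1).2, IsConj.refl z, F.zc_props.2.2.2⟩

theorem FF.zW : z ∈ WW a v := F.z_X.1

/-- The centralizer of a distinguished involution is a two-group. -/
theorem FF.X_cent_two {x : G} (h : IsX a v x) : IsPGroup 2 (WW a v ⊓ CC x : Subgroup G) := by
  refine (F.S.pair_two h.2.1 (IsConj.refl (a : G)) (F.mem_W.1 h.1).1).to_le ?_
  intro y hy
  obtain ⟨h1, h2⟩ := Subgroup.mem_inf.1 hy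
  exact Subgroup.mem_inf.2 ⟨h2, (Subgroup.mem_inf.1 h1).1⟩

/-- An element centralising `a`, inverting the pairs of the four group. -/
theorem FF.exists_y0 : ∃ y : G, y ∈ TT a ∧ y ∉ RR a v ∧ y * v * y⁻¹ = (v : G) * a := by
  classical
  obtain ⟨y, hy, hyR⟩ : ∃ y, y ∈ TT a ∧ y ∉ RR a v := by
    by_contra hc
    push Not at hc
    have := Subgroup.card_dvd_of_le (show TT a ≤ RR a v from hc)
    rw [F.S.card_T, F.card_R] at this
    exact absurd (Nat.le_of_dvd (by norm_num) this) (by norm_num)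
  have hya := Subgroup.mem_centralizer_singleton_iff.1 (F.S.T_le hy)
  have hfix : y * a * y⁻¹ = a := by rw [hya, mul_inv_cancel_right]
  refine ⟨y, hy, hyR, ?_⟩
  have hT : y * v * y⁻¹ ∈ TT a := mul_mem (mul_mem hy F.vT) (inv_mem hy)
  have h2 : AType z (y * v * y⁻¹ * a) := by
    have := F.v_props.2.2.1.cj y
    rwa [cjg_mul, hfix] at this
  have hne : y * v * y⁻¹ ≠ a := fun e => by
    have e' : (v : G) = a := (cjg_eq y _ _).1 (e.trans hfix.symm)
    have hbad := F.v_props.2.2.1.1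
    rw [e', F.aa, orderOf_one] at hbad
    omega
  have h64 : 64 ≤ Nat.card {t : G // t ∈ TT a ∧ t * (y * v * y⁻¹) = y * v * y⁻¹ * t} := by
    have : Nat.card (RR a v) ≤ Nat.card {t : G // t ∈ TT a ∧ t * (y * v * y⁻¹) = y * v * y⁻¹ * t} :=
      Nat.card_le_card_of_injective (fun r => ⟨y * r.1 * y⁻¹, mul_mem (mul_mem hy (F.RT r.2)) (inv_mem hy),
        cjg_comm y (F.mem_W.1 (F.RW r.2)).2⟩) fun p q e => Subtype.ext ((cjg_eq y p.1 q.1).1 (congrArg Subtype.val e :))
    rw [F.card_R] at this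
    omega
  rcases F.pair_cases hT (F.v_props.2.1.cj y) h2 hne h64 with e | e
  · exfalso
    refine hyR (Subgroup.mem_inf.2 ⟨(Subgroup.mem_inf.1 hy).1, F.mem_W.2 ⟨hya, ?_⟩⟩)
    exact mul_inv_eq_iff_eq_mul.1 e
  · exact e

/-- A class-six representative is recognised by its translate by `z`. -/
theorem FF.za_conj {w : CC z} (hw : AType z (w : G)) (hzw : AType z (z * (w : G))) :
    ∃ h : CC z, w = h * a * h⁻¹ := by
  have hw2 : w * w = 1 := Subtype.ext (inv_of_ord hw.1)
  have hw1 : w ≠ 1 := fun h => by have := hw.1; rw [h] at this; simp at this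
  obtain ⟨e, he, hwe, h, r, hr, hwr⟩ := F.S.L.exists_rep hw2 hw1
  have hlt := (F.S.L.tab_spec.2.1 e he).1
  have hnf : fSet idsF e.2.1 = false := Bool.eq_false_iff.2 fun hb =>
    hw.2 ((F.S.L.fu_iff w).1 (hwe ▸ (F.S.L.fu_tab he).2 ((F.S.hF _ hlt).2 hb)))
  have hcase : ∀ i < 8, fSet idsF i = false → i = 3 ∨ i = 6 := by decide +kernel
  have hr' : ∀ i, e.2.1 = i → φ r = repsSN.getD i 0 := fun i hi => hi ▸ hr
  rcases hcase _ hlt hnf with h3 | h6
  · exfalso
    have hf : fSet idsF (clsOf invTabSN (mulM zC0 (repsSN.getD 3 0))) = true := by decide +kernel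
    have h1 : IsConj ((zc z * r : CC z) : G) z := by
      rw [F.S.cls, F.S.L.co.map_mul, hr' 3 h3, show φ (zc z) = zC0 from F.S.L.co.map_z]
      exact hf
    refine hzw.2 (IsConj.trans ?_ h1)
    refine IsConj.symm (_root_.isConj_iff.2 ⟨(h : G), ?_⟩)
    have : (w : G) = h * r * (h : G)⁻¹ := congrArg Subtype.val hwr
    rw [this, Subgroup.coe_mul, show ((zc z : CC z) : G) = z from rfl,
      show (h : G) * (z * r) * (h : G)⁻¹ = (h * z) * r * (h : G)⁻¹ by group, cc_comm h]
    group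
  · exact ⟨h, by rw [hwr, show r = a from F.S.L.co.inj (by rw [hr' 6 h6, F.S.code, F.S.aC_rep])]⟩

/-- All distinguished involutions are conjugate in the centralizer of the four group. -/
theorem FF.X_conj_z {x : G} (h : IsX a v x) : ∃ w ∈ WW a v, w * x * w⁻¹ = z := by
  classical
  haveI : Fact (Nat.Prime 2) := ⟨Nat.prime_two⟩
  obtain ⟨u, hu, hx'⟩ := F.to_R (P := Subgroup.zpowers x)
    (IsPGroup.of_card (n := 1) (by rw [Nat.card_zpowers, F.S.ord_of_conj F.S.L.z2 h.2.1.symm, pow_one]))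
    (Subgroup.zpowers_le.2 h.1)
  have hX' := F.X_cj h hu
  have hxR := hx' x (Subgroup.mem_zpowers x)
  set x' := u * x * u⁻¹ with hx'def
  -- a conjugation taking the distinguished involution to `z` and fixing `a`
  obtain ⟨g, hg⟩ := _root_.isConj_iff.1 hX'.2.1
  have hgc : g * a * g⁻¹ * z = z * (g * a * g⁻¹) := by
    have := cjg_comm g (F.mem_W.1 hX'.1).1
    rw [hg] at this
    exact this.symm
  set w : CC z := ⟨g * a * g⁻¹, Subgroup.mem_centralizer_singleton_iff.2 hgc⟩
  have hzw : AType z (z * (w : G)) := by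
    have := hX'.2.2.cj g
    rwa [cjg_mul, hg] at this
  obtain ⟨k, hk⟩ := F.za_conj (w := w) (F.v_props.2.2.2.1.cj g) hzw
  have hk' : g * a * g⁻¹ = (k : G) * a * (k : G)⁻¹ := congrArg Subtype.val hk
  set f := (k : G)⁻¹ * g with hf
  have hfx : f * x' * f⁻¹ = z := by
    rw [hf, show (k : G)⁻¹ * g * x' * ((k : G)⁻¹ * g)⁻¹ = (k : G)⁻¹ * (g * x' * g⁻¹) * k by group, hg, mul_assoc,
      ← cc_comm k, inv_mul_cancel_left]
  have hfa : f * a * f⁻¹ = a := by
    rw [hf, show (k : G)⁻¹ * g * a * ((k : G)⁻¹ * g)⁻¹ = (k : G)⁻¹ * (g * a * g⁻¹) * k by group, hk']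
    group
  have hfa' : f * a = a * f := by
    calc f * a = f * a * f⁻¹ * f := by group
      _ = a * f := by rw [hfa]
  -- the image of `v`
  have hv' : f * v * f⁻¹ ∈ TT a := by
    refine Subgroup.mem_inf.2 ⟨Subgroup.mem_centralizer_singleton_iff.2 ?_, Subgroup.mem_centralizer_singleton_iff.2 ?_⟩
    · have := cjg_comm f (F.mem_W.1 hX'.1).2.symm
      rwa [hfx] at this
    · have := cjg_comm f F.v_comm
      rwa [hfa] at this
  have h2 : AType z (f * v * f⁻¹ * a) := by
    have := F.v_props.2.2.1.cj f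
    rwa [cjg_mul, hfa] at this
  have hne : f * v * f⁻¹ ≠ a := fun e => by
    have e' : (v : G) = a := (cjg_eq f _ _).1 (e.trans hfa.symm)
    have hbad := F.v_props.2.2.1.1
    rw [e', F.aa, orderOf_one] at hbad
    omega
  obtain ⟨hxT, hxl⟩ := F.mem_R.1 hxR
  have h64 : 64 ≤ Nat.card {t : G // t ∈ TT a ∧ t * (f * v * f⁻¹) = f * v * f⁻¹ * t} := by
    have hd := dataF_big
    simp only [chkBig, List.all_eq_true, Bool.or_eq_true, Bool.not_eq_true', Nat.ble_eq] at hd
    have hk64 := hd _ ((F.zF_iff hxT).1 hX'.2.1)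
    have hR : comN (φ (tc hxT)) vC = true := (List.mem_filter.1 hxl).2
    have hA : memC aF (mulN (φ (tc hxT)) aC) = true := by
      rw [memC_iff, ← F.S.a_mem_iff, ← F.S.mulT hxT F.S.aT]; exact (F.aF_iff _).1 hX'.2.2
    rw [hR, hA] at hk64
    simp only [Bool.true_eq_false, false_or] at hk64
    refine hk64.trans ?_
    set l := listR.filter fun c => comN c (φ (tc hxT))
    have hnd : l.Nodup := List.Nodup.filter _ (List.Nodup.filter _ (by decide +kernel : listT.Nodup))
    rw [← List.toFinset_card_of_nodup hnd, ← Nat.card_eq_finsetCard]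
    have hex : ∀ c : {c // c ∈ l.toFinset}, ∃ (r : G) (hr : r ∈ TT a), r ∈ RR a v ∧ φ (tc hr) = c.1 ∧
        r * x' = x' * r := fun c => by
      obtain ⟨hc1, hc2⟩ := List.mem_filter.1 (List.mem_toFinset.1 c.2)
      obtain ⟨r, hr, hrR, hre⟩ := F.elem_R hc1
      exact ⟨r, hr, hrR, hre, (F.S.commT hr hxT).1 (hre.symm ▸ hc2)⟩
    choose r hrT hrR hre hrx using hex
    refine Nat.card_le_card_of_injective (fun c => ⟨f * r c * f⁻¹, Subgroup.mem_inf.2
      ⟨Subgroup.mem_centralizer_singleton_iff.2 ?_, Subgroup.mem_centralizer_singleton_iff.2 ?_⟩,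
      cjg_comm f (F.mem_W.1 (F.RW (hrR c))).2⟩) fun c d e => ?_
    · have := cjg_comm f (hrx c)
      rwa [hfx] at this
    · have := cjg_comm f (F.mem_W.1 (F.RW (hrR c))).1
      rwa [hfa] at this
    · have e' : r c = r d := (cjg_eq f _ _).1 (congrArg Subtype.val e :)
      apply Subtype.ext
      rw [← hre c, ← hre d, F.S.tc_inj]
      exact e'
  obtain ⟨y, hyT, -, hyv⟩ := F.exists_y0
  have hyz : y * z = z * y := Subgroup.mem_centralizer_singleton_iff.1 (Subgroup.mem_inf.1 hyT).1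
  have hya : y * a = a * y := Subgroup.mem_centralizer_singleton_iff.1 (F.S.T_le hyT)
  rcases F.pair_cases hv' (F.v_props.2.1.cj f) h2 hne h64 with e | e
  · exact ⟨f * u, mul_mem (F.mem_W.2 ⟨hfa', mul_inv_eq_iff_eq_mul.1 e⟩) hu, by
      rw [show f * u * x * (f * u)⁻¹ = f * (u * x * u⁻¹) * f⁻¹ by group, ← hx'def, hfx]⟩
  · refine ⟨y * f * u, mul_mem (F.mem_W.2 ⟨?_, ?_⟩) hu, ?_⟩
    · rw [mul_assoc, hfa', ← mul_assoc, hya, mul_assoc]
    · refine mul_inv_eq_iff_eq_mul.1 ?_
      rw [show y * f * v * (y * f)⁻¹ = y * (f * v * f⁻¹) * y⁻¹ by group, e, cjg_mul, hyv,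
        show y * (a : G) * y⁻¹ = a by rw [hya, mul_inv_cancel_right], mul_assoc, F.aa, mul_one]
    · rw [show y * f * u * x * (y * f * u)⁻¹ = y * (f * (u * x * u⁻¹) * f⁻¹) * y⁻¹ by group, ← hx'def, hfx, hyz,
        mul_inv_cancel_right]

end Cfsg.Agent.Fus.HeUniq
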