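import Cfsg.Agent.Lib.Fus.HeUniq.Xgrp
import Cfsg.Agent.Lib.Spor.PSLThreeFour
import Cfsg.Agent.Lib.Fus.PSLTwo
import Cfsg.Agent.S0348

/-!
# The quotient is the linear group `PSL(3,4)`
-/

set_option autoImplicit false
set_option linter.style.haveILetI false
set_option linter.unusedSectionVars false
set_option maxRecDepth 100000

namespace Cfsg.Agent.Fus.HeUniq

open Cfsg.Agent.Spor.SU32 Cfsg.Agent.Spor.L34Elem

/-- An odd group normalised by a four group with two-group centralisers is trivial. -/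
theorem odd_trivial {X : Type*} [Group X] [Finite X]
    (hcit : ∀ t : X, orderOf t = 2 → IsPGroup 2 (Subgroup.centralizer ({t} : Set X)))
    {s t : X} (hs : orderOf s = 2) (ht : orderOf t = 2) (hst : s ≠ t) (hc : s * t = t * s)
    {N : Subgroup X} (hN : Odd (Nat.card N)) (hsN : ∀ n ∈ N, s * n * s⁻¹ ∈ N) (htN : ∀ n ∈ N, t * n * t⁻¹ ∈ N) :
    N = ⊥ := by
  have hone : ∀ u : X, orderOf u = 2 → ∀ n ∈ N, u * n = n * u → n = 1 := by
    intro u hu n hn hun
    obtain ⟨k, hk⟩ := IsPGroup.iff_orderOf.1 (hcit u hu) ⟨n, Subgroup.mem_centralizer_singleton_iff.2 hun.symm⟩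
    rw [Subgroup.orderOf_mk] at hk
    have h2 : orderOf n ∣ Nat.card N := by
      rw [← Subgroup.orderOf_mk n hn]; exact orderOf_dvd_natCard _
    rcases Nat.eq_zero_or_pos k with rfl | hk0
    · exact orderOf_eq_one_iff.1 (by rw [hk, pow_zero])
    · rw [hk] at h2
      exact absurd ((dvd_pow_self 2 hk0.ne').trans h2) (Nat.not_even_iff_odd.2 hN ∘ even_iff_two_dvd.2)
  have hinvert : ∀ u : X, orderOf u = 2 → (∀ n ∈ N, u * n * u⁻¹ ∈ N) → ∀ m ∈ N, u * m * u⁻¹ = m⁻¹ := by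
    intro u hu huN m hm
    have huu : u * u = 1 := by
      have h := pow_orderOf_eq_one u
      rwa [hu, pow_two] at h
    let f : N → N := fun n => ⟨(n : X)⁻¹ * (u * n * u⁻¹), mul_mem (inv_mem n.2) (huN n n.2)⟩
    have hf : Function.Injective f := by
      intro p q e
      have e' : (p : X)⁻¹ * (u * p * u⁻¹) = (q : X)⁻¹ * (u * q * u⁻¹) := congrArg Subtype.val e
      have h1 : u * ((q : X) * (p : X)⁻¹) = (q : X) * (p : X)⁻¹ * u := by
        calc u * ((q : X) * (p : X)⁻¹) = (q : X) * ((q : X)⁻¹ * (u * q * u⁻¹)) * u * (p : X)⁻¹ := by group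
          _ = (q : X) * ((p : X)⁻¹ * (u * p * u⁻¹)) * u * (p : X)⁻¹ := by rw [e']
          _ = (q : X) * (p : X)⁻¹ * u := by group
      have h2 := hone u hu _ (mul_mem q.2 (inv_mem p.2)) h1
      exact Subtype.ext (mul_inv_eq_one.1 h2).symm
    obtain ⟨⟨n, hn⟩, hnm⟩ := (Finite.injective_iff_surjective.1 hf) ⟨m, hm⟩
    have hnm' : n⁻¹ * (u * n * u⁻¹) = m := congrArg Subtype.val hnm
    rw [← hnm', inv_eq_of_mul_eq_one_right huu]
    calc u * (n⁻¹ * (u * n * u)) * u = u * n⁻¹ * u * n * (u * u) := by group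
      _ = (n⁻¹ * (u * n * u))⁻¹ := by rw [huu, mul_one, mul_inv_rev, mul_inv_rev, mul_inv_rev, inv_inv,
          inv_eq_of_mul_eq_one_right huu]; group
  rw [Subgroup.eq_bot_iff_forall]
  intro n hn
  have hst2 : orderOf (s * t) = 2 := by
    have hss := pow_orderOf_eq_one s
    have htt := pow_orderOf_eq_one t
    rw [hs] at hss
    rw [ht] at htt
    refine orderOf_eq_prime (by rw [(Commute.mul_pow hc 2), hss, htt, one_mul]) fun e => hst ?_
    rw [eq_inv_of_mul_eq_one_left e, inv_eq_of_mul_eq_one_right (by rw [← pow_two]; exact htt)]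
  refine hone (s * t) hst2 n hn ?_
  have h1 := hinvert t ht htN n hn
  have h2 := hinvert s hs hsN _ (inv_mem hn)
  rw [inv_inv, ← h1] at h2
  calc s * t * n = s * (t * n * t⁻¹) * s⁻¹ * (s * t) := by group
    _ = n * (s * t) := by rw [h2]

variable {G : Type*} [Group G] [Finite G] [IsSimpleGroup G] {z : G} {Q : Subgroup (CC z)} {φ : CC z → ℕ}
  {a v : CC z} (F : FF z Q φ a v)
include F

theorem FF.RX_card_le {P : Subgroup (XQ a v)} (hP : IsPGroup 2 P) : Nat.card P ≤ 64 := by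
  obtain ⟨ξ, hξ⟩ := F.to_RX hP
  rw [← F.card_RX]
  exact Nat.card_le_card_of_injective (fun p => ⟨ξ * p.1 * ξ⁻¹, hξ p.1 p.2⟩) fun p q e =>
    Subtype.ext (mul_left_cancel (mul_right_cancel (congrArg Subtype.val e :)))

theorem FF.RX_gen_mem {N : Subgroup (XQ a v)} (h : ∀ ξ, orderOf ξ = 2 → ξ ∈ RX a v → ξ ∈ N) :
    RX a v ≤ N := by
  intro ξ hξ
  obtain ⟨α, β, hα, hβ, hαR, hβR, rfl⟩ := F.RX_gen hξ
  have key : ∀ γ : XQ a v, γ * γ = 1 → γ ∈ RX a v → γ ∈ N := by
    intro γ hγ hR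
    rcases eq_or_ne γ 1 with rfl | hne
    · exact one_mem _
    · exact h γ (orderOf_eq_prime (by rw [pow_two]; exact hγ) hne) hR
  exact mul_mem (key α hα hαR) (key β hβ hβR)

theorem FF.prz_inv : orderOf (pr a v ⟨z, F.zW⟩) = 2 := F.pr_X F.z_X

/-- A second involution commuting with the central one. -/
theorem FF.exists_four : ∃ t : XQ a v, orderOf t = 2 ∧ t ∈ RX a v ∧ t ≠ pr a v ⟨z, F.zW⟩ := by
  by_contra hc
  push Not at hc
  obtain ⟨α, β, hα, hβ, hne⟩ := F.RX_noncomm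
  have hle : RX a v ≤ Subgroup.zpowers (pr a v ⟨z, F.zW⟩) :=
    F.RX_gen_mem fun ξ h1 h2 => by rw [hc ξ h1 h2]; exact Subgroup.mem_zpowers _
  obtain ⟨i, rfl⟩ := Subgroup.mem_zpowers_iff.1 (hle hα)
  obtain ⟨j, rfl⟩ := Subgroup.mem_zpowers_iff.1 (hle hβ)
  exact hne (by rw [← zpow_add, ← zpow_add, add_comm])

/-- No nontrivial two-subgroup is normal. -/
theorem FF.no_two_normal {P : Subgroup (XQ a v)} [hPn : P.Normal] (hP : IsPGroup 2 P) : P = ⊥ := by
  by_contra hne
  haveI : Fact (Nat.Prime 2) := ⟨Nat.prime_two⟩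
  obtain ⟨⟨u, huP⟩, hu⟩ : ∃ u : P, orderOf u = 2 := by
    refine exists_prime_orderOf_dvd_card' 2 ?_
    obtain ⟨k, hk⟩ := IsPGroup.iff_card.1 hP
    rw [hk]
    refine dvd_pow_self 2 fun e => hne ?_
    rw [e, pow_zero] at hk
    exact Subgroup.card_eq_one.1 hk
  rw [Subgroup.orderOf_mk] at hu
  have hall : ∀ ξ, orderOf ξ = 2 → ξ ∈ P := fun ξ hξ => by
    obtain ⟨g, rfl⟩ := _root_.isConj_iff.1 (F.one_class hu hξ)
    exact hPn.conj_mem u huP g
  have hRP : RX a v ≤ P := F.RX_gen_mem fun ξ h _ => hall ξ h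
  have hPR : RX a v = P := Subgroup.eq_of_le_of_card_ge hRP (by rw [F.card_RX]; exact F.RX_card_le hP)
  -- every involution is then central in the normal Sylow subgroup
  have hcen : ∀ ξ, orderOf ξ = 2 → ∀ η ∈ RX a v, η * ξ = ξ * η := by
    intro ξ hξ η hη
    obtain ⟨g, rfl⟩ := _root_.isConj_iff.1 (F.one_class F.prz_inv hξ)
    have hη' : g⁻¹ * η * g ∈ RX a v := by
      rw [hPR] at hη ⊢
      simpa using hPn.conj_mem η hη g⁻¹
    have := congrArg (fun r => g * r * g⁻¹) (F.z_central hη')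
    simpa [mul_assoc] using this
  obtain ⟨α, β, hα, hβ, hne2⟩ := F.RX_noncomm
  refine hne2 ?_
  have key : ∀ η ∈ RX a v, η * β = β * η := by
    intro η hη
    have hle : RX a v ≤ Subgroup.centralizer ({η} : Set (XQ a v)) :=
      F.RX_gen_mem fun ξ h1 _ => Subgroup.mem_centralizer_singleton_iff.2 (hcen ξ h1 η hη).symm
    exact (Subgroup.mem_centralizer_singleton_iff.1 (hle hβ)).symm
  exact key α hα

/-- The normal closure of the central involution. -/
noncomputable def FF.MX : Subgroup (XQ a v) :=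
  Subgroup.normalClosure ({pr a v ⟨z, F.zW⟩} : Set (XQ a v))

theorem FF.MX_normal : F.MX.Normal := Subgroup.normalClosure_normal

theorem FF.inv_mem_MX {ξ : XQ a v} (h : orderOf ξ = 2) : ξ ∈ F.MX := by
  obtain ⟨g, rfl⟩ := _root_.isConj_iff.1 (F.one_class F.prz_inv h)
  exact F.MX_normal.conj_mem _ (Subgroup.subset_normalClosure rfl) g

theorem FF.RX_MX : RX a v ≤ F.MX := F.RX_gen_mem fun _ h _ => F.inv_mem_MX h

theorem FF.two_MX {P : Subgroup (XQ a v)} (hP : IsPGroup 2 P) : P ≤ F.MX := by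
  obtain ⟨ξ, hξ⟩ := F.to_RX hP
  intro p hp
  have := F.MX_normal.conj_mem _ (F.RX_MX (hξ p hp)) ξ⁻¹
  simpa [mul_assoc] using this

/-- A two-group normalised by the normal closure is trivial. -/
theorem FF.no_two_sub {P : Subgroup (XQ a v)} (hP : IsPGroup 2 P)
    (hn : ∀ m ∈ F.MX, ∀ p ∈ P, m * p * m⁻¹ ∈ P) : P = ⊥ := by
  have hconj : ∀ p ∈ P, ∀ ξ : XQ a v, ξ * p * ξ⁻¹ ∈ RX a v := by
    intro p hp ξ
    set P' := P.map (MulAut.conj ξ).toMonoidHom with hP'
    have hn' : RX a v ≤ Subgroup.normalizer (P' : Set (XQ a v)) := by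
      intro m hm
      have key : ∀ m ∈ F.MX, ∀ q ∈ P', m * q * m⁻¹ ∈ P' := by
        intro m hm q hq
        obtain ⟨p, hp, rfl⟩ := Subgroup.mem_map.1 hq
        refine Subgroup.mem_map.2 ⟨ξ⁻¹ * m * ξ * p * (ξ⁻¹ * m * ξ)⁻¹, hn _ ?_ p hp, ?_⟩
        · simpa using F.MX_normal.conj_mem m hm ξ⁻¹
        · simp [MulAut.conj_apply, mul_assoc]
      rw [Subgroup.mem_normalizer_iff]
      refine fun q => ⟨key m (F.RX_MX hm) q, fun h => ?_⟩
      have := key m⁻¹ (inv_mem (F.RX_MX hm)) _ h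
      rwa [show m⁻¹ * (m * q * m⁻¹) * m⁻¹⁻¹ = q by group] at this
    have hsup := IsPGroup.to_sup_of_normal_left' (hP.map (MulAut.conj ξ).toMonoidHom) F.RX_two hn'
    have heq : RX a v = P' ⊔ RX a v :=
      Subgroup.eq_of_le_of_card_ge le_sup_right (by rw [F.card_RX]; exact F.RX_card_le hsup)
    rw [heq]
    exact le_sup_left (α := Subgroup (XQ a v)) ⟨p, hp, rfl⟩
  have hle : Subgroup.normalClosure (P : Set (XQ a v)) ≤ RX a v := by
    rw [Subgroup.normalClosure, Subgroup.closure_le]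
    intro q hq
    obtain ⟨p, hp, hpq⟩ := Group.mem_conjugatesOfSet_iff.1 hq
    obtain ⟨ξ, rfl⟩ := _root_.isConj_iff.1 hpq
    exact hconj p hp ξ
  have := F.no_two_normal (F.RX_two.to_le hle)
  exact le_bot_iff.1 (this ▸ Subgroup.le_normalClosure)

theorem FF.MX_minimal : ∀ (n : ℕ) (K : Subgroup (XQ a v)), Nat.card K ≤ n → K ≤ F.MX →
    (∀ m ∈ F.MX, ∀ k ∈ K, m * k * m⁻¹ ∈ K) → K ≠ ⊥ → K = F.MX := by
  intro n
  induction n with
  | zero => exact fun K hK => absurd hK (not_le.2 Nat.card_pos)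
  | succ n ih =>
    intro K hcard hKM hn hne
    obtain ⟨t, ht, htR, htne⟩ := F.exists_four
    obtain ⟨u, huK, hu⟩ : ∃ u ∈ K, orderOf u = 2 := by
      by_cases hodd : Odd (Nat.card K)
      · exact absurd (odd_trivial (fun t h => F.X_cit h) F.prz_inv ht htne.symm (F.z_central htR).symm hodd
          (hn _ (F.inv_mem_MX F.prz_inv)) (hn _ (F.inv_mem_MX ht))) hne
      · haveI : Fact (Nat.Prime 2) := ⟨Nat.prime_two⟩
        obtain ⟨⟨u, hu⟩, hord⟩ :=
          exists_prime_orderOf_dvd_card' (G := K) 2 (even_iff_two_dvd.1 (Nat.not_odd_iff_even.1 hodd))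
        rw [Subgroup.orderOf_mk] at hord
        exact ⟨u, hu, hord⟩
    by_cases hinv : ∀ ξ : XQ a v, ∀ k ∈ K, ξ * k * ξ⁻¹ ∈ K
    · haveI : K.Normal := ⟨fun k hk ξ => hinv ξ k hk⟩
      refine le_antisymm hKM (Subgroup.normalClosure_le_normal ?_)
      rintro _ rfl
      obtain ⟨g, hg⟩ := _root_.isConj_iff.1 (F.one_class hu F.prz_inv)
      exact hg ▸ hinv g u huK
    · exfalso
      push Not at hinv
      obtain ⟨ξ, k0, hk0, hk0'⟩ := hinv
      set K' := K.map (MulAut.conj ξ).toMonoidHom with hK'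
      have hn' : ∀ m ∈ F.MX, ∀ q ∈ K', m * q * m⁻¹ ∈ K' := by
        intro m hm q hq
        obtain ⟨p, hp, rfl⟩ := Subgroup.mem_map.1 hq
        refine Subgroup.mem_map.2 ⟨ξ⁻¹ * m * ξ * p * (ξ⁻¹ * m * ξ)⁻¹, hn _ ?_ p hp, ?_⟩
        · simpa using F.MX_normal.conj_mem m hm ξ⁻¹
        · simp [MulAut.conj_apply, mul_assoc]
      have hK'M : K' ≤ F.MX := by
        intro q hq
        obtain ⟨p, hp, rfl⟩ := Subgroup.mem_map.1 hq
        exact F.MX_normal.conj_mem p (hKM hp) ξ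
      have hcardeq : Nat.card K' = Nat.card K :=
        (Nat.card_congr (K.equivMapOfInjective _ (MulAut.conj ξ).injective).toEquiv).symm
      have hneK : K' ≠ K := fun e => hk0' (e ▸ ⟨k0, hk0, rfl⟩)
      have hI : K ⊓ K' = ⊥ := by
        by_contra hI
        have hlt : Nat.card (K ⊓ K' : Subgroup (XQ a v)) ≤ n := by
          by_contra hgt
          push Not at hgt
          have e := Subgroup.eq_of_le_of_card_ge (inf_le_left : K ⊓ K' ≤ K) (by omega)
          exact hneK (Subgroup.eq_of_le_of_card_ge (e ▸ inf_le_right : K ≤ K') (by omega)).symm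
        have hMeq := ih _ hlt (inf_le_left.trans hKM) (fun m hm k hk => ⟨hn m hm k hk.1, hn' m hm k hk.2⟩) hI
        exact hneK ((le_antisymm hK'M (hMeq ▸ inf_le_right)).trans (le_antisymm hKM (hMeq ▸ inf_le_left)).symm)
      have hcomm : ∀ k ∈ K, ∀ q ∈ K', k * q = q * k := by
        intro k hk q hq
        have h1 : k * q * k⁻¹ * q⁻¹ ∈ K ⊓ K' := by
          refine Subgroup.mem_inf.2 ⟨?_, mul_mem (hn' k (hKM hk) q hq) (inv_mem hq)⟩
          rw [show k * q * k⁻¹ * q⁻¹ = k * (q * k⁻¹ * q⁻¹) by group]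
          exact mul_mem hk (hn q (hK'M hq) _ (inv_mem hk))
        rw [hI, Subgroup.mem_bot, mul_inv_eq_one, mul_inv_eq_iff_eq_mul] at h1
        exact h1
      have hbot := F.no_two_sub ((F.X_cit hu).to_le fun q hq =>
        Subgroup.mem_centralizer_singleton_iff.2 (hcomm u huK q hq).symm) hn'
      rw [hbot, Subgroup.card_bot] at hcardeq
      exact hne (Subgroup.card_eq_one.1 hcardeq.symm)

theorem FF.MX_simple : IsSimpleGroup F.MX := by
  have hne : F.MX ≠ ⊥ := fun e => by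
    have h := F.inv_mem_MX F.prz_inv
    rw [e, Subgroup.mem_bot] at h
    have h2 := F.prz_inv
    rw [h, orderOf_one] at h2
    omega
  haveI : Nontrivial F.MX := (Subgroup.nontrivial_iff_ne_bot _).2 hne
  refine ⟨fun N hN => ?_⟩
  rcases eq_or_ne N ⊥ with h | h
  · exact Or.inl h
  right
  have h2 := F.MX_minimal _ (N.map F.MX.subtype) le_rfl (Subgroup.map_subtype_le _) ?_
    (fun e => h ((Subgroup.map_eq_bot_iff_of_injective _ F.MX.subtype_injective).1 e))
  · exact Subgroup.map_injective F.MX.subtype_injective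
      (h2.trans (by rw [← MonoidHom.range_eq_map, Subgroup.range_subtype]))
  · rintro m hm _ ⟨k, hk, rfl⟩
    exact ⟨⟨m, hm⟩ * k * ⟨m, hm⟩⁻¹, hN.conj_mem k hk ⟨m, hm⟩, rfl⟩

theorem FF.card_dvd : Nat.card (XQ a v) ∣ 4030387200 := by
  rw [← F.S.L.cardG]
  exact (Subgroup.card_quotient_dvd_card _).trans (Subgroup.card_subgroup_dvd_card _)

theorem FF.MX_iso : Nonempty (F.MX ≃* Matrix.ProjectiveSpecialLinearGroup (Fin 3) F4) := by
  classical
  haveI := F.MX_simple
  haveI : Fact (Nat.Prime 2) := ⟨Nat.prime_two⟩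
  have hG : ∃ x y : F.MX, x * y ≠ y * x := by
    obtain ⟨α, β, hα, hβ, hne⟩ := F.RX_noncomm
    exact ⟨⟨α, F.RX_MX hα⟩, ⟨β, F.RX_MX hβ⟩, fun e => hne (congrArg Subtype.val e)⟩
  have hcit : ∀ t : F.MX, orderOf t = 2 → IsPGroup 2 (Subgroup.centralizer ({t} : Set F.MX)) := by
    intro t ht
    have h := F.X_cit (ξ := (t : XQ a v)) (by rwa [Subgroup.orderOf_coe])
    intro x
    obtain ⟨k, hk⟩ := h ⟨((x : F.MX) : XQ a v), Subgroup.mem_centralizer_singleton_iff.2
      (congrArg Subtype.val (Subgroup.mem_centralizer_singleton_iff.1 x.2))⟩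
    exact ⟨k, Subtype.ext (Subtype.ext (congrArg Subtype.val hk :))⟩
  have h64 : 64 ∣ Nat.card F.MX := F.card_RX ▸ Subgroup.card_dvd_of_le F.RX_MX
  have h128 : ¬ 128 ∣ Nat.card F.MX := by
    intro h
    obtain ⟨P, hP⟩ := Sylow.exists_subgroup_card_pow_prime (G := F.MX) 2 (show 2 ^ 7 ∣ _ from h)
    have h1 := F.RX_card_le ((IsPGroup.of_card (n := 7) hP).map F.MX.subtype)
    rw [← Nat.card_congr (P.equivMapOfInjective _ F.MX.subtype_injective).toEquiv, hP] at h1
    norm_num at h1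
  have hdvd : Nat.card F.MX ∣ 4030387200 := (Subgroup.card_subgroup_dvd_card _).trans F.card_dvd
  rcases Cfsg.Agent.S0348.result hG hcit with ⟨K, hK, hfin, hq, ⟨e⟩⟩ | ⟨K, hK, hfin, hq, ⟨e⟩⟩ | hsz
  · exfalso
    have hmul := Classical.natCard_PSL_mul (F := K) 2 (by norm_num)
    rw [← Nat.card_congr e.toEquiv, Fus.PSLTwo.natCard_SL_two, Classical.natCard_units_field] at hmul
    set q := Fintype.card K with hqdef
    set m := Nat.card F.MX
    rcases hq with hq | ⟨n, hn⟩ | ⟨hp, -⟩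
    · rw [hq] at hmul
      norm_num at hmul
      omega
    · rcases Nat.eq_zero_or_pos n with rfl | hn0
      · have := Fintype.one_lt_card (α := K)
        rw [← hqdef, hn, pow_zero] at this
        omega
      have hqe : Even q := hn ▸ (even_two.pow_of_ne_zero hn0.ne')
      have h2q : 2 ≤ q := hqdef ▸ Fintype.one_lt_card (α := K)
      have hg : Nat.gcd 2 (q - 1) = 1 := by
        have ho : (q - 1) % 2 = 1 := by have := Nat.even_iff.1 hqe; omega
        exact Nat.prime_two.coprime_iff_not_dvd.2 fun hd => by omega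
      rw [hg, one_mul] at hmul
      have hodd : ¬ 2 ∣ (q - 1) * (q + 1) := fun hd => by
        have := Nat.even_iff.1 hqe
        rcases (Nat.prime_two.dvd_mul).1 hd with h | h <;> omega
      have hcop : Nat.Coprime (2 ^ 6) ((q - 1) * (q + 1)) :=
        (Nat.prime_two.coprime_iff_not_dvd.2 hodd).pow_left 6
      have h6 : 2 ^ 6 ∣ 2 ^ n := hn ▸ hcop.dvd_of_dvd_mul_right (hmul ▸ h64)
      have hn6 := (Nat.pow_dvd_pow_iff_le_right (by norm_num : 1 < 2)).1 h6
      have hn7 : n ≤ 6 := by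
        by_contra hc
        refine h128 (hmul ▸ dvd_mul_of_dvd_left ?_ _)
        rw [hn]
        exact (show (128 : ℕ) = 2 ^ 7 by norm_num) ▸ pow_dvd_pow 2 (by omega)
      obtain rfl : n = 6 := by omega
      rw [hn] at hmul
      norm_num at hmul
      rw [hmul] at hdvd
      omega
    · rcases hp.eq_two_or_odd with h2 | hodd
      · rw [h2] at hmul
        norm_num at hmul
        omega
      have hpd : q ∣ m := by
        have h1 : q ∣ Nat.gcd 2 (q - 1) * m := hmul ▸ dvd_mul_right _ _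
        refine (Nat.Coprime.dvd_mul_left ?_).1 h1
        refine Nat.Coprime.coprime_dvd_right (Nat.gcd_dvd_left _ _) ?_
        exact (Nat.coprime_primes hp Nat.prime_two).2 (by omega)
      have hlist : q = 2 ∨ q = 3 ∨ q = 5 ∨ q = 7 ∨ q = 17 := by
        have h' : q ∣ 2 ^ 10 * 3 ^ 3 * 5 ^ 2 * 7 ^ 3 * 17 := hpd.trans hdvd
        have hcases : ∀ {p k : ℕ}, p.Prime → q ∣ p ^ k → q = p := fun hp' h =>
          (Nat.prime_dvd_prime_iff_eq hp hp').1 (hp.dvd_of_dvd_pow h)
        rcases (Nat.Prime.dvd_mul hp).1 h' with h' | h'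
        · rcases (Nat.Prime.dvd_mul hp).1 h' with h' | h'
          · rcases (Nat.Prime.dvd_mul hp).1 h' with h' | h'
            · rcases (Nat.Prime.dvd_mul hp).1 h' with h' | h'
              · exact Or.inl (hcases Nat.prime_two h')
              · exact Or.inr (Or.inl (hcases Nat.prime_three h'))
            · exact Or.inr (Or.inr (Or.inl (hcases (by norm_num) h')))
          · exact Or.inr (Or.inr (Or.inr (Or.inl (hcases (by norm_num) h'))))
        · exact Or.inr (Or.inr (Or.inr (Or.inr ((Nat.prime_dvd_prime_iff_eq hp (by norm_num)).1 h'))))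
      rcases hlist with h | h | h | h | h <;> rw [h] at hmul <;> norm_num at hmul <;> omega
  · exact ⟨e.trans (Classical.choice (model hq))⟩
  · exfalso
    obtain ⟨-, m, hm, hc⟩ := hsz
    set q := 2 ^ (2 * m + 1) with hqdef
    rcases (show m = 1 ∨ 2 ≤ m by omega) with rfl | h2
    · rw [hqdef] at hc
      norm_num at hc
      rw [hc] at hdvd
      omega
    · refine h128 (hc ▸ dvd_mul_of_dvd_left (dvd_mul_of_dvd_left ?_ _) _)
      rw [hqdef, ← pow_mul]
      exact (show (128 : ℕ) = 2 ^ 7 by norm_num) ▸ pow_dvd_pow 2 (by omega)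

theorem FF.MX_top : F.MX = ⊤ := by
  obtain ⟨e⟩ := F.MX_iso
  rw [eq_top_iff]
  intro ξ _
  set c := pr a v ⟨z, F.zW⟩ with hc
  have hcM := F.inv_mem_MX F.prz_inv
  have h2 : orderOf (ξ * c * ξ⁻¹) = 2 := ((MulAut.conj ξ).orderOf_eq c).trans F.prz_inv
  have hdM := F.inv_mem_MX h2
  have hcj : IsConj (e ⟨c, hcM⟩) (e ⟨ξ * c * ξ⁻¹, hdM⟩) :=
    involutions_conj (by rw [e.orderOf_eq, Subgroup.orderOf_mk]; exact F.prz_inv)
      (by rw [e.orderOf_eq, Subgroup.orderOf_mk]; exact h2)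
  obtain ⟨y, hy⟩ := _root_.isConj_iff.1 hcj
  obtain ⟨m, rfl⟩ := e.surjective y
  rw [← map_inv, ← map_mul, ← map_mul, e.injective.eq_iff] at hy
  have hy' : (m : XQ a v) * c * (m : XQ a v)⁻¹ = ξ * c * ξ⁻¹ := congrArg Subtype.val hy
  have hcen : (m : XQ a v)⁻¹ * ξ ∈ Subgroup.centralizer ({c} : Set (XQ a v)) := cj_mem_iff.1 hy'.symm
  have := mul_mem m.2 (F.two_MX (F.X_cit F.prz_inv) hcen)
  rwa [mul_inv_cancel_left] at this

theorem FF.X_iso : Nonempty (XQ a v ≃* Matrix.ProjectiveSpecialLinearGroup (Fin 3) F4) := by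
  obtain ⟨e⟩ := F.MX_iso
  exact ⟨(Subgroup.topEquiv.symm.trans (MulEquiv.subgroupCongr F.MX_top.symm)).trans e⟩

omit F in
theorem card_PS : Nat.card (Matrix.ProjectiveSpecialLinearGroup (Fin 3) F4) = 20160 := by
  have h := Classical.natCard_GL_eq_SL_mul (F := F4) 3 (by norm_num)
  have h2 := Classical.natCard_PSL_mul (F := F4) 3 (by norm_num)
  have hq : Fintype.card F4 = 4 := card_F4
  rw [Matrix.card_GL_field, Fin.prod_univ_three, Classical.natCard_units_field, hq] at h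
  rw [Classical.natCard_units_field, hq] at h2
  norm_num at h h2
  simp only [← Nat.card_eq_fintype_card] at h h2
  omega

theorem FF.card_W : Nat.card (WW a v) = 80640 := by
  obtain ⟨e⟩ := F.X_iso
  rw [(VW a v).card_eq_card_quotient_mul_card_subgroup, F.card_VW, Nat.card_congr e.toEquiv, card_PS]

end Cfsg.Agent.Fus.HeUniq
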