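import Cfsg.Agent.Lib.Fus.HeUniq.XElt

/-!
# The quotient of the centralizer of the four group
-/

set_option autoImplicit false
set_option linter.style.haveILetI false
set_option linter.unusedSectionVars false
set_option maxRecDepth 100000

namespace Cfsg.Agent.Fus.HeUniq

variable {G : Type*} [Group G] {z : G}

/-- The four group inside its centralizer. -/
def VW (a v : CC z) : Subgroup (WW a v) := Subgroup.closure {w | InV a v (w : G)}

instance VW_normal (a v : CC z) : (VW a v).Normal := by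
  have hle : VW a v ≤ Subgroup.center (WW a v) := by
    refine (Subgroup.closure_le _).2 fun w hw => Subgroup.mem_center_iff.2 fun g => ?_
    refine Subtype.ext ?_
    obtain ⟨h1, h2⟩ := Subgroup.mem_inf.1 g.2
    rw [Subgroup.mem_centralizer_singleton_iff] at h1 h2
    show (g : G) * w = w * g
    rcases hw with e | e | e | e <;> rw [e]
    · rw [mul_one, one_mul]
    · exact h1
    · exact h2
    · rw [← mul_assoc, h2, mul_assoc, h1, ← mul_assoc]
  refine ⟨fun n hn g => ?_⟩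
  rw [Subgroup.mem_center_iff.1 (hle hn) g, mul_inv_cancel_right]
  exact hn

/-- The quotient of the centralizer of the four group by the four group. -/
abbrev XQ (a v : CC z) : Type _ := WW a v ⧸ VW a v

/-- The projection. -/
abbrev pr (a v : CC z) : WW a v →* XQ a v := QuotientGroup.mk' (VW a v)

/-- The image of the Sylow subgroup. -/
def RX (a v : CC z) : Subgroup (XQ a v) := ((RR a v).subgroupOf (WW a v)).map (pr a v)

variable [Finite G] [IsSimpleGroup G] {Q : Subgroup (CC z)} {φ : CC z → ℕ} {a v : CC z} (F : FF z Q φ a v)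
include F

theorem FF.mem_VW {w : WW a v} : w ∈ VW a v ↔ InV a v (w : G) := by
  refine ⟨fun h => ?_, fun h => Subgroup.subset_closure h⟩
  induction h using Subgroup.closure_induction with
  | mem w hw => exact hw
  | one => exact F.InV_one
  | mul x y _ _ hx hy => exact F.InV_mul hx hy
  | inv x _ hx =>
    rw [Subgroup.coe_inv, inv_eq_of_mul_eq_one_right (F.InV_sq hx)]
    exact hx

theorem FF.pr_eq {x y : WW a v} : pr a v x = pr a v y ↔ InV a v ((x : G)⁻¹ * y) := by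
  rw [QuotientGroup.mk'_apply, QuotientGroup.mk'_apply, QuotientGroup.eq, F.mem_VW]
  rfl

theorem FF.pr_one {x : WW a v} : pr a v x = 1 ↔ InV a v (x : G) := by
  rw [← MonoidHom.mem_ker, QuotientGroup.ker_mk', F.mem_VW]

theorem FF.card_VW : Nat.card (VW a v) = 4 := by
  classical
  have hne : (v : G) ≠ a := fun e => by
    have h := F.v_props.2.2.1.1
    rw [e, F.aa, orderOf_one] at h
    omega
  have hva : (v : G) * a ≠ 1 := fun e => by
    have h := F.v_props.2.2.1.1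
    rw [e, orderOf_one] at h
    omega
  have ha1 : (a : G) ≠ 1 := fun e => by have h := F.S.a_inv; rw [e, orderOf_one] at h; omega
  have hv1 : (v : G) ≠ 1 := fun e => by have h := F.v_props.2.1.1; rw [e, orderOf_one] at h; omega
  have hcard : ({1, (a : G), (v : G), (v : G) * a} : Finset G).card = 4 := by
    rw [Finset.card_eq_four]
    exact ⟨1, a, v, v * a, ha1.symm, hv1.symm, hva.symm, hne.symm,
      fun e => hv1 (mul_eq_right.1 e.symm), fun e => ha1 (mul_eq_left.1 e.symm), rfl⟩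
  rw [← hcard, ← Nat.card_eq_finsetCard]
  refine Nat.card_congr
    { toFun := fun w => ⟨(w.1 : G), ?_⟩
      invFun := fun x => ⟨⟨x.1, F.V_W ?_⟩, F.mem_VW.2 ?_⟩
      left_inv := fun _ => rfl
      right_inv := fun _ => rfl }
  · have h := F.mem_VW.1 w.2
    simpa [InV] using h
  · have h := x.2
    simp only [Finset.mem_insert, Finset.mem_singleton] at h
    exact h
  · have h := x.2
    simp only [Finset.mem_insert, Finset.mem_singleton] at h
    exact h

theorem FF.V_two : IsPGroup 2 (VW a v) := IsPGroup.of_card (n := 2) (by rw [F.card_VW]; rfl)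

theorem FF.pr_X {x : G} (h : IsX a v x) : orderOf (pr a v ⟨x, h.1⟩) = 2 := by
  refine orderOf_eq_prime (by rw [pow_two, ← map_mul, F.pr_one]; exact Or.inl (F.X_sq h)) ?_
  exact fun e => F.X_notV h (F.pr_one.1 e)

theorem FF.lift_X {ξ : XQ a v} (h : orderOf ξ = 2) : ∃ (x : G) (hx : IsX a v x), pr a v ⟨x, hx.1⟩ = ξ := by
  obtain ⟨⟨x, hxW⟩, rfl⟩ := QuotientGroup.mk'_surjective (VW a v) ξ
  have hnV : ¬ InV a v x := fun hV => by
    rw [(F.pr_one (x := ⟨x, hxW⟩)).2 hV, orderOf_one] at h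
    omega
  have hsq : InV a v (x * x) := by
    have h2 : pr a v (⟨x, hxW⟩ * ⟨x, hxW⟩) = 1 := by
      rw [map_mul, ← pow_two, ← h, pow_orderOf_eq_one]
    exact F.pr_one.1 h2
  obtain ⟨k, hk, hX, -⟩ := F.X_exists hxW hnV hsq
  refine ⟨x * k, hX, (F.pr_eq).2 ?_⟩
  show InV a v ((x * k)⁻¹ * x)
  rw [mul_inv_rev, mul_assoc, inv_mul_cancel, mul_one, inv_eq_of_mul_eq_one_right (F.InV_sq hk)]
  exact hk

theorem FF.one_class {ξ η : XQ a v} (h1 : orderOf ξ = 2) (h2 : orderOf η = 2) : IsConj ξ η := by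
  have key : ∀ ζ : XQ a v, orderOf ζ = 2 → IsConj ζ (pr a v ⟨z, F.zW⟩) := by
    intro ζ hζ
    obtain ⟨x, hx, rfl⟩ := F.lift_X hζ
    obtain ⟨w, hw, hwx⟩ := F.X_conj_z hx
    refine _root_.isConj_iff.2 ⟨pr a v ⟨w, hw⟩, ?_⟩
    rw [← map_inv, ← map_mul, ← map_mul]
    exact congrArg (pr a v) (Subtype.ext hwx)
  exact (key ξ h1).trans (key η h2).symm

theorem FF.X_cit {ξ : XQ a v} (h : orderOf ξ = 2) : IsPGroup 2 (Subgroup.centralizer ({ξ} : Set (XQ a v))) := by
  obtain ⟨x, hx, rfl⟩ := F.lift_X h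
  refine (((F.X_cent_two hx).of_equiv (Subgroup.subgroupOfEquivOfLe inf_le_left).symm :
    IsPGroup 2 ((WW a v ⊓ CC x).subgroupOf (WW a v))).map (pr a v)).to_le ?_
  intro η hη
  obtain ⟨c, rfl⟩ := QuotientGroup.mk'_surjective (VW a v) η
  refine ⟨c, ?_, rfl⟩
  rw [SetLike.mem_coe, Subgroup.mem_subgroupOf, Subgroup.mem_inf]
  refine ⟨c.2, Subgroup.mem_centralizer_singleton_iff.2 ?_⟩
  have h2 := Subgroup.mem_centralizer_singleton_iff.1 hη
  rw [← map_mul, ← map_mul, F.pr_eq] at h2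
  simp only [Subgroup.coe_mul] at h2
  -- both lifts of the conjugate are distinguished
  have hk : InV a v (x⁻¹ * ((c : G) * x * (c : G)⁻¹)) := by
    have h3 : x⁻¹ * ((c : G) * x * (c : G)⁻¹) =
        (c : G) * (((c : G) * x)⁻¹ * (x * c))⁻¹ * (c : G)⁻¹ := by group
    rw [h3, inv_eq_of_mul_eq_one_right (F.InV_sq h2), F.V_comm h2 c.2, mul_inv_cancel_right]
    exact h2
  have h4 := F.X_unique hk hx (by rw [mul_inv_cancel_left]; exact F.X_cj hx c.2)
  have h5 := inv_mul_eq_one.1 h4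
  exact mul_inv_eq_iff_eq_mul.1 h5.symm

theorem FF.RX_two : IsPGroup 2 (RX a v) :=
  (F.R_two.of_equiv (Subgroup.subgroupOfEquivOfLe F.RW).symm : IsPGroup 2 ((RR a v).subgroupOf (WW a v))).map _

theorem FF.card_RX : Nat.card (RX a v) = 64 := by
  have hVR : VW a v ≤ (RR a v).subgroupOf (WW a v) := fun w hw => by
    rw [Subgroup.mem_subgroupOf]
    refine F.mem_R.2 ?_
    have hV := F.mem_VW.1 hw
    have hT : (w : G) ∈ TT a := by
      rcases hV with e | e | e | e <;> rw [e]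
      · exact one_mem _
      · exact F.S.aT
      · exact F.vT
      · exact mul_mem F.vT F.S.aT
    have hsub : ∀ c ∈ listV, c ∈ listR := by decide +kernel
    exact ⟨hT, hsub _ ((F.listV_iff hT).2 hV)⟩
  have h := Subgroup.card_mul_index ((VW a v).subgroupOf ((RR a v).subgroupOf (WW a v)))
  rw [Nat.card_congr (Subgroup.subgroupOfEquivOfLe hVR).toEquiv, F.card_VW,
    Nat.card_congr (Subgroup.subgroupOfEquivOfLe F.RW).toEquiv, F.card_R, ← Subgroup.relIndex] at h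
  have h2 : Nat.card (RX a v) = (VW a v).relIndex ((RR a v).subgroupOf (WW a v)) := by
    rw [RX, ← Subgroup.relIndex_bot_left, ← Subgroup.relIndex_comap]
    congr 1
    exact QuotientGroup.ker_mk' (VW a v)
  omega

/-- Two-subgroups of the quotient are conjugate into the image of `R`. -/
theorem FF.to_RX {P : Subgroup (XQ a v)} (hP : IsPGroup 2 P) : ∃ ξ : XQ a v, ∀ p ∈ P, ξ * p * ξ⁻¹ ∈ RX a v := by
  have h1 : IsPGroup 2 (P.comap (pr a v)) :=
    hP.comap_of_ker_isPGroup (pr a v) (by rw [QuotientGroup.ker_mk']; exact F.V_two)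
  obtain ⟨w, hw, hwR⟩ := F.to_R (h1.map (WW a v).subtype) (Subgroup.map_subtype_le _)
  refine ⟨pr a v ⟨w, hw⟩, fun p hp => ?_⟩
  obtain ⟨q, rfl⟩ := QuotientGroup.mk'_surjective (VW a v) p
  rw [← map_inv, ← map_mul, ← map_mul]
  exact ⟨_, Subgroup.mem_subgroupOf.2 (hwR q ⟨q, hp, rfl⟩), rfl⟩

theorem FF.RX_gen {ξ : XQ a v} (h : ξ ∈ RX a v) :
    ∃ α β : XQ a v, α * α = 1 ∧ β * β = 1 ∧ α ∈ RX a v ∧ β ∈ RX a v ∧ ξ = α * β := by
  obtain ⟨w, hw, rfl⟩ := h
  rw [SetLike.mem_coe, Subgroup.mem_subgroupOf] at hw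
  obtain ⟨hwT, hwl⟩ := F.mem_R.1 hw
  have hd := dataF_gen
  simp only [List.all_eq_true, List.any_eq_true, memC_iff] at hd
  obtain ⟨c, hc, hcw⟩ := hd _ hwl
  have hinv : ∀ c ∈ invR, c ∈ listR ∧ mulN c c = oneC := by decide +kernel
  obtain ⟨r, hrT, hrR, rfl⟩ := F.elem_R (hinv c hc).1
  have hrr : r * r = 1 := by
    have := (hinv _ hc).2
    rwa [← F.S.mulT hrT hrT, ← F.S.oneT, F.S.tc_inj] at this
  have hsT : r * (w : G) ∈ TT a := mul_mem hrT hwT
  have hs : φ (tc hsT) ∈ invR := by rw [F.S.mulT hrT hwT]; exact hcw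
  have hss : r * (w : G) * (r * w) = 1 := by
    have := (hinv _ hs).2
    rwa [← F.S.mulT hsT hsT, ← F.S.oneT, F.S.tc_inj] at this
  refine ⟨pr a v ⟨r, F.RW hrR⟩, pr a v ⟨r * w, mul_mem (F.RW hrR) w.2⟩, ?_, ?_,
    ⟨_, Subgroup.mem_subgroupOf.2 hrR, rfl⟩, ⟨_, Subgroup.mem_subgroupOf.2 (mul_mem hrR hw), rfl⟩, ?_⟩
  · rw [← map_mul]; exact F.pr_one.2 (Or.inl hrr)
  · rw [← map_mul]; exact F.pr_one.2 (Or.inl hss)
  · rw [← map_mul]
    exact congrArg (pr a v) (Subtype.ext (show (w : G) = r * (r * w) by rw [← mul_assoc, hrr, one_mul]))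

theorem FF.RX_noncomm : ∃ α β : XQ a v, α ∈ RX a v ∧ β ∈ RX a v ∧ α * β ≠ β * α := by
  have hd : (commR.getD 2 (0, 0)).1 ∈ listR ∧ (commR.getD 2 (0, 0)).2 ∈ listR ∧ ∀ k ∈ listV,
      mulN (commR.getD 2 (0, 0)).1 (commR.getD 2 (0, 0)).2 ≠
        mulN k (mulN (commR.getD 2 (0, 0)).2 (commR.getD 2 (0, 0)).1) := by decide +kernel
  obtain ⟨p, hpT, hpR, hpe⟩ := F.elem_R hd.1
  obtain ⟨q, hqT, hqR, hqe⟩ := F.elem_R hd.2.1
  refine ⟨pr a v ⟨p, F.RW hpR⟩, pr a v ⟨q, F.RW hqR⟩, ⟨_, Subgroup.mem_subgroupOf.2 hpR, rfl⟩,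
    ⟨_, Subgroup.mem_subgroupOf.2 hqR, rfl⟩, fun e => ?_⟩
  rw [← map_mul, ← map_mul, F.pr_eq] at e
  simp only [Subgroup.coe_mul] at e
  have hkW := F.V_W e
  set k := (p * q)⁻¹ * (q * p) with hk
  have hkT : k ∈ TT a := hk ▸ mul_mem (inv_mem (mul_mem hpT hqT)) (mul_mem hqT hpT)
  have h1 : p * q = k * (q * p) := by
    have h2 : q * p = p * q * k := by rw [hk, mul_inv_cancel_left]
    rw [← F.V_comm e (mul_mem (F.RW hqR) (F.RW hpR)), h2, mul_assoc (p * q) k k, F.InV_sq e, mul_one]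
  refine hd.2.2 _ ((F.listV_iff hkT).2 e) ?_
  rw [← hpe, ← hqe, ← F.S.mulT hpT hqT, ← F.S.mulT hqT hpT, ← F.S.mulT hkT (mul_mem hqT hpT), F.S.tc_inj]
  exact h1

theorem FF.z_RX : pr a v ⟨z, F.zW⟩ ∈ RX a v := ⟨_, Subgroup.mem_subgroupOf.2 F.zc_props.1, rfl⟩

theorem FF.z_central {ξ : XQ a v} (h : ξ ∈ RX a v) : ξ * pr a v ⟨z, F.zW⟩ = pr a v ⟨z, F.zW⟩ * ξ := by
  obtain ⟨w, hw, rfl⟩ := h
  rw [SetLike.mem_coe, Subgroup.mem_subgroupOf] at hw
  rw [← map_mul, ← map_mul]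
  exact congrArg (pr a v) (Subtype.ext (Subgroup.mem_centralizer_singleton_iff.1 (Subgroup.mem_inf.1 hw).1))

end Cfsg.Agent.Fus.HeUniq
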